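import Cfsg.Agent.Lib.AltDoubleCent.CoreZ
import Mathlib.GroupTheory.Perm.Centralizer
import Mathlib.Tactic.IntervalCases

/-!
# The centraliser of a three-cycle acting on the other points

Main results: `self_mem_oddCent`, `Frame.exists_action`, `card_odd_centralizer`.
-/

set_option autoImplicit false
set_option linter.style.haveILetI false

namespace Cfsg.Agent.AltDoubleCent

open Equiv Equiv.Perm

universe u

variable {G : Type u} [Group G] {n : ℕ} {z : G}

/-- An element of odd order lies in the odd core of its centraliser. -/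
lemma self_mem_oddCent [Finite G] {a : G} (ho : Odd (orderOf a)) : a ∈ oddCent a := by
  set H := Subgroup.centralizer ({a} : Set G) with hH
  set aH : H := ⟨a, Subgroup.mem_centralizer_singleton_iff.2 rfl⟩ with haH
  have hn : (Subgroup.zpowers aH).Normal := by
    refine ⟨fun w hw g => ?_⟩
    have hc : Commute g aH := Subtype.ext (Subgroup.mem_centralizer_singleton_iff.1 g.2)
    obtain ⟨i, rfl⟩ := Subgroup.mem_zpowers_iff.1 hw
    rw [(hc.zpow_right i).eq, mul_inv_cancel_right]
    exact zpow_mem (Subgroup.mem_zpowers aH) i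
  refine ⟨aH, Cores.le_pPrimeCore hn ?_ (Subgroup.mem_zpowers aH), rfl⟩
  rw [Nat.card_zpowers, haH, Subgroup.orderOf_mk]
  exact Nat.coprime_two_right.2 ho

namespace Frame

variable [Finite G] (F : Frame G n z) (hn : n ≤ 10) (h8 : 8 ≤ n) {a : G} (ha : Commute a z) (h3 : a ^ 3 = 1)
  (hs : (F.p a).support.card = 3)

include F hn ha h3 hs in
/-- An element of the centraliser is, up to the odd core, in the centraliser of `z`. -/
theorem cycle_split {g : G} (hg : Commute g a) : ∃ r ∈ oddCent a, Commute (r * g) z ∧ Commute (r * g) a := by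
  set s := z * g * z⁻¹ * g⁻¹ with hs'
  have hsm : s ∈ oddCent a := F.oddCent_zStar hn ha h3 hs hg
  have hzs : z * s * z⁻¹ = s⁻¹ := by
    rw [hs', F.z_inv, show z * (z * g * z * g⁻¹) * z = z * z * g * z * g⁻¹ * z by group, F.zz, one_mul,
      mul_inv_rev, mul_inv_rev, mul_inv_rev, inv_inv, F.z_inv]
    simp only [mul_assoc]
  obtain ⟨k, hk⟩ := oddCent_odd hsm
  set r := s ^ (k + 1) with hr
  have hrr : r * r = s := by
    rw [hr, ← pow_add, show k + 1 + (k + 1) = orderOf s + 1 by omega, pow_succ, pow_orderOf_eq_one, one_mul]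
  refine ⟨r, pow_mem hsm _, mul_inv_eq_iff_eq_mul.1 ?_ |> Commute.symm, (oddCent_le (pow_mem hsm _)).mul_left hg⟩
  have hzr : z * r * z⁻¹ = r⁻¹ := by rw [hr, ← conj_pow, hzs, inv_pow]
  calc z * (r * g) * z⁻¹ = (z * r * z⁻¹) * (z * g * z⁻¹ * g⁻¹) * g := by group
    _ = r * g := by rw [hzr, ← hs', ← hrr, inv_mul_cancel_left]

include F hn h8 ha h3 hs in
/-- The centraliser of a three-cycle acts on the other points. -/
theorem exists_action : ∃ ρ : Subgroup.centralizer ({a} : Set G) →* Perm {k : Fin n // k ∉ (F.p a).support},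
    (∀ g, sign (ρ g) = 1) ∧
    (∀ g : Subgroup.centralizer ({a} : Set G), ρ g = 1 → Odd (orderOf (g : G)) → (g : G) ∈ oddCent a) ∧
    (∀ g : Subgroup.centralizer ({a} : Set G), Commute (g : G) z → ∀ t, (ρ g t : Fin n) = F.p (g : G) t) := by
  classical
  set H := Subgroup.centralizer ({a} : Set G) with hH
  set q := F.p a with hq
  have hcm : ∀ g : H, Commute (g : G) a := fun g => Subgroup.mem_centralizer_singleton_iff.1 g.2
  choose r hr hrz hra using fun g : H => F.cycle_split hn ha h3 hs (hcm g)
  have hcp : ∀ {k : G}, Commute k z → Commute k a → Commute (F.p k) q := fun hkz hka => by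
    have e := congrArg F.p hka.eq
    rw [F.p_mul hkz ha, F.p_mul ha hkz] at e
    exact e
  have hmem : ∀ {k : G}, Commute k z → Commute k a → ∀ t, F.p k t ∉ q.support ↔ t ∉ q.support :=
    fun {k} hkz hka t => by
    have hc : q (F.p k t) = F.p k (q t) :=
      (congrArg (fun e : Perm (Fin n) => e t) (hcp hkz hka).eq).symm
    rw [Perm.mem_support, Perm.mem_support, hc, (F.p k).injective.ne_iff]
  have htriv : ∀ {i : ℤ} {t : Fin n}, t ∉ q.support → F.p (a ^ i) t = t := by
    intro i t ht
    have h1 : a ^ i ∈ Subgroup.zpowers a := zpow_mem (Subgroup.mem_zpowers a) i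
    obtain ⟨m, hm⟩ := (isOfFinOrder_of_finite a).mem_powers_iff_mem_zpowers.2 h1
    rw [← hm, F.p_pow ha]
    exact Equiv.Perm.pow_apply_eq_self_of_apply_eq_self (Perm.notMem_support.1 ht) m
  have key : ∀ {g k : G}, g * k⁻¹ ∈ oddCent a → Commute g z → Commute k z →
      ∀ t : Fin n, t ∉ q.support → F.p k t = t → F.p g t = t := by
    intro g k h hg hk t ht e
    obtain ⟨i, hi⟩ := Subgroup.mem_zpowers_iff.1
      (F.oddCent_cent h8 ha h3 hs h (hg.mul_left hk.inv_left))
    rw [show g = a ^ i * k by rw [hi, inv_mul_cancel_right], F.p_mul (ha.zpow_left i) hk, Perm.mul_apply, e,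
      htriv ht]
  have same : ∀ {g k : G}, g * k⁻¹ ∈ oddCent a → Commute g z → Commute k z → Commute k a →
      ∀ t : Fin n, t ∉ q.support → F.p g t = F.p k t := by
    intro g k h hg hk hka t ht
    obtain ⟨i, hi⟩ := Subgroup.mem_zpowers_iff.1
      (F.oddCent_cent h8 ha h3 hs h (hg.mul_left hk.inv_left))
    rw [show g = a ^ i * k by rw [hi, inv_mul_cancel_right], F.p_mul (ha.zpow_left i) hk, Perm.mul_apply,
      htriv ((hmem hk hka t).2 ht)]
  let f : H → Perm {k : Fin n // k ∉ q.support} := fun g =>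
    (F.p (r g * g)).subtypePerm (hmem (hrz g) (hra g))
  let ρ : H →* Perm {k : Fin n // k ∉ q.support} := MonoidHom.mk' f fun g k => by
    refine Equiv.ext fun t => Subtype.ext ?_
    show F.p (r (g * k) * ((g : G) * (k : G))) (t : Fin n) = F.p (r g * g) (F.p (r k * k) (t : Fin n))
    rw [← Perm.mul_apply, ← F.p_mul (hrz g) (hrz k)]
    refine same ?_ (hrz (g * k)) ((hrz g).mul_left (hrz k)) ((hra g).mul_left (hra k)) t t.2
    rw [Subgroup.coe_mul, show r (g * k) * ((g : G) * (k : G)) * (r g * g * (r k * k))⁻¹ =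
      r (g * k) * ((g : G) * (r k)⁻¹ * (g : G)⁻¹) * (r g)⁻¹ by group]
    exact mul_mem (mul_mem (hr _) (oddCent_norm (hcm g) (inv_mem (hr k)))) (inv_mem (hr g))
  refine ⟨ρ, fun g => ?_, fun g hg ho => ?_, fun g hgz t => ?_⟩
  · -- the cycle commutes with the image, so the image on it is even
    have hcyc : q.IsCycle := (card_support_eq_three_iff.1 hs).isCycle
    set π := F.p (r g * g) with hπ
    have hmem' : ∀ t, π t ∈ q.support ↔ t ∈ q.support := fun t => not_iff_not.1 (hmem (hrz g) (hra g) t)
    have h1 : π = ofSubtype (π.subtypePerm hmem') * ofSubtype (π.subtypePerm (p := fun t => t ∉ q.support) (hmem (hrz g) (hra g))) := by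
      refine Equiv.ext fun t => ?_
      rw [Perm.mul_apply]
      by_cases ht : t ∈ q.support
      · rw [ofSubtype_apply_of_not_mem (π.subtypePerm (p := fun t => t ∉ q.support) (hmem (hrz g) (hra g)))
          (not_not.2 ht)]
        exact (ofSubtype_apply_of_mem (π.subtypePerm hmem') ht).symm
      · rw [ofSubtype_apply_of_mem (π.subtypePerm (p := fun t => t ∉ q.support) (hmem (hrz g) (hra g))) ht]
        exact (ofSubtype_apply_of_not_mem (π.subtypePerm hmem') ((hmem' _).not.2 ht)).symm
    obtain ⟨i, hi⟩ := Subgroup.mem_zpowers_iff.1 ((hcyc.commute_iff.1 (hcp (hrz g) (hra g))).2)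
    have h2 : sign (ofSubtype (π.subtypePerm hmem')) = 1 := by
      rw [← hi, map_zpow, hcyc.sign, hs, show (-(-1 : ℤˣ) ^ 3) = 1 by decide, one_zpow]
    have h3' := congrArg sign h1
    rw [map_mul, h2, one_mul, sign_ofSubtype, show sign π = 1 from F.sign_p _] at h3'
    exact h3'.symm
  · have hfix : ∀ t : Fin n, t ∉ q.support → F.p (r g * g) t = t := fun t ht =>
      congrArg (fun e : Perm {k : Fin n // k ∉ q.support} => (e ⟨t, ht⟩ : Fin n)) hg
    set k := r g * (g : G) with hk
    -- the representative acts as a power of the cycle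
    obtain ⟨hc', hmz⟩ := (card_support_eq_three_iff.1 hs).isCycle.commute_iff.1 (hcp (hrz g) (hra g))
    obtain ⟨i, hi⟩ := Subgroup.mem_zpowers_iff.1 hmz
    have hpk : F.p k = q ^ i := by
      rw [hi]
      refine Equiv.ext fun t => ?_
      by_cases ht : t ∈ q.support
      · exact (ofSubtype_apply_of_mem ((F.p k).subtypePerm hc') ht).symm
      · rw [ofSubtype_apply_of_not_mem _ ht]
        exact hfix t ht
    obtain ⟨m, hm⟩ := (isOfFinOrder_of_finite q).mem_powers_iff_mem_zpowers.2 (zpow_mem (Subgroup.mem_zpowers q) i)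
    have ham : a ^ m ∈ oddCent a := pow_mem (self_mem_oddCent (Odd.of_dvd_nat (by decide : Odd 3)
      (orderOf_dvd_of_pow_eq_one h3))) _
    have hsq : (g : G) * g ∈ oddCent a := by
      have hkk : k * k = a ^ m * a ^ m := by
        rcases F.eq_or (hrz g) (ha.pow_left m) (hpk.trans ((F.p_pow ha m).trans hm).symm) with e | e <;>
          rw [show k = _ from e]
        rw [(ha.symm.pow_right m).symm.mul_mul_mul_comm, F.zz, one_mul]
      have : (g : G) * g = ((r g)⁻¹ * (k * (r g)⁻¹ * k⁻¹)) * (k * k) := by rw [hk]; group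
      rw [this, hkk]
      exact mul_mem (mul_mem (inv_mem (hr g)) (oddCent_norm (hra g) (inv_mem (hr g)))) (mul_mem ham ham)
    obtain ⟨j, hj⟩ := ho
    rw [show (g : G) = ((g : G) * g) ^ (j + 1) by
      rw [← pow_two, ← pow_mul, show 2 * (j + 1) = orderOf (g : G) + 1 by omega, pow_succ, pow_orderOf_eq_one,
        one_mul]]
    exact pow_mem hsq _
  · exact same (by rw [mul_inv_cancel_right]; exact hr g) (hrz g) hgz (hcm g) t t.2

end Frame

/-- Odd centraliser orders of elements of order three of degree at most seven. -/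
lemma card_odd_centralizer {T : Type*} [Fintype T] [DecidableEq T] (hT : Fintype.card T ≤ 7) {e : Perm T}
    (h3 : e ^ 3 = 1) (h1 : e ≠ 1) {d : ℕ} (hd : Odd d)
    (hdvd : d ∣ Nat.card (Subgroup.centralizer ({e} : Set (Perm T)))) : d ≤ 9 := by
  haveI : Fact (Nat.Prime 3) := ⟨Nat.prime_three⟩
  have ht := cycleType_of_pow_prime_eq_one h3
  have hm0 : Multiset.card e.cycleType ≠ 0 := fun h => h1 (card_cycleType_eq_zero.1 h)
  have hle : e.cycleType.sum ≤ Fintype.card T := by rw [sum_cycleType]; exact Finset.card_le_univ _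
  have h := nat_card_centralizer e
  rw [ht] at h
  rw [ht, Multiset.sum_replicate, smul_eq_mul] at hle
  rw [h] at hdvd
  generalize Multiset.card e.cycleType = m at hm0 hle hdvd
  generalize Fintype.card T = t at hT hle hdvd
  obtain ⟨l, rfl⟩ := hd
  have hm : m = 1 ∨ m = 2 := by omega
  rcases hm with rfl | rfl <;> interval_cases t <;>
    simp [Multiset.replicate, Nat.factorial] at hdvd ⊢ <;>
    · have := Nat.le_of_dvd (by norm_num) hdvd
      have hl : l ≤ 36 := by omega
      interval_cases l <;> first | omega | (norm_num at hdvd)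

end Cfsg.Agent.AltDoubleCent
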