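import Cfsg.Agent.Lib.AltDoubleCent.Cross
import Cfsg.Agent.Lib.AltDoubleCent.Action

/-!
# The odd core of the centraliser of a three-cycle around two disjoint cycles

Main results: `Elts.commute_b`, `Elts.card_AJ`, `Elts.b_nontrivial`, `Elts.AJ_index`, `Elts.nine_not`.
-/

set_option autoImplicit false
set_option linter.style.haveILetI false
set_option linter.unusedSectionVars false
set_option maxHeartbeats 1000000

namespace Cfsg.Agent.AltDoubleCent

open Equiv Equiv.Perm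

universe u

variable {G : Type u} [Group G] {n : ℕ} {z : G} {F : Frame G n z}

/-- `(34)(56)`. -/
def qL : Perm (Fin 8) := swap 3 4 * swap 5 6

lemma card_oddCent_odd [Finite G] (g : G) : Odd (Nat.card (oddCent g)) := by
  rw [oddCent, Cores.card_map_subtype, ← Nat.coprime_two_right]
  exact Cores.coprime_card_pPrimeCore 2

/-- Members of a group of order three. -/
lemma pick3 {H : Type*} [Group H] {v g : H} (hv : v ^ 3 = 1) (hg : g ∈ Subgroup.zpowers v) :
    ∃ i : Fin 3, g = v ^ i.val := by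
  obtain ⟨k, rfl⟩ := Subgroup.mem_zpowers_iff.1 hg
  refine ⟨⟨(k % 3).toNat, by omega⟩, ?_⟩
  rw [← zpow_natCast]
  show v ^ k = v ^ ((k % 3).toNat : ℤ)
  rw [Int.toNat_of_nonneg (by omega)]
  conv_lhs => rw [show k = k % 3 + 3 * (k / 3) by omega]
  rw [zpow_add, zpow_mul, zpow_ofNat, hv, one_zpow, mul_one]

namespace Elts

variable {S : Setup F} {x y a b c : G} (E : Elts S x y a b c)
include E

lemma x_four : Four x := by
  obtain ⟨-, -, hyo, hyne⟩ := S.y_facts E.py E.yz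
  exact ⟨z, y, F.orderOf_z, hyo, hyne.symm, E.yz.symm, E.xz.symm, E.xy⟩

variable [Finite G]

lemma b_not_four : ¬ Four b := fun h => by
  have h6 := F.four_card S.hi E.bz E.b3 E.one_lt_three.2.1 h
  rw [E.b_supp] at h6
  omega

/-- A conjugate of `b` is not its product with a power of `a`. -/
lemma conj_b_eq {w : G} (h : w * b * w⁻¹ * b⁻¹ ∈ Subgroup.zpowers a) : Commute w b := by
  obtain ⟨i, hi⟩ := pick3 E.a3 h
  rw [mul_inv_eq_iff_eq_mul] at hi
  by_cases h0 : i = 0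
  · subst h0
    rw [show ((0 : Fin 3) : ℕ) = 0 from rfl, pow_zero, one_mul] at hi
    exact mul_inv_eq_iff_eq_mul.1 hi
  exfalso
  have hv : Commute (a ^ i.val * b) z := (E.az.pow_left _).mul_left E.bz
  have hv3 : (a ^ i.val * b) ^ 3 = 1 := by
    rw [(E.ab.pow_left _).mul_pow, E.b3, ← pow_mul, mul_comm, pow_mul, E.a3, one_pow, one_mul]
  have h6 : (F.p (a ^ i.val * b)).support.card = 6 := by
    rw [F.p_mul (E.az.pow_left _) E.bz, F.p_pow E.az, E.pa, E.pb, ← map_pow, ← map_mul, support_ext8]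
    exact (show ∀ i : Fin 3, i ≠ 0 → (qA ^ i.val * qB).support.card = 6 by decide +kernel) i h0
  obtain ⟨k, -, hk⟩ := S.conj_of_six E.xz E.px E.x3 hv hv3 h6
  have hF := E.x_four
  rw [← hk, ← hi] at hF
  exact E.b_not_four hF.of_conj.of_conj

/-- The part of the odd core of `C(a)` centralising `b`. -/
def AJ (_E : Elts S x y a b c) : Subgroup G := oddCent a ⊓ Subgroup.centralizer {b}

lemma mem_AJ {w : G} : w ∈ E.AJ ↔ w ∈ oddCent a ∧ Commute w b := by
  rw [AJ, Subgroup.mem_inf, Subgroup.mem_centralizer_singleton_iff]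
  rfl

lemma a_mem : a ∈ E.AJ := E.mem_AJ.2 ⟨self_mem_oddCent (odd_of_pow_three E.a3), E.ab⟩

lemma J_le : E.J ≤ E.AJ := fun _ hw => E.mem_AJ.2 ⟨hw.1, oddCent_le hw.2.1⟩

lemma AJ_split {w : G} (hw : w ∈ E.AJ) : ∃ u ∈ Subgroup.zpowers a, ∃ j ∈ E.J, w = u * j := by
  obtain ⟨hwa, hwb⟩ := E.mem_AJ.1 hw
  have hu := (F.oddCent_comm S.le8 E.az E.a3 E.a_supp hwa hwa).2
  set u := z * w * z⁻¹ * w with hu'
  have hu3 : u ^ 3 = 1 := by
    obtain ⟨i, hi⟩ := pick3 E.a3 hu
    rw [hi, ← pow_mul, mul_comm, pow_mul, E.a3, one_pow]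
  obtain ⟨i, hi⟩ := pick3 E.a3 hu
  have cwu : Commute w u := hi ▸ (oddCent_le hwa).pow_right _
  have cub : Commute u b := hi ▸ E.ab.pow_left _
  have cuz : Commute u z := hi ▸ E.az.pow_left _
  have cua : Commute u a := hi ▸ (Commute.refl a).pow_left _
  refine ⟨u⁻¹, inv_mem hu, w * u, E.mem_J ?_ ((oddCent_le hwa).mul_left cua) (hwb.mul_left cub) ?_, ?_⟩
  · exact oddCent_odd (mul_mem hwa (hi ▸ pow_mem (self_mem_oddCent (odd_of_pow_three E.a3)) _))
  · rw [show z * (w * u) * z⁻¹ = z * w * z⁻¹ * (z * u * z⁻¹) by group, cuz.symm.eq, mul_inv_cancel_right,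
      show z * w * z⁻¹ = u * w⁻¹ by rw [hu', mul_inv_cancel_right], mul_inv_rev, mul_assoc, cwu.inv_left.eq,
      ← mul_assoc, ← pow_two, show u ^ 2 = u⁻¹ from eq_inv_of_mul_eq_one_left (by rw [← pow_succ, hu3])]
  · rw [← mul_assoc, ← cwu.inv_right.eq, inv_mul_cancel_right]

lemma J_inter {u : G} (hu : u ∈ Subgroup.zpowers a) (hJ : u ∈ E.J) : u = 1 := by
  obtain ⟨i, rfl⟩ := pick3 E.a3 hu
  have h := hJ.2.2
  rw [(E.az.pow_left i.val).symm.eq, mul_inv_cancel_right, eq_inv_iff_mul_eq_one] at h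
  have h3 : (a ^ i.val) ^ 3 = 1 := by rw [← pow_mul, mul_comm, pow_mul, E.a3, one_pow]
  rwa [pow_succ, pow_two, h, one_mul] at h3

theorem card_AJ : Nat.card E.AJ = 3 * Nat.card E.J := by
  haveI : Fact (Nat.Prime 3) := ⟨Nat.prime_three⟩
  rw [show 3 = Nat.card (Subgroup.zpowers a) by
    rw [Nat.card_zpowers, orderOf_eq_prime E.a3 E.one_lt_three.1], ← Nat.card_prod]
  symm
  refine Nat.card_eq_of_bijective (fun p => (⟨(p.1 : G) * (p.2 : G),
    mul_mem ((Subgroup.zpowers_le.2 E.a_mem) p.1.2) (E.J_le p.2.2)⟩ : E.AJ)) ⟨?_, ?_⟩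
  · rintro ⟨u, v⟩ ⟨u', v'⟩ e
    have e' : (u : G) * v = u' * v' := congrArg Subtype.val e
    have hd : (u' : G)⁻¹ * u = v' * (v : G)⁻¹ := by
      rw [eq_mul_inv_iff_mul_eq, mul_assoc, e', inv_mul_cancel_left]
    have h1 := E.J_inter (mul_mem (inv_mem u'.2) u.2) (hd ▸ mul_mem v'.2 (inv_mem v.2))
    have hu : u = u' := Subtype.ext (inv_mul_eq_one.1 h1).symm
    subst hu
    rw [show v = v' from Subtype.ext (mul_left_cancel e')]
  · intro w
    obtain ⟨u, hu, j, hj, e⟩ := E.AJ_split w.2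
    exact ⟨(⟨u, hu⟩, ⟨j, hj⟩), Subtype.ext e.symm⟩

/-- If `b` centralised the whole odd core then so would `z`. -/
theorem b_nontrivial (hall : oddCent a ≤ E.AJ) : ∀ w ∈ E.J, w = 1 := by
  intro w hw
  obtain ⟨k, hk, hpk⟩ := F.exists_lift (show sign (ext8 S.le8 qL) = 1 by rw [sign_ext8]; decide +kernel)
  have hka : Commute k a := F.commute_of_odd E.az hk (odd_of_pow_three E.a3) (by
    rw [E.pa, hpk]
    exact (show Commute qA qL by show qA * qL = qL * qA; decide +kernel).map (ext8 S.le8))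
  set g := b * (k * b * k⁻¹)⁻¹ with hg
  have hgz : Commute g z := E.bz.mul_left (F.conj_z hk E.bz).inv_left
  have hd : Dbl (F.p g) := by
    have hi' := Fin.castLE_injective S.le8
    refine ⟨Fin.castLE S.le8 3, Fin.castLE S.le8 5, Fin.castLE S.le8 4, Fin.castLE S.le8 6, hi'.ne (by decide),
      hi'.ne (by decide), hi'.ne (by decide), hi'.ne (by decide), hi'.ne (by decide), hi'.ne (by decide), ?_⟩
    rw [hg, F.p_mul E.bz (F.conj_z hk E.bz).inv_left, F.p_inv (F.conj_z hk E.bz), F.p_conj hk E.bz, hpk, E.pb,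
      ← map_inv, ← map_mul, ← map_mul, ← map_inv, ← map_mul,
      show qB * (qL * qB * qL⁻¹)⁻¹ = swap 3 5 * swap 4 6 by decide +kernel, map_mul, ext8_swap, ext8_swap]
  have hwk : Commute w (k * b * k⁻¹) := by
    have h1 := (E.mem_AJ.1 (hall (oddCent_norm hka.inv_left hw.1))).2
    have h2 := commute_conj h1 k
    rwa [show k * (k⁻¹ * w * k⁻¹⁻¹) * k⁻¹ = w by group] at h2
  have hwg : Commute w g := (oddCent_le hw.2.1).mul_right hwk.inv_right
  have hwz : Commute w z := by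
    have := hwg.mul_right hwg
    rwa [F.sq_double hgz hd] at this
  have h1 := hw.2.2
  rw [hwz.symm.eq, mul_inv_cancel_right] at h1
  have h2 : w * w = 1 := mul_eq_one_iff_eq_inv.2 h1
  have h3 := E.J_cube hw
  rwa [pow_succ, pow_two, h2, one_mul] at h3

/-- The index of the part centralising `b` is not three. -/
theorem AJ_index : E.AJ.relIndex (oddCent a) ≠ 3 := by
  intro h3
  set O := oddCent a with hO
  set N : Subgroup O := E.AJ.subgroupOf O with hN
  haveI : N.Normal := ⟨fun w hw g => by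
    rw [hN, Subgroup.mem_subgroupOf] at hw ⊢
    rw [show ((g * w * g⁻¹ : O) : G) = (g : G) * w * (g : G)⁻¹ * (w : G)⁻¹ * w by
      rw [Subgroup.coe_mul, Subgroup.coe_mul, Subgroup.coe_inv, inv_mul_cancel_right]]
    exact mul_mem (Subgroup.zpowers_le.2 E.a_mem (F.oddCent_comm S.le8 E.az E.a3 E.a_supp g.2 w.2).1) hw⟩
  obtain ⟨i, hi, hi2, hia, hib, -, -⟩ := E.exists_iota
  have hn : ∀ w : O, i * (w : G) * i⁻¹ ∈ O := fun w => by
    have := oddCent_conj i w.2
    rwa [hia, oddCent_inv_eq] at this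
  let f : O →* O :=
    { toFun := fun w => ⟨i * w * i⁻¹, hn w⟩
      map_one' := Subtype.ext (by simp)
      map_mul' := fun v w => Subtype.ext (by simp [mul_assoc]) }
  let φ : O ⧸ N →* O ⧸ N := QuotientGroup.map N N f (fun w hw => by
    rw [hN, Subgroup.mem_comap, Subgroup.mem_subgroupOf] at *
    refine E.mem_AJ.2 ⟨hn w, ?_⟩
    have h := commute_conj (E.mem_AJ.1 hw).2 i
    rw [hib] at h
    exact Commute.inv_right_iff.1 h)
  have hff : ∀ q, φ (φ q) = q⁻¹ := fun q => by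
    induction q using QuotientGroup.induction_on with
    | _ w =>
      refine QuotientGroup.eq.2 ?_
      have hm := (F.oddCent_comm S.le8 E.az E.a3 E.a_supp w.2 w.2).2
      obtain ⟨j, hj⟩ := Subgroup.mem_zpowers_iff.1 hm
      rw [hN, Subgroup.mem_subgroupOf]
      show (i * (i * (w : G) * i⁻¹) * i⁻¹)⁻¹ * (w : G)⁻¹ ∈ E.AJ
      rw [show i * (i * (w : G) * i⁻¹) * i⁻¹ = (i * i) * w * (i * i)⁻¹ by group, hi2]
      rw [show (z * (w : G) * z⁻¹)⁻¹ * (w : G)⁻¹ = (w * (z * w * z⁻¹))⁻¹ by group,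
        show (w : G) * (z * w * z⁻¹) = w * (z * w * z⁻¹ * w) * (w : G)⁻¹ by group]
      refine inv_mem (Subgroup.zpowers_le.2 E.a_mem ?_)
      rw [← hj, ((oddCent_le w.2).zpow_right j).eq, mul_inv_cancel_right]
      exact zpow_mem (Subgroup.mem_zpowers a) j
  have hcard : Nat.card (O ⧸ N) = 3 := h3
  haveI : Fact (Nat.Prime 3) := ⟨Nat.prime_three⟩
  obtain ⟨q, hq⟩ := exists_prime_orderOf_dvd_card' (G := O ⧸ N) 3 (by rw [hcard])
  have hgen : ∀ r : O ⧸ N, ∃ m : Fin 3, r = q ^ m.val := fun r => pick3 (by rw [← hq, pow_orderOf_eq_one])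
    (mem_zpowers_of_prime_card hcard (by intro e; rw [e, orderOf_one] at hq; omega))
  obtain ⟨m, hm⟩ := hgen (φ q)
  have h := hff q
  rw [hm, map_pow, hm, ← pow_mul] at h
  have hdvd : orderOf q ∣ m.val * m.val + 1 := orderOf_dvd_of_pow_eq_one (by rw [pow_succ, h, inv_mul_cancel])
  rw [hq] at hdvd
  exact (show ∀ m : Fin 3, ¬ 3 ∣ m.val * m.val + 1 by decide) m hdvd

/-- Elements fixed by `y` transported to `C(z)`. -/
theorem hy_facts {h : G} (hh : h * z * h⁻¹ = y) (hhx : Commute h x)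
    (hy' : h⁻¹ * z * h = y ∨ h⁻¹ * z * h = z * y) {d : G} (hd : d ∈ E.Jfix y) :
    Commute (h⁻¹ * d * h) z ∧ Commute (h⁻¹ * d * h) a ∧ Commute (h⁻¹ * d * h) b ∧ (h⁻¹ * d * h) ^ 3 = 1 ∧
      y * (h⁻¹ * d * h) * y⁻¹ = (h⁻¹ * d * h)⁻¹ ∧ ∀ k : Fin n, k.val < 3 → (F.p (h⁻¹ * d * h) k).val < 3 := by
  obtain ⟨hJ, hdy⟩ := (E.mem_Jfix).1 hd
  set t := h⁻¹ * d * h with ht
  have htz : Commute t z := by
    have := commute_conj hdy h⁻¹
    rwa [inv_inv, show h⁻¹ * y * h = z by rw [← hh]; group] at this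
  have htx : Commute t x :=
    (hhx.inv_left.mul_left (E.xab ▸ (oddCent_le hJ.1).mul_right (oddCent_le hJ.2.1))).mul_left hhx
  have hto : Odd (orderOf t) := by
    rw [ht, show h⁻¹ * d * h = h⁻¹ * d * h⁻¹⁻¹ by rw [inv_inv], orderOf_conj']
    exact E.J_odd hJ
  obtain ⟨ha, hb, h3, hlow⟩ := E.cx_odd htz htx hto
  refine ⟨htz, ha, hb, h3, ?_, hlow⟩
  have e1 : h⁻¹ * z * h * t * (h⁻¹ * z * h)⁻¹ = t⁻¹ := by
    rw [ht, show h⁻¹ * z * h * (h⁻¹ * d * h) * (h⁻¹ * z * h)⁻¹ = h⁻¹ * (z * d * z⁻¹) * h by group, hJ.2.2]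
    group
  rcases hy' with e | e
  · rwa [e] at e1
  · rw [e, show z * y * t * (z * y)⁻¹ = z * (y * t * y⁻¹) * z⁻¹ by group,
      (F.conj_z E.yz htz).symm.eq, mul_inv_cancel_right] at e1
    exact e1

/-- An element inverted by `y` fixing one point of the cycles fixes all six. -/
theorem low_fix {t : G} (htz : Commute t z) (hta : Commute t a) (htb : Commute t b) (hinv : y * t * y⁻¹ = t⁻¹)
    (h0 : F.p t (pt S.lo 0) = pt S.lo 0) : ∀ k : Fin n, k.val < 6 → F.p t k = k := by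
  intro k hk
  have cA : ∀ k, F.p t (ext8 S.le8 qA k) = ext8 S.le8 qA (F.p t k) := by
    have e := congrArg F.p hta.eq
    rw [F.p_mul htz E.az, F.p_mul E.az htz, E.pa] at e
    exact commute_app e
  have cB : ∀ k, F.p t (ext8 S.le8 qB k) = ext8 S.le8 qB (F.p t k) := by
    have e := congrArg F.p htb.eq
    rw [F.p_mul htz E.bz, F.p_mul E.bz htz, E.pb] at e
    exact commute_app e
  have cS : ∀ k, F.p t (ext8 S.le8 qS (F.p t k)) = ext8 S.le8 qS k := by
    have e := congrArg F.p hinv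
    rw [F.p_conj E.yz htz, F.p_inv htz, E.py, mul_inv_eq_iff_eq_mul, eq_inv_mul_iff_mul_eq] at e
    intro k
    exact congrArg (fun r : Perm (Fin n) => r k) e
  set P : Fin 8 → Fin n := Fin.castLE S.le8 with hP
  have hE : ∀ (q : Perm (Fin 8)) (k : Fin 8), ext8 S.le8 q (P k) = P (q k) := fun q k => ext8_apply _ _ _
  have f0 : F.p t (P 0) = P 0 := h0
  have f1 : F.p t (P 1) = P 1 := by rw [show (1 : Fin 8) = qA 0 by decide +kernel, ← hE, cA, f0]
  have f2 : F.p t (P 2) = P 2 := by rw [show (2 : Fin 8) = qA 1 by decide +kernel, ← hE, cA, f1]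
  have f3 : F.p t (P 3) = P 3 := by
    rw [show (3 : Fin 8) = qS 0 by decide +kernel, ← hE]
    have := cS (P 0)
    rwa [f0] at this
  have f4 : F.p t (P 4) = P 4 := by rw [show (4 : Fin 8) = qB 3 by decide +kernel, ← hE, cB, f3]
  have f5 : F.p t (P 5) = P 5 := by rw [show (5 : Fin 8) = qB 4 by decide +kernel, ← hE, cB, f4]
  obtain ⟨j, hj, rfl⟩ : ∃ j : Fin 8, j.val < 6 ∧ P j = k := ⟨⟨k.val, by omega⟩, hk, rfl⟩
  have : j = 0 ∨ j = 1 ∨ j = 2 ∨ j = 3 ∨ j = 4 ∨ j = 5 := by omega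
  rcases this with rfl | rfl | rfl | rfl | rfl | rfl
  exacts [f0, f1, f2, f3, f4, f5]

/-- Some element of a part of order nine goes to a three-cycle. -/
theorem exists_low {h : G} (hh : h * z * h⁻¹ = y) (hhx : Commute h x)
    (hy' : h⁻¹ * z * h = y ∨ h⁻¹ * z * h = z * y) (h9 : Nat.card (E.Jfix y) = 9) :
    ∃ d ∈ E.Jfix y, d ≠ 1 ∧ (F.p (h⁻¹ * d * h)).support.card = 3 := by
  haveI : Fact (Nat.Prime 3) := ⟨Nat.prime_three⟩
  obtain ⟨v, w, hne, e⟩ : ∃ v w : E.Jfix y, v ≠ w ∧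
      F.p (h⁻¹ * (v : G) * h) (pt S.lo 0) = F.p (h⁻¹ * (w : G) * h) (pt S.lo 0) := by
    by_contra hcon
    push Not at hcon
    have hlt : ∀ v : E.Jfix y, (F.p (h⁻¹ * (v : G) * h) (pt S.lo 0)).val < 3 := fun v =>
      (E.hy_facts hh hhx hy' v.2).2.2.2.2.2 _ (by show (0 : ℕ) < 3; norm_num)
    have := Nat.card_le_card_of_injective (β := Fin 3) (fun v => ⟨_, hlt v⟩) (fun v w e => by
      by_contra hne
      exact hcon v w hne (Fin.ext (congrArg (fun k : Fin 3 => k.val) e :)))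
    rw [h9] at this
    simp at this
  set d := (v : G)⁻¹ * (w : G) with hd
  have hdm : d ∈ E.Jfix y := mul_mem (inv_mem v.2) w.2
  obtain ⟨htz, hta, htb, ht3, htinv, -⟩ := E.hy_facts hh hhx hy' hdm
  set t := h⁻¹ * d * h with ht
  obtain ⟨hvz, -, -, -, -, -⟩ := E.hy_facts hh hhx hy' v.2
  obtain ⟨hwz, -, -, -, -, -⟩ := E.hy_facts hh hhx hy' w.2
  have h0 : F.p t (pt S.lo 0) = pt S.lo 0 := by
    rw [show t = (h⁻¹ * (v : G) * h)⁻¹ * (h⁻¹ * (w : G) * h) by rw [ht, hd]; group,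
      F.p_mul hvz.inv_left hwz, Perm.mul_apply, ← e, F.p_inv hvz, ← Perm.mul_apply, inv_mul_cancel, Perm.one_apply]
  have hlow := E.low_fix htz hta htb htinv h0
  have hd1 : d ≠ 1 := fun e => hne (Subtype.ext (inv_mul_eq_one.1 e))
  refine ⟨d, hdm, hd1, ?_⟩
  have h3' : F.p t ^ 3 = 1 := by rw [← F.p_pow htz, ht3, F.p_one]
  have hs := sum_cycleType (F.p t)
  rw [cycleType_of_pow_prime_eq_one h3', Multiset.sum_replicate, smul_eq_mul] at hs
  have hle : (F.p t).support.card ≤ 4 := by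
    refine (Finset.card_le_card_of_injOn (t := (Finset.univ : Finset (Fin 4)))
      (fun k => (⟨(k.val - 6) % 4, Nat.mod_lt _ (by norm_num)⟩ : Fin 4)) (fun k _ => Finset.mem_univ _)
      fun k hk l hl e => ?_).trans (by simp)
    have e' : (k.val - 6) % 4 = (l.val - 6) % 4 := congrArg Fin.val e
    have hk' : ¬ k.val < 6 := fun h => Perm.mem_support.1 hk (hlow k h)
    have hl' : ¬ l.val < 6 := fun h => Perm.mem_support.1 hl (hlow l h)
    have := k.isLt
    have := l.isLt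
    have := S.hi
    exact Fin.ext (by omega)
  have hpos : (F.p t).support.card ≠ 0 := fun h0 => by
    rw [Finset.card_eq_zero, support_eq_empty_iff] at h0
    have ht1 : t = 1 := F.eq_of_odd htz (Commute.one_left z) (odd_of_pow_three ht3) (by simp) (by rw [h0, F.p_one])
    refine hd1 ?_
    rw [show d = h * t * h⁻¹ by rw [ht]; group, ht1, mul_one, mul_inv_cancel]
  show (F.p t).support.card = 3
  omega

/-- The part fixed by `y` does not have order nine. -/
theorem nine_not : Nat.card (E.Jfix y) ≠ 9 := by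
  intro h9
  obtain ⟨h, hh, hhx, hy'⟩ := E.exists_hy
  obtain ⟨d, hd, hd1, hs⟩ := E.exists_low hh hhx hy' h9
  obtain ⟨hdJ, hdy⟩ := (E.mem_Jfix).1 hd
  obtain ⟨htz, -, -, ht3, -, -⟩ := E.hy_facts hh hhx hy' hd
  set t := h⁻¹ * d * h with ht
  have hda : Commute a d := (oddCent_le hdJ.1).symm
  obtain ⟨ρ, hρs, hρker, -⟩ := F.exists_action S.hi S.le8 htz ht3 hs
  haveI : Fact (Nat.Prime 3) := ⟨Nat.prime_three⟩
  have hza : Nat.card (Subgroup.zpowers a) = 3 := by
    rw [Nat.card_zpowers, orderOf_eq_prime E.a3 E.one_lt_three.1]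
  -- index of the centraliser of `d`
  have hcomm : ∀ {w : G}, w ∈ oddCent a → w * d * w⁻¹ * d⁻¹ ∈ Subgroup.zpowers a := fun hw =>
    (F.oddCent_comm S.le8 E.az E.a3 E.a_supp hw hdJ.1).1
  let φ : oddCent a →* Subgroup.zpowers a := MonoidHom.mk' (fun w => ⟨_, hcomm w.2⟩) fun v w => Subtype.ext (by
    show (v : G) * w * d * ((v : G) * w)⁻¹ * d⁻¹ =
      (v : G) * d * (v : G)⁻¹ * d⁻¹ * ((w : G) * d * (w : G)⁻¹ * d⁻¹)
    obtain ⟨i, hi⟩ := Subgroup.mem_zpowers_iff.1 (hcomm w.2)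
    have cv : Commute ((w : G) * d * (w : G)⁻¹ * d⁻¹) v := hi ▸ ((oddCent_le v.2).zpow_right i).symm
    have cd : Commute ((w : G) * d * (w : G)⁻¹ * d⁻¹) d := hi ▸ hda.zpow_left i
    calc (v : G) * w * d * ((v : G) * w)⁻¹ * d⁻¹
        = (v : G) * ((w : G) * d * (w : G)⁻¹ * d⁻¹) * (d * (v : G)⁻¹ * d⁻¹) := by group
      _ = ((w : G) * d * (w : G)⁻¹ * d⁻¹) * ((v : G) * (d * (v : G)⁻¹ * d⁻¹)) := by
        rw [← cv.eq, mul_assoc]
      _ = ((v : G) * (d * (v : G)⁻¹ * d⁻¹)) * ((w : G) * d * (w : G)⁻¹ * d⁻¹) :=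
        (cv.mul_right ((cd.mul_right cv.inv_right).mul_right cd.inv_right)).eq
      _ = _ := by group)
  have hker : ∀ q : φ.ker, Commute ((q : oddCent a) : G) d := fun q =>
    mul_inv_eq_iff_eq_mul.1 (mul_inv_eq_one.1 (congrArg Subtype.val q.2))
  -- the action of the transported group
  have hmemH : ∀ q : φ.ker, h⁻¹ * ((q : oddCent a) : G) * h ∈ Subgroup.centralizer ({t} : Set G) := fun q => by
    refine Subgroup.mem_centralizer_singleton_iff.2 ?_
    have := commute_conj (hker q) h⁻¹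
    rwa [inv_inv] at this
  let ψ : φ.ker →* Subgroup.centralizer ({t} : Set G) :=
    MonoidHom.mk' (fun q => ⟨_, hmemH q⟩) fun v w => Subtype.ext (by
      show h⁻¹ * (((v : oddCent a) : G) * ((w : oddCent a) : G)) * h =
        h⁻¹ * ((v : oddCent a) : G) * h * (h⁻¹ * ((w : oddCent a) : G) * h)
      group)
  let θ := ρ.comp ψ
  have hK : ∀ q : θ.ker, ∃ u ∈ Subgroup.zpowers d, ∃ v ∈ E.Jfix (z * y),
      (((q : φ.ker) : oddCent a) : G) = u * v := by
    intro q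
    set g := (((q : φ.ker) : oddCent a) : G) with hgdef
    have hga : g ∈ oddCent a := ((q : φ.ker) : oddCent a).2
    have hodd : Odd (orderOf (h⁻¹ * g * h)) := by
      rw [show h⁻¹ * g * h = h⁻¹ * g * h⁻¹⁻¹ by rw [inv_inv], orderOf_conj']
      exact oddCent_odd hga
    have hgt : h⁻¹ * g * h ∈ oddCent t := hρker _ q.2 hodd
    have hinvd := (F.oddCent_comm S.le8 htz ht3 hs hgt hgt).2
    obtain ⟨i, hi⟩ := Subgroup.mem_zpowers_iff.1 hinvd
    have hyd : y * g * y⁻¹ * g = d ^ i := by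
      have := congrArg (fun v => h * v * h⁻¹) hi
      beta_reduce at this
      rw [← conj_zpow, show h * t * h⁻¹ = d by rw [ht]; group] at this
      rw [this, ← hh]; group
    have hgb : g ∈ oddCent b := by
      have h1 := oddCent_conj y hga
      rw [E.yab] at h1
      have h2 : y * g * y⁻¹ * g ∈ oddCent b := by rw [hyd]; exact zpow_mem hdJ.2.1 i
      have := mul_mem (inv_mem h1) h2
      rwa [inv_mul_cancel_left] at this
    have hgJ : g ∈ E.J := ⟨hga, hgb, mul_eq_one_iff_eq_inv.1 (E.ab_inter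
      (F.oddCent_comm S.le8 E.az E.a3 E.a_supp hga hga).2 (F.oddCent_comm S.le8 E.bz E.b3 E.b_supp hgb hgb).2)⟩
    obtain ⟨u, v, hu, hv, e⟩ := E.J_split hgJ
    obtain ⟨huJ, huy⟩ := (E.mem_Jfix).1 hu
    obtain ⟨hvJ, hvy⟩ := (E.mem_Jfix).1 hv
    have hyv : y * v * y⁻¹ = v⁻¹ := by
      have e1 : z * y * v * (z * y)⁻¹ = v := by rw [← hvy.eq, mul_inv_cancel_right]
      rw [← hvJ.2.2]
      conv_rhs => rw [← e1]
      rw [show z * (z * y * v * (z * y)⁻¹) * z⁻¹ = (z * z) * y * v * ((z * z) * y)⁻¹ by group, F.zz, one_mul]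
    have huu : u * u ∈ Subgroup.zpowers d := by
      refine ⟨i, ?_⟩
      show d ^ i = u * u
      rw [← hyd, e, show y * (u * v) * y⁻¹ = y * u * y⁻¹ * (y * v * y⁻¹) by group, ← huy.eq, mul_inv_cancel_right,
        hyv, (E.J_comm huJ hvJ).eq]
      group
    exact ⟨u, mem_of_sq_mem (E.J_odd huJ) huu, v, hv, e⟩
  have hkc : Nat.card θ.ker ≤ 27 := by
    choose u hu v hv e using hK
    refine (Nat.card_le_card_of_injective (β := Subgroup.zpowers d × E.Jfix (z * y))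
      (fun q => (⟨u q, hu q⟩, ⟨v q, hv q⟩)) fun p q h => ?_).trans ?_
    · have h1 : u p = u q := congrArg (fun r => (r.1 : G)) h
      have h2 : v p = v q := congrArg (fun r => (r.2 : G)) h
      exact Subtype.ext (Subtype.ext (Subtype.ext (by rw [e p, e q, h1, h2])))
    · rw [Nat.card_prod, Nat.card_zpowers, E.card_Jfix_zy, h9, orderOf_eq_prime (E.J_cube hdJ) hd1]
  -- the image
  set aK : φ.ker := ⟨⟨a, self_mem_oddCent (odd_of_pow_three E.a3)⟩, Subtype.ext (by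
    show a * d * a⁻¹ * d⁻¹ = 1
    rw [hda.eq, mul_inv_cancel_right, mul_inv_cancel])⟩ with haK
  have hcen : ∀ q : φ.ker, Commute q aK := fun q => Subtype.ext (Subtype.ext (oddCent_le (q : oddCent a).2))
  set e := θ aK with he
  have he1 : e ≠ 1 := by
    intro e1
    obtain ⟨u, hu, v, hv, huv⟩ := hK ⟨aK, e1⟩
    have hJa : a ∈ E.J := by
      show (((⟨aK, e1⟩ : θ.ker) : φ.ker) : oddCent a).1 ∈ E.J
      rw [huv]
      exact mul_mem ((Subgroup.zpowers_le.2 hdJ) hu) ((E.mem_Jfix).1 hv).1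
    exact E.one_lt_three.1 (E.J_inter (Subgroup.mem_zpowers a) hJa)
  have he3 : e ^ 3 = 1 := by
    rw [he, ← map_pow, show aK ^ 3 = 1 from Subtype.ext (Subtype.ext E.a3), map_one]
  have hrc : θ.range ≤ Subgroup.centralizer ({e} : Set _) := by
    rintro _ ⟨q, rfl⟩
    exact Subgroup.mem_centralizer_singleton_iff.2 ((hcen q).map θ).eq
  have hodd : Odd (Nat.card θ.range) :=
    Odd.of_dvd_nat (Odd.of_dvd_nat (card_oddCent_odd a) (Subgroup.card_subgroup_dvd_card φ.ker))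
      (Subgroup.card_range_dvd θ)
  have hr9 : Nat.card θ.range ≤ 9 := by
    refine card_odd_centralizer ?_ he3 he1 hodd (Subgroup.card_dvd_of_le hrc)
    rw [Fintype.card_subtype_compl, Fintype.card_fin, Fintype.card_coe, hs]
    have := S.hi
    omega
  have c1 : Nat.card φ.ker ≤ 243 := by
    rw [← θ.ker.card_mul_index, Subgroup.index_ker]
    exact Nat.mul_le_mul hkc hr9
  have c2 : Nat.card (oddCent a) ≤ 729 := by
    rw [← φ.ker.card_mul_index, Subgroup.index_ker]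
    exact Nat.mul_le_mul c1 ((Subgroup.card_le_card_group φ.range).trans hza.le)
  have hJ81 : Nat.card E.J = 81 := by rw [E.card_J, h9]
  have hAle : E.AJ ≤ oddCent a := inf_le_left
  have hprod := Subgroup.relIndex_mul_relIndex ⊥ E.AJ (oddCent a) bot_le hAle
  rw [Subgroup.relIndex_bot_left, Subgroup.relIndex_bot_left] at hprod
  rw [E.card_AJ, hJ81] at hprod
  have hodd' : Odd (E.AJ.relIndex (oddCent a)) :=
    Odd.of_dvd_nat (card_oddCent_odd a) ⟨_, by rw [← hprod, mul_comm]⟩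
  have : E.AJ.relIndex (oddCent a) = 1 ∨ E.AJ.relIndex (oddCent a) = 3 := by
    obtain ⟨r, hr⟩ := hodd'
    omega
  rcases this with h1 | h3
  · exact hd1 (E.b_nontrivial (Subgroup.relIndex_eq_one.1 h1) d hdJ)
  · exact E.AJ_index h3

end Elts

end Cfsg.Agent.AltDoubleCent
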