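import Cfsg.Agent.Lib.AltDoubleCent.KleinRot

/-!
# An elementary group of order sixteen rotated by an element of order three

Main result: `Elts.small_false`.
-/

set_option autoImplicit false
set_option linter.style.haveILetI false
set_option maxHeartbeats 1000000
set_option maxRecDepth 100000

namespace Cfsg.Agent.AltDoubleCent

open Equiv Equiv.Perm

universe u

variable {G : Type u} [Group G] {n : ℕ} {z : G} {F : Frame G n z}

/-- The quadruple spanned by `z`, `y` and the orbit of `w`. -/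
def quad (z y x w : G) : Fin 4 → G := ![z, y, w, x * w * x⁻¹]

/-- The images of a quadruple. -/
def qimg (p : Perm (Fin 8)) : Fin 4 → Perm (Fin 8) := ![1, qS, p, qX * p * qX⁻¹]

lemma phi_zero {M : Type*} [Monoid M] (v : Fin 4 → M) : phi v 0 = 1 := by simp [phi]

lemma phi_one {M : Type*} [Monoid M] (v : Fin 4 → M) : phi v 1 = v 0 := by simp [phi]

lemma phi_two {M : Type*} [Monoid M] (v : Fin 4 → M) : phi v 2 = v 1 := by simp [phi]

lemma phi_four {M : Type*} [Monoid M] (v : Fin 4 → M) : phi v 4 = v 2 := by simp [phi]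

lemma phi_eight {M : Type*} [Monoid M] (v : Fin 4 → M) : phi v 8 = v 3 := by simp [phi]

theorem cand_span : ∀ p ∈ [qV, qX * qV * qX⁻¹, qX * (qX * qV * qX⁻¹) * qX⁻¹],
    ∃ k, phi (qimg qV) k = p := by
  intro p hp
  simp only [List.mem_cons, List.not_mem_nil, or_false] at hp
  rcases hp with rfl | rfl | rfl
  · exact ⟨4, by decide +kernel⟩
  · exact ⟨8, by decide +kernel⟩
  · exact ⟨12, by decide +kernel⟩

theorem cand_span' : ∀ p ∈ [qW, qX * qW * qX⁻¹, qX * (qX * qW * qX⁻¹) * qX⁻¹],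
    (∀ q ∈ [qW, qX * qW * qX⁻¹, qX * (qX * qW * qX⁻¹) * qX⁻¹], ∃ k, phi (qimg p) k = q) ∧
      ∀ k, phi (qimg p) k ≠ qV := by
  intro p hp
  simp only [List.mem_cons, List.not_mem_nil, or_false] at hp
  refine ⟨fun q hq => ?_, fun k e => ?_⟩
  · simp only [List.mem_cons, List.not_mem_nil, or_false] at hq
    rcases hp with rfl | rfl | rfl <;> rcases hq with rfl | rfl | rfl <;>
      first
        | exact ⟨4, by decide +kernel⟩
        | exact ⟨8, by decide +kernel⟩
        | exact ⟨12, by decide +kernel⟩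
  · have e0 : phi (qimg p) k 0 = qV 0 := by rw [e]
    have e2 : phi (qimg p) k 2 = qV 2 := by rw [e]
    rcases hp with rfl | rfl | rfl <;> revert e0 e2 <;> clear e <;> revert k <;> decide +kernel

/-- The table of the images of the standard quadruple. -/
def tb (k : Fin 16) (j : Fin 8) : Fin 8 :=
  ![0, 3, 1, 4, 6, 7, 2, 5] ((![0, 2, 6, 1, 3, 7, 4, 5] j : Fin 8) ^^^ ⟨k.val / 2, by omega⟩)

theorem qV_tab : ∀ k j, phi (qimg qV) k j = tb k j := by decide +kernel

theorem tb_comm : ∀ k l j, tb k (tb l j) = tb l (tb k j) := by decide +kernel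

theorem qV_comm (k l : Fin 16) : phi (qimg qV) k * phi (qimg qV) l = phi (qimg qV) l * phi (qimg qV) k :=
  Equiv.ext fun j => by
    rw [Perm.mul_apply, Perm.mul_apply, qV_tab, qV_tab, qV_tab, qV_tab]
    exact tb_comm k l j

theorem qV_sign (k : Fin 16) : sign (phi (qimg qV) k) = 1 := by
  rw [map_phi]
  have h : ∀ i, sign (qimg qV i) = 1 := by
    intro i
    fin_cases i <;> decide +kernel
  simp [phi, h]

theorem qV_img_ker : ∀ k, phi (qimg qV) k = 1 → k = 0 ∨ k = 1 := by
  intro k e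
  have e0 : phi (qimg qV) k 0 = 0 := by rw [e, Perm.one_apply]
  rw [qV_tab] at e0
  exact (show ∀ k, tb k 0 = 0 → k = 0 ∨ k = 1 by decide +kernel) k e0

theorem qV_img_eval (j : Fin 8) : ∃ k, phi (qimg qV) k 0 = j :=
  ((show ∀ j : Fin 8, ∃ k, tb k 0 = j by decide +kernel) j).imp fun k h => (qV_tab k 0).trans h

theorem qW_facts : ∀ q ∈ [qW, qX * qW * qX⁻¹, qX * (qX * qW * qX⁻¹) * qX⁻¹],
    q * q = 1 ∧ q.support.card = 8 ∧ q * qS = qS * q ∧ (qS * q).support.card = 8 ∧
      (q * (qX * q * qX⁻¹)).support.card = 8 ∧ q * (qX * q * qX⁻¹) = qX * q * qX⁻¹ * q := by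
  intro q hq
  simp only [List.mem_cons, List.not_mem_nil, or_false] at hq
  rcases hq with rfl | rfl | rfl <;>
    refine ⟨?_, ?_, ?_, ?_, ?_, ?_⟩ <;> decide +kernel

/-- Two points fixed elsewhere: a permutation commuting with a regular group. -/
lemma ext8_of_commute {h8 : 8 ≤ n} (hn : n ≤ 10) {q : Perm (Fin n)} (hs : sign q = 1) {p : Perm (Fin 8)}
    (h : ∀ k, Commute q (ext8 h8 (phi (qimg qV) k))) (hp : ∀ k, Commute p (phi (qimg qV) k))
    (h0 : q (Fin.castLE h8 0) = Fin.castLE h8 (p 0)) : q = ext8 h8 p := by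
  have hlow : ∀ j : Fin 8, q (Fin.castLE h8 j) = Fin.castLE h8 (p j) := by
    intro j
    obtain ⟨k, hk⟩ := qV_img_eval j
    rw [← hk, ← ext8_apply h8, commute_app (h k), h0, ext8_apply, ← commute_app (hp k)]
  set r := q * (ext8 h8 p)⁻¹ with hr
  have hr8 : ∀ k : Fin n, k.val < 8 → r k = k := by
    intro k hk
    obtain ⟨j, rfl⟩ : ∃ j : Fin 8, Fin.castLE h8 j = k := ⟨⟨k.val, hk⟩, rfl⟩
    rw [hr, Perm.mul_apply, ← map_inv, ext8_apply, hlow, ← Perm.mul_apply, mul_inv_cancel, Perm.one_apply]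
  suffices r = 1 by rw [hr, mul_inv_eq_one] at this; exact this
  by_contra hne
  have hsub : r.support ⊆ Finset.univ.filter fun k : Fin n => 8 ≤ k.val := fun k hk => by
    rw [Finset.mem_filter]
    refine ⟨Finset.mem_univ _, ?_⟩
    by_contra hc
    exact Perm.mem_support.1 hk (hr8 k (by omega))
  have hcard : (Finset.univ.filter fun k : Fin n => 8 ≤ k.val).card ≤ 2 := by
    refine (Finset.card_le_card_of_injOn (fun k => k.val) (t := Finset.Ico 8 10) (fun k hk => ?_)
      (fun _ _ _ _ e => Fin.ext e)).trans (by simp)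
    have h1 := (Finset.mem_filter.1 hk).2
    have h2 := k.isLt
    simp only [Finset.mem_coe, Finset.mem_Ico]
    omega
  have h2 := two_le_card_support_of_ne_one hne
  have hc := (Finset.card_le_card hsub).trans hcard
  obtain ⟨u, v, huv, e⟩ := card_support_eq_two.1 (le_antisymm hc h2)
  have hsr : sign r = 1 := by rw [hr, map_mul, map_inv, hs, sign_ext8]; exact (by
    have : sign q = sign r * sign (ext8 h8 p) := by rw [← map_mul, hr, inv_mul_cancel_right]
    rcases Int.units_eq_one_or (sign p) with e' | e'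
    · rw [e']; decide
    · exfalso
      obtain ⟨k, hk⟩ := qV_img_eval (p 0)
      have hd := qV_sign
      have hpk : p = phi (qimg qV) k := Equiv.ext fun j => by
        obtain ⟨l, hl⟩ := qV_img_eval j
        rw [← hl, commute_app (hp l), ← hk]
        rw [← Perm.mul_apply, ← Perm.mul_apply, qV_comm]
      rw [hpk, hd k] at e'
      exact absurd e' (by decide))
  rw [e, sign_swap huv] at hsr
  exact absurd hsr (by decide)

namespace Frame

variable (F : Frame G n z)

/-- The image of a product selected by bits. -/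
lemma p_phi {v : Fin 4 → G} (hv : ∀ i, Commute (v i) z) (k : Fin 16) :
    Commute (phi v k) z ∧ F.p (phi v k) = phi (fun i => F.p (v i)) k := by
  have h0 := (hv 0).pow_left (k.val % 2)
  have h1 := (hv 1).pow_left (k.val / 2 % 2)
  have h2 := (hv 2).pow_left (k.val / 4 % 2)
  have h3 := (hv 3).pow_left (k.val / 8 % 2)
  refine ⟨((h0.mul_left h1).mul_left h2).mul_left h3, ?_⟩
  unfold phi
  rw [F.p_mul ((h0.mul_left h1).mul_left h2) h3, F.p_mul (h0.mul_left h1) h2, F.p_mul h0 h1, F.p_pow (hv 0),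
    F.p_pow (hv 1), F.p_pow (hv 2), F.p_pow (hv 3)]

/-- An element conjugating an involution to its multiple by a power of `z`. -/
lemma conj_sign {u k : G} (hu : Commute u z) (hk : Commute k z) {e : ℕ} (he : e ≤ 1)
    (hu2 : F.p u * F.p u = 1) (hu8 : (F.p u).support.card = 8) (hk2 : F.p k * F.p k = 1)
    (hk4 : (F.p k).support.card = 4) (hc : Commute (F.p k) (F.p u)) (hs : (F.p k * F.p u).support.card = 4 + 4 * e) :
    k * u * k⁻¹ = z ^ e * u := by
  have hh : F.p (k * u) * F.p (k * u) = 1 := by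
    rw [F.p_mul hk hu, hc.symm.mul_mul_mul_comm, hk2, hu2, one_mul]
  have key : ∀ {g : G}, Commute g z → F.p g * F.p g = 1 → ∀ m, (F.p g).support.card = 4 * m → g * g = z ^ m := by
    intro g hg h2 m hm
    rw [F.p_eq hg] at h2 hm
    obtain ⟨j, hj, hj2⟩ := F.dc.invol_support_aux _ _ h2 hm
    have : j = m := by omega
    subst this
    exact (congrArg Subtype.val hj2).trans (Subgroup.coe_pow _ _ _)
  have h1 := key (hk.mul_left hu) hh (1 + e) (by rw [F.p_mul hk hu, hs]; ring)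
  have hk' := key hk hk2 1 (by rw [hk4])
  rw [pow_one] at hk'
  have hu' : u⁻¹ = u := inv_eq_of_mul_eq_one_right (F.sq_eight hu hu2 hu8)
  have e1 : k * u * k⁻¹ = k * u * (k * u) * (u⁻¹ * (k * k)⁻¹) := by group
  rw [e1, h1, hk', hu', F.z_inv, hu.eq, ← mul_assoc]
  obtain rfl | rfl : e = 0 ∨ e = 1 := by omega
  · rw [add_zero, pow_one, F.zz, pow_zero]
  · rw [show 1 + 1 = 2 from rfl, pow_two, F.zz, one_mul, pow_one]

end Frame

namespace Elts

variable {S : Setup F} {x y a b c : G} (E : Elts S x y a b c)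
include E

lemma px_conj {w : G} {p : Perm (Fin 8)} (hw : Commute w z) (hp : F.p w = ext8 S.le8 p) :
    F.p (x * w * x⁻¹) = ext8 S.le8 (qX * p * qX⁻¹) := by
  rw [F.p_conj E.xz hw, E.px, hp, map_mul, map_mul, map_inv]

/-- The conditions on a spanning involution. -/
lemma quad_facts {w : G} {p : Perm (Fin 8)} (hw : Commute w z) (hp : F.p w = ext8 S.le8 p)
    (hp2 : p * p = 1) (hp8 : p.support.card = 8) (hc : p * qS = qS * p)
    (hs8 : (qS * p).support.card = 8) (hx8 : (p * (qX * p * qX⁻¹)).support.card = 8)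
    (hxc : p * (qX * p * qX⁻¹) = qX * p * qX⁻¹ * p) :
    (∀ i, quad z y x w i * quad z y x w i = 1) ∧ (∀ i j, Commute (quad z y x w i) (quad z y x w j)) ∧
      (∀ i, Commute (quad z y x w i) z) ∧ ∀ i, F.p (quad z y x w i) = ext8 S.le8 (qimg p i) := by
  obtain ⟨hy2, hy8, hyo, -⟩ := S.y_facts E.py E.yz
  have hv := F.conj_z E.xz hw
  have hpv := E.px_conj hw hp
  have w2 : F.p w * F.p w = 1 := by rw [hp, ← map_mul, hp2, map_one]
  have w8 : (F.p w).support.card = 8 := by rw [hp, support_ext8, hp8]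
  have v2 : F.p (x * w * x⁻¹) * F.p (x * w * x⁻¹) = 1 := by
    rw [hpv, ← map_mul, show qX * p * qX⁻¹ * (qX * p * qX⁻¹) = qX * (p * p) * qX⁻¹ by group, hp2, mul_one,
      mul_inv_cancel, map_one]
  have v8 : (F.p (x * w * x⁻¹)).support.card = 8 := by rw [hpv, support_ext8, card_support_conj, hp8]
  have cyw : Commute y w := F.commute_eight E.yz hw hy2 hy8 w2 w8
    (by rw [E.py, hp, ← map_mul, ← map_mul, (show Commute p qS from hc).mul_mul_mul_comm,
      show qS * qS = 1 by decide +kernel, hp2, one_mul, map_one])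
    (by rw [E.py, hp, ← map_mul, support_ext8, hs8])
  have cwv : Commute w (x * w * x⁻¹) := F.commute_eight hw hv w2 w8 v2 v8
    (by rw [hp, hpv, ← map_mul, ← map_mul, (show Commute (qX * p * qX⁻¹) p from hxc.symm).mul_mul_mul_comm, hp2,
      show qX * p * qX⁻¹ * (qX * p * qX⁻¹) = qX * (p * p) * qX⁻¹ by group, hp2, mul_one, mul_inv_cancel, one_mul,
      map_one])
    (by rw [hp, hpv, ← map_mul, support_ext8, hx8])
  have cyv : Commute y (x * w * x⁻¹) := by
    have := commute_conj cyw x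
    rwa [show x * y * x⁻¹ = y by rw [← E.xy.eq, mul_inv_cancel_right]] at this
  refine ⟨fun i => ?_, fun i j => ?_, fun i => ?_, fun i => ?_⟩
  · fin_cases i
    exacts [F.zz, sq_of_orderOf_two hyo, F.sq_eight hw w2 w8, F.sq_eight hv v2 v8]
  · fin_cases i <;> fin_cases j
    exacts [Commute.refl _, E.yz.symm, hw.symm, hv.symm, E.yz, Commute.refl _, cyw, cyv, hw, cyw.symm,
      Commute.refl _, cwv, hv, cyv.symm, cwv.symm, Commute.refl _]
  · fin_cases i
    exacts [Commute.refl _, E.yz, hw, hv]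
  · fin_cases i
    exacts [F.p_z.trans (map_one _).symm, E.py, hp, hpv]

lemma p_phi_quad {w : G} {p : Perm (Fin 8)} (h3 : ∀ i, Commute (quad z y x w i) z)
    (h4 : ∀ i, F.p (quad z y x w i) = ext8 S.le8 (qimg p i)) (k : Fin 16) :
    Commute (phi (quad z y x w) k) z ∧ F.p (phi (quad z y x w) k) = ext8 S.le8 (phi (qimg p) k) := by
  obtain ⟨h, e⟩ := F.p_phi h3 k
  refine ⟨h, e.trans ?_⟩
  rw [map_phi, funext h4]

/-- Membership in the span of a quadruple is decided by the image. -/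
lemma mem_span {w g : G} {p : Perm (Fin 8)} (h1 : ∀ i, quad z y x w i * quad z y x w i = 1)
    (h2 : ∀ i j, Commute (quad z y x w i) (quad z y x w j)) (h3 : ∀ i, Commute (quad z y x w i) z)
    (h4 : ∀ i, F.p (quad z y x w i) = ext8 S.le8 (qimg p i)) (hg : Commute g z) {k : Fin 16}
    (hk : F.p g = ext8 S.le8 (phi (qimg p) k)) : ∃ l, g = phi (quad z y x w) l := by
  obtain ⟨hc, e⟩ := E.p_phi_quad h3 h4 k
  rcases F.eq_or hg hc (hk.trans e.symm) with h | h
  · exact ⟨k, h⟩
  · exact ⟨1 ^^^ k, by rw [phi_xor h1 h2, phi_one]; exact h⟩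

variable [Finite G] (hJ : ∀ w, InJ z a b w → w = 1)
include hJ

/-- No two disjoint three-cycles of a frame of degree nine or ten have a small centraliser. -/
theorem small_false : False := by
  obtain ⟨hy2, hy8, hyo, hyne⟩ := S.y_facts E.py E.yz
  have hyy := sq_of_orderOf_two hyo
  have hx1 : x ≠ 1 := fun e => by
    have := S.x_support E.px
    rw [e, F.p_one, support_one] at this
    simp at this
  obtain ⟨s0, s0x, s03, s0z, s0y⟩ := E.exists_rot hJ
  -- the first spanning involution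
  obtain ⟨v, hv, hpv⟩ := F.exists_lift (show sign (ext8 S.le8 qV) = 1 by rw [sign_ext8]; decide +kernel)
  obtain ⟨v1, hv1, hpv1, hnorm⟩ : ∃ v1, Commute v1 z ∧ F.p v1 = ext8 S.le8 qV ∧
      v1 * (x * v1 * x⁻¹) * (x * (x * v1 * x⁻¹) * x⁻¹) = 1 := by
    have hpp : F.p (v * (x * v * x⁻¹) * (x * (x * v * x⁻¹) * x⁻¹)) = 1 := by
      rw [F.p_mul (hv.mul_left (F.conj_z E.xz hv)) (F.conj_z E.xz (F.conj_z E.xz hv)),
        F.p_mul hv (F.conj_z E.xz hv), E.px_conj (F.conj_z E.xz hv) (E.px_conj hv hpv), E.px_conj hv hpv, hpv,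
        ← map_mul, ← map_mul, show qV * (qX * qV * qX⁻¹) * (qX * (qX * qV * qX⁻¹) * qX⁻¹) = 1 by decide +kernel,
        map_one]
    rcases (F.ker ((hv.mul_left (F.conj_z E.xz hv)).mul_left (F.conj_z E.xz (F.conj_z E.xz hv)))).1 hpp with e | e
    · exact ⟨v, hv, hpv, e⟩
    · refine ⟨z * v, (Commute.refl z).mul_left hv, by rw [F.p_mul (Commute.refl z) hv, F.p_z, one_mul, hpv], ?_⟩
      have c1 : x * (z * v) * x⁻¹ = z * (x * v * x⁻¹) := by
        rw [← mul_assoc, E.xz.eq]; simp only [mul_assoc]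
      have c2 : x * (z * (x * v * x⁻¹)) * x⁻¹ = z * (x * (x * v * x⁻¹) * x⁻¹) := by
        rw [← mul_assoc, E.xz.eq]; simp only [mul_assoc]
      have hx' := F.conj_z E.xz hv
      rw [c1, c2, hv.mul_mul_mul_comm, F.zz, one_mul, ← mul_assoc,
        ((hv.mul_left hx')).eq, mul_assoc z, e, F.zz]
  obtain ⟨q1, q2, q3, q4⟩ := E.quad_facts hv1 hpv1 (by decide +kernel) (by decide +kernel) (by decide +kernel)
    (by decide +kernel) (by decide +kernel) (by decide +kernel)
  set Q := quad z y x v1 with hQ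
  have hQz : ∀ k, Commute (phi Q k) z ∧ F.p (phi Q k) = ext8 S.le8 (phi (qimg qV) k) := E.p_phi_quad q3 q4
  have inj0 : ∀ k, phi Q k = 1 → k = 0 := by
    intro k e
    have h := (hQz k).2
    rw [e, F.p_one] at h
    rcases qV_img_ker k (ext8_injective S.le8 (h.symm.trans (map_one _).symm)) with rfl | rfl
    · rfl
    · rw [phi_one] at e
      exact absurd e F.z_ne
  have hxQ : ∀ i, x * Q i * x⁻¹ = phi Q (![1, 2, 8, 12] i) := by
    intro i
    fin_cases i
    · exact (show x * z * x⁻¹ = z by rw [E.xz.eq, mul_inv_cancel_right]).trans (phi_one Q).symm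
    · exact (show x * y * x⁻¹ = y by rw [← E.xy.eq, mul_inv_cancel_right]).trans (phi_two Q).symm
    · exact (phi_eight Q).symm
    · show x * (x * v1 * x⁻¹) * x⁻¹ = phi Q 12
      rw [eq_inv_of_mul_eq_one_right hnorm, show (12 : Fin 16) = 4 ^^^ 8 by decide, phi_xor q1 q2, phi_four,
        phi_eight]
      exact inv_eq_of_mul_eq_one_right (by
        show v1 * (x * v1 * x⁻¹) * (Q 2 * Q 3) = 1
        show Q 2 * Q 3 * (Q 2 * Q 3) = 1
        rw [(q2 3 2).mul_mul_mul_comm, q1 2, q1 3, one_mul])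
  have hXphi := conj_phi q1 q2 hxQ
  -- classification of the conjugates
  have cand : ∀ {g : G}, Commute g x → Commute (g * v1 * g⁻¹) z → Commute (g * v1 * g⁻¹) y →
      g * v1 * g⁻¹ ≠ z → (y * (g * v1 * g⁻¹)) ≠ 1 → (y * (g * v1 * g⁻¹)) ≠ z →
      (g * v1 * g⁻¹ * (x * (g * v1 * g⁻¹) * x⁻¹)) ≠ z →
      ∃ p : Perm (Fin 8), F.p (g * v1 * g⁻¹) = ext8 S.le8 p ∧ p ∈ [qV, qX * qV * qX⁻¹, qX * (qX * qV * qX⁻¹) * qX⁻¹,
        qW, qX * qW * qX⁻¹, qX * (qX * qW * qX⁻¹) * qX⁻¹] := by
    intro g hgx hwz hwy hwne hyw1 hywne hwxne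
    set w := g * v1 * g⁻¹ with hw
    have hgxi : g⁻¹ * x * g = x := by rw [mul_assoc, ← hgx.eq, ← mul_assoc, inv_mul_cancel, one_mul]
    have hcc : ∀ u : G, x * (g * u * g⁻¹) * x⁻¹ = g * (x * u * x⁻¹) * g⁻¹ := fun u => by
      rw [show g * (x * u * x⁻¹) * g⁻¹ = (g * x * g⁻¹) * (g * u * g⁻¹) * (g * x * g⁻¹)⁻¹ by group,
        hgx.eq, mul_inv_cancel_right]
    have hxw : x * w * x⁻¹ = g * Q 3 * g⁻¹ := hcc v1
    have hw2 : orderOf w = 2 := by
      rw [hw, orderOf_conj']
      exact orderOf_two_of_sq (q1 2) fun e => by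
        have : phi Q 4 = 1 := (phi_four Q).trans e
        exact absurd (inj0 4 this) (by decide)
    have eight : ∀ {u : G}, Commute u z → u * u = 1 → u ≠ 1 → u ≠ z → F.p u * F.p u = 1 ∧ (F.p u).support.card = 8 := by
      intro u hu h2 h1 hne
      obtain ⟨hs, h8, hpos⟩ := F.invol_support hu (orderOf_two_of_sq h2 h1) hne
      have := (Finset.card_le_univ (F.p u).support).trans_eq (Fintype.card_fin n)
      have := S.hi
      exact ⟨hs, by omega⟩
    have hwx' : Commute (x * w * x⁻¹) z := F.conj_z E.xz hwz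
    have hww : w * w = 1 := sq_of_orderOf_two hw2
    obtain ⟨w2, w8⟩ := eight hwz hww (fun e => by rw [e, orderOf_one] at hw2; omega) hwne
    have cwx : Commute w (x * w * x⁻¹) := by rw [hxw]; exact commute_conj (q2 2 3) g
    have hwxsq : x * w * x⁻¹ * (x * w * x⁻¹) = 1 := by
      rw [show x * w * x⁻¹ * (x * w * x⁻¹) = x * (w * w) * x⁻¹ by group, hww, mul_one, mul_inv_cancel]
    obtain ⟨-, wx8⟩ := eight (hwz.mul_left hwx') (by rw [cwx.symm.mul_mul_mul_comm, hww, hwxsq, one_mul])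
      (fun e => by
        have e' : g * (Q 2 * Q 3) * g⁻¹ = 1 := by
          rw [show g * (Q 2 * Q 3) * g⁻¹ = g * Q 2 * g⁻¹ * (g * Q 3 * g⁻¹) by group, ← hxw]
          exact e
        rw [conj_eq_one_iff, ← phi_four Q, ← phi_eight Q, ← phi_xor q1 q2] at e'
        exact absurd (inj0 _ e') (by decide)) hwxne
    obtain ⟨-, yw8⟩ := eight (E.yz.mul_left hwz) (by rw [hwy.mul_mul_mul_comm, hyy, hww, one_mul]) hyw1 hywne
    have hprod : w * (x * w * x⁻¹) * (x * (x * w * x⁻¹) * x⁻¹) = 1 := by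
      rw [hxw, hcc, hw, show g * v1 * g⁻¹ * (g * Q 3 * g⁻¹) * (g * (x * Q 3 * x⁻¹) * g⁻¹) =
        g * (v1 * Q 3 * (x * Q 3 * x⁻¹)) * g⁻¹ by group]
      exact conj_eq_one_iff.2 hnorm
    have hpx' : F.p (x * w * x⁻¹) = ext8 S.le8 qX * F.p w * (ext8 S.le8 qX)⁻¹ := by rw [F.p_conj E.xz hwz, E.px]
    have hpp : F.p w * (ext8 S.le8 qX * F.p w * (ext8 S.le8 qX)⁻¹) *
        (ext8 S.le8 qX * (ext8 S.le8 qX * F.p w * (ext8 S.le8 qX)⁻¹) * (ext8 S.le8 qX)⁻¹) = 1 := by
      have := congrArg F.p hprod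
      rw [F.p_mul (hwz.mul_left hwx') (F.conj_z E.xz hwx'), F.p_mul hwz hwx', F.p_conj E.xz hwx', hpx', E.px,
        F.p_one] at this
      exact this
    have hcS : Commute (F.p w) (ext8 S.le8 qS) := by
      have := congrArg F.p hwy.eq
      rw [F.p_mul hwz E.yz, F.p_mul E.yz hwz, E.py] at this
      exact this
    have hfix : ∀ k : Fin n, 8 ≤ k.val → F.p w k = k := by
      intro k hk
      have hge : ∀ l : Fin n, 8 ≤ l.val → 8 ≤ (F.p w l).val := fun l hl => by
        by_contra hc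
        have hh := commute_app hcS l
        rw [ext8_apply_ge _ _ _ hl] at hh
        obtain ⟨j, hj⟩ : ∃ j : Fin 8, Fin.castLE S.le8 j = F.p w l := ⟨⟨(F.p w l).val, by omega⟩, rfl⟩
        rw [← hj, ext8_apply] at hh
        exact (show ∀ j : Fin 8, j ≠ qS j by decide +kernel) j (Fin.castLE_injective _ hh)
      have e := congrArg (fun r : Perm (Fin n) => r k) hpp
      simp only [Perm.mul_apply, ← map_inv, Perm.one_apply] at e
      rw [ext8_apply_ge _ qX⁻¹ k hk, ext8_apply_ge _ qX⁻¹ k hk, ext8_apply_ge _ qX _ (hge k hk),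
        ext8_apply_ge _ qX _ (hge k hk), ext8_apply_ge _ qX⁻¹ _ (hge k hk), ext8_apply_ge _ qX _ (hge _ (hge k hk))] at e
      rw [← Perm.mul_apply (F.p w) (F.p w), w2, Perm.one_apply] at e
      exact e
    obtain ⟨p, hp⟩ := exists_ext8 S.le8 (F.p w) hfix
    refine ⟨p, hp, cand_of_conds p (ext8_injective S.le8 (by rw [map_mul, ← hp, w2, map_one]))
      (ext8_injective S.le8 (by rw [map_mul, map_mul, ← hp]; exact hcS.eq))
      (by rw [← support_ext8 S.le8, ← hp, w8]) (ext8_injective S.le8 ?_) ?_ ?_⟩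
    · simp only [map_mul, map_inv, map_one, ← hp]
      exact hpp
    · rw [← support_ext8 S.le8, map_mul, map_mul, map_mul, map_inv, ← hp, ← hpx', ← F.p_mul hwz hwx']
      exact wx8
    · rw [← support_ext8 S.le8, map_mul, ← hp, ← E.py, ← F.p_mul E.yz hwz]
      exact yw8
  -- `s0` and its square keep the span
  have szy : s0 * (z * y) * s0⁻¹ = z := by
    rw [show s0 * (z * y) * s0⁻¹ = s0 * z * s0⁻¹ * (s0 * y * s0⁻¹) by group, s0z, s0y, ← mul_assoc, E.yz.eq,
      mul_assoc, hyy, mul_one]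
  have hv1V : ∀ {l : Fin 16}, l = 1 ∨ l = 2 ∨ l = 3 → v1 ≠ phi Q l := by
    intro l hl e
    have := congrArg F.p e
    rw [hpv1, (hQz l).2] at this
    have e0 := congrArg (fun r : Perm (Fin 8) => r 0) (ext8_injective _ this)
    simp only [qV_tab] at e0
    exact (show ∀ l : Fin 16, (l = 1 ∨ l = 2 ∨ l = 3) → qV 0 ≠ tb l 0 by decide +kernel) l hl e0
  have hzyphi : z * y = phi Q 3 := by
    rw [show (3 : Fin 16) = 1 ^^^ 2 by decide, phi_xor q1 q2, phi_one, phi_two]; rfl
  have candP : ∀ {g : G}, Commute g x → (g⁻¹ * z * g = y ∨ g⁻¹ * z * g = z * y) →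
      (g⁻¹ * y * g = z ∨ g⁻¹ * y * g = z * y) →
      ∃ p : Perm (Fin 8), F.p (g * v1 * g⁻¹) = ext8 S.le8 p ∧ Commute (g * v1 * g⁻¹) z ∧ p ∈ [qV, qX * qV * qX⁻¹,
        qX * (qX * qV * qX⁻¹) * qX⁻¹, qW, qX * qW * qX⁻¹, qX * (qX * qW * qX⁻¹) * qX⁻¹] := by
    intro g hgx hgz hgy
    have back : ∀ {u t : G}, g * u * g⁻¹ = t → u = g⁻¹ * t * g := fun e => by rw [← e]; group
    have cz : Commute v1 (g⁻¹ * z * g) := by
      rcases hgz with e | e <;> rw [e]
      exacts [q2 2 1, hv1.mul_right (q2 2 1)]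
    have cy : Commute v1 (g⁻¹ * y * g) := by
      rcases hgy with e | e <;> rw [e]
      exacts [hv1, hv1.mul_right (q2 2 1)]
    have cz' := commute_conj cz g
    rw [show g * (g⁻¹ * z * g) * g⁻¹ = z by group] at cz'
    have cy' := commute_conj cy g
    rw [show g * (g⁻¹ * y * g) * g⁻¹ = y by group] at cy'
    have hzw : g⁻¹ * z * g = phi Q 2 ∨ g⁻¹ * z * g = phi Q 3 := by
      rw [← hzyphi, phi_two]; exact hgz
    have hyw : g⁻¹ * y * g = phi Q 1 ∨ g⁻¹ * y * g = phi Q 3 := by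
      rw [← hzyphi, phi_one]; exact hgy
    obtain ⟨p, hp, hpm⟩ := cand hgx cz' cy'
      (fun e => by
        rcases hzw with h | h
        · exact hv1V (Or.inr (Or.inl rfl)) ((back e).trans h)
        · exact hv1V (Or.inr (Or.inr rfl)) ((back e).trans h))
      (fun e => by
        have e' : g * v1 * g⁻¹ = y := by
          rw [eq_inv_of_mul_eq_one_right e]; exact inv_eq_of_mul_eq_one_right hyy
        rcases hyw with h | h
        · exact hv1V (Or.inl rfl) ((back e').trans h)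
        · exact hv1V (Or.inr (Or.inr rfl)) ((back e').trans h))
      (fun e => by
        have e' : g * v1 * g⁻¹ = z * y := by
          rw [← E.yz.eq]
          calc g * v1 * g⁻¹ = y * (y * (g * v1 * g⁻¹)) := by rw [← mul_assoc, hyy, one_mul]
            _ = y * z := by rw [e]
        have hb := back e'
        rw [show g⁻¹ * (z * y) * g = g⁻¹ * z * g * (g⁻¹ * y * g) by group] at hb
        rcases hzw with h | h <;> rcases hyw with h' | h' <;> rw [h, h', ← phi_xor q1 q2] at hb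
        · exact hv1V (Or.inr (Or.inr (by decide))) hb
        · exact hv1V (Or.inl (by decide)) hb
        · exact hv1V (Or.inr (Or.inl (by decide))) hb
        · have h0 : v1 = 1 := by rw [hb, show (3 : Fin 16) ^^^ 3 = 0 by decide, phi_zero]
          exact absurd (inj0 4 ((phi_four Q).trans h0)) (by decide))
      (fun e => by
        have e' : g * (Q 2 * Q 3) * g⁻¹ = z := by
          refine Eq.trans ?_ e
          rw [show x * (g * v1 * g⁻¹) * x⁻¹ = (x * g) * v1 * (x * g)⁻¹ by group, ← hgx.eq]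
          show g * (v1 * (x * v1 * x⁻¹)) * g⁻¹ = _
          group
        have hb := back e'
        rw [← phi_four Q, ← phi_eight Q, ← phi_xor q1 q2] at hb
        rcases hzw with h | h <;> rw [h] at hb <;>
          exact absurd ((qV_tab _ 0).symm.trans ((congrArg (fun r : Perm (Fin 8) => r 0)
            (ext8_injective S.le8 (((hQz _).2.symm.trans (congrArg F.p hb)).trans (hQz _).2))).trans (qV_tab _ 0)))
            (by decide +kernel))
    exact ⟨p, hp, cz', hpm⟩
  have split : ∀ {p : Perm (Fin 8)}, p ∈ [qV, qX * qV * qX⁻¹, qX * (qX * qV * qX⁻¹) * qX⁻¹, qW, qX * qW * qX⁻¹,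
      qX * (qX * qW * qX⁻¹) * qX⁻¹] → p ∈ [qV, qX * qV * qX⁻¹, qX * (qX * qV * qX⁻¹) * qX⁻¹] ∨
      p ∈ [qW, qX * qW * qX⁻¹, qX * (qX * qW * qX⁻¹) * qX⁻¹] := by
    intro p hp
    simp only [List.mem_cons, List.not_mem_nil, or_false] at hp ⊢
    rcases hp with h | h | h | h | h | h <;> simp only [h, true_or, or_true]
  have keep : ∀ {g : G}, Commute g x → g * z * g⁻¹ = y → g * y * g⁻¹ = z * y →
      (∃ k, g * v1 * g⁻¹ = phi Q k) → ∀ k, ∃ l, g * phi Q k * g⁻¹ = phi Q l := by
    rintro g hgx hgz hgy ⟨k, hk⟩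
    refine fun j => ⟨_, conj_phi q1 q2 (f := ![2, 3, k, lin ![1, 2, 8, 12] k]) (fun i => ?_) j⟩
    fin_cases i
    · exact hgz.trans (phi_two Q).symm
    · exact hgy.trans hzyphi
    · exact hk
    · show g * (x * v1 * x⁻¹) * g⁻¹ = phi Q (lin ![1, 2, 8, 12] k)
      rw [← hXphi, ← hk, show x * (g * v1 * g⁻¹) * x⁻¹ = (x * g) * v1 * (x * g)⁻¹ by group, ← hgx.eq]
      group
  have s0i : s0⁻¹ = s0 * s0 := inv_eq_of_mul_eq_one_right (by rw [← mul_assoc, ← pow_three', s03])
  have hinv : ∀ {u t : G}, s0 * u * s0⁻¹ = t → s0⁻¹ * t * s0 = u := fun e => by rw [← e]; group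
  obtain ⟨k1, hk1⟩ : ∃ k, s0 * v1 * s0⁻¹ = phi Q k := by
    obtain ⟨p, hp, hpz, hpm⟩ := candP s0x (Or.inr (hinv szy)) (Or.inl (hinv s0z))
    obtain ⟨p', hp', hp'z, hpm'⟩ := candP (s0x.mul_left s0x)
      (Or.inl (by rw [← s0i, inv_inv]; exact s0z)) (Or.inr (by rw [← s0i, inv_inv]; exact s0y))
    rcases split hpm with h | h
    · obtain ⟨k, hk⟩ := cand_span p h
      exact E.mem_span q1 q2 q3 q4 hpz (hp.trans (by rw [hk]))
    rcases split hpm' with h' | h'
    · obtain ⟨k, hk⟩ := cand_span p' h'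
      obtain ⟨l, hl⟩ := E.mem_span q1 q2 q3 q4 hp'z (hp'.trans (by rw [hk]))
      have hrot : s0 * s0 * z * (s0 * s0)⁻¹ = z * y ∧ s0 * s0 * y * (s0 * s0)⁻¹ = z := by
        constructor
        · rw [show s0 * s0 * z * (s0 * s0)⁻¹ = s0 * (s0 * z * s0⁻¹) * s0⁻¹ by group, s0z, s0y]
        · rw [show s0 * s0 * y * (s0 * s0)⁻¹ = s0 * (s0 * y * s0⁻¹) * s0⁻¹ by group, s0y, szy]
      have hkeep2 : ∀ j, ∃ i, s0 * s0 * phi Q j * (s0 * s0)⁻¹ = phi Q i := by
        refine fun j => ⟨_, conj_phi q1 q2 (f := ![3, 1, l, lin ![1, 2, 8, 12] l]) (fun i => ?_) j⟩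
        fin_cases i
        · exact hrot.1.trans hzyphi
        · exact hrot.2.trans (phi_one Q).symm
        · exact hl
        · show s0 * s0 * (x * v1 * x⁻¹) * (s0 * s0)⁻¹ = phi Q (lin ![1, 2, 8, 12] l)
          rw [← hXphi, ← hl, show x * (s0 * s0 * v1 * (s0 * s0)⁻¹) * x⁻¹ =
            (x * (s0 * s0)) * v1 * (x * (s0 * s0))⁻¹ by group, ← (s0x.mul_left s0x).eq]
          group
      obtain ⟨i, hi⟩ := hkeep2 l
      refine ⟨i, ?_⟩
      rw [← hi, ← hl, show s0 * s0 * (s0 * s0 * v1 * (s0 * s0)⁻¹) * (s0 * s0)⁻¹ =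
        (s0 * s0 * s0 * s0) * v1 * (s0 * s0 * s0 * s0)⁻¹ by group, ← pow_three', s03, one_mul]
    · exfalso
      set w1 := s0 * v1 * s0⁻¹ with hw1
      obtain ⟨c1, c2, c3, c4, c5, c6⟩ := qW_facts p h
      obtain ⟨r1, r2, r3, r4⟩ := E.quad_facts hpz hp c1 c2 c3 c4 c5 c6
      obtain ⟨hspan, hnot⟩ := cand_span' p h
      obtain ⟨k, hk⟩ := hspan p' h'
      obtain ⟨l, hl⟩ := E.mem_span r1 r2 r3 r4 hp'z (hp'.trans (by rw [hk]))
      set R := quad z y x w1 with hR
      have hxR : ∀ i, x * R i * x⁻¹ = phi R (![1, 2, 8, 12] i) := by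
        intro i
        fin_cases i
        · exact (show x * z * x⁻¹ = z by rw [E.xz.eq, mul_inv_cancel_right]).trans (phi_one R).symm
        · exact (show x * y * x⁻¹ = y by rw [← E.xy.eq, mul_inv_cancel_right]).trans (phi_two R).symm
        · exact (phi_eight R).symm
        · show x * (x * w1 * x⁻¹) * x⁻¹ = phi R 12
          have hn : w1 * (x * w1 * x⁻¹) * (x * (x * w1 * x⁻¹) * x⁻¹) = 1 := by
            have hcc : ∀ u : G, x * (s0 * u * s0⁻¹) * x⁻¹ = s0 * (x * u * x⁻¹) * s0⁻¹ := fun u => by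
              rw [show x * (s0 * u * s0⁻¹) * x⁻¹ = (x * s0) * u * (x * s0)⁻¹ by group, ← s0x.eq]; group
            rw [hw1, hcc, hcc, show s0 * v1 * s0⁻¹ * (s0 * (x * v1 * x⁻¹) * s0⁻¹) *
              (s0 * (x * (x * v1 * x⁻¹) * x⁻¹) * s0⁻¹) =
              s0 * (v1 * (x * v1 * x⁻¹) * (x * (x * v1 * x⁻¹) * x⁻¹)) * s0⁻¹ by group]
            exact conj_eq_one_iff.2 hnorm
          rw [eq_inv_of_mul_eq_one_right hn, show (12 : Fin 16) = 4 ^^^ 8 by decide, phi_xor r1 r2, phi_four,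
            phi_eight]
          refine inv_eq_of_mul_eq_one_right ?_
          show R 2 * R 3 * (R 2 * R 3) = 1
          rw [(r2 3 2).mul_mul_mul_comm, r1 2, r1 3, one_mul]
      have hkeepR : ∀ j, ∃ i, s0 * phi R j * s0⁻¹ = phi R i := by
        refine fun j => ⟨_, conj_phi r1 r2 (f := ![2, 3, l, lin ![1, 2, 8, 12] l]) (fun i => ?_) j⟩
        fin_cases i
        · exact s0z.trans (phi_two R).symm
        · refine s0y.trans ?_
          show z * y = phi R 3
          rw [show (3 : Fin 16) = 1 ^^^ 2 by decide, phi_xor r1 r2, phi_one, phi_two]; rfl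
        · show s0 * (s0 * v1 * s0⁻¹) * s0⁻¹ = phi R l
          rw [← hl]; group
        · show s0 * (x * w1 * x⁻¹) * s0⁻¹ = phi R (lin ![1, 2, 8, 12] l)
          rw [← conj_phi r1 r2 hxR l, ← hl, hw1,
            show x * (s0 * s0 * v1 * (s0 * s0)⁻¹) * x⁻¹ = (x * s0) * (s0 * v1 * s0⁻¹) * (x * s0)⁻¹ by group, ← s0x.eq]
          group
      obtain ⟨i, hi⟩ := hkeepR l
      have e : phi R i = v1 := by
        rw [← hi, ← hl, show s0 * (s0 * s0 * v1 * (s0 * s0)⁻¹) * s0⁻¹ = (s0 * s0 * s0) * v1 * (s0 * s0 * s0)⁻¹ by group,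
          ← pow_three', s03]
        group
      have e' := congrArg F.p e
      rw [(E.p_phi_quad r3 r4 i).2, hpv1] at e'
      exact hnot i (ext8_injective _ e')
  -- normalise the rotation
  obtain ⟨s, sx, s3, sz, sy, sv⟩ : ∃ s, Commute s x ∧ s ^ 3 = 1 ∧ s * z * s⁻¹ = y ∧ s * y * s⁻¹ = z * y ∧
      s * v1 * s⁻¹ = v1 := by
    have hX := hXphi k1
    have hX2 := hXphi (lin ![1, 2, 8, 12] k1)
    have hk0 : k1 ≠ 0 := fun e => by
      rw [e, phi_zero, conj_eq_one_iff] at hk1
      exact absurd (inj0 4 ((phi_four Q).trans hk1)) (by decide)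
    have hsum : k1 ^^^ lin ![1, 2, 8, 12] k1 ^^^ lin ![1, 2, 8, 12] (lin ![1, 2, 8, 12] k1) = 0 := by
      refine inj0 _ ?_
      have hcc : ∀ u : G, x * (s0 * u * s0⁻¹) * x⁻¹ = s0 * (x * u * x⁻¹) * s0⁻¹ := fun u => by
        rw [show x * (s0 * u * s0⁻¹) * x⁻¹ = (x * s0) * u * (x * s0)⁻¹ by group, ← s0x.eq]; group
      rw [phi_xor q1 q2, phi_xor q1 q2, ← hX2, ← hX, ← hk1, hcc, hcc, show s0 * v1 * s0⁻¹ *
        (s0 * (x * v1 * x⁻¹) * s0⁻¹) * (s0 * (x * (x * v1 * x⁻¹) * x⁻¹) * s0⁻¹) =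
        s0 * (v1 * (x * v1 * x⁻¹) * (x * (x * v1 * x⁻¹) * x⁻¹)) * s0⁻¹ by group]
      exact conj_eq_one_iff.2 hnorm
    have mk : ∀ m : ℕ, x ^ m * phi Q k1 * (x ^ m)⁻¹ = v1 →
        ∃ s, Commute s x ∧ s ^ 3 = 1 ∧ s * z * s⁻¹ = y ∧ s * y * s⁻¹ = z * y ∧ s * v1 * s⁻¹ = v1 := by
      intro m hm
      refine ⟨x ^ m * s0, ((Commute.refl x).pow_left m).mul_left s0x, ?_, ?_, ?_, ?_⟩
      · rw [(s0x.symm.pow_left m).mul_pow, ← pow_mul, mul_comm, pow_mul, E.x3, one_pow, one_mul, s03]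
      · rw [show x ^ m * s0 * z * (x ^ m * s0)⁻¹ = x ^ m * (s0 * z * s0⁻¹) * (x ^ m)⁻¹ by group, s0z,
          (E.xy.symm.pow_left m).eq, mul_inv_cancel_right]
      · rw [show x ^ m * s0 * y * (x ^ m * s0)⁻¹ = x ^ m * (s0 * y * s0⁻¹) * (x ^ m)⁻¹ by group, s0y,
          ((E.xz.mul_right E.xy.symm).pow_left m).eq, mul_inv_cancel_right]
      · rw [show x ^ m * s0 * v1 * (x ^ m * s0)⁻¹ = x ^ m * (s0 * v1 * s0⁻¹) * (x ^ m)⁻¹ by group, hk1, hm]
    rcases fix_U k1 hsum hk0 with e | e | e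
    · exact mk 0 (by rw [e, phi_four]; show x ^ 0 * v1 * (x ^ 0)⁻¹ = v1; group)
    · exact mk 1 (by rw [pow_one, hX, e, phi_four]; rfl)
    · exact mk 2 (by
        rw [pow_two, show x * x * phi Q k1 * (x * x)⁻¹ = x * (x * phi Q k1 * x⁻¹) * x⁻¹ by group, hX, hX2, e,
          phi_four]; rfl)
  -- three transvections
  have lift4 : ∀ q : Perm (Fin 8), sign q = 1 → ∃ g, Commute g z ∧ F.p g = ext8 S.le8 q := fun q hq =>
    F.exists_lift (by rw [sign_ext8, hq])
  obtain ⟨t, ht, hpt⟩ := lift4 qT (by decide +kernel)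
  obtain ⟨t2, ht2, hpt2⟩ := lift4 qT2 (by decide +kernel)
  obtain ⟨t3, ht3, hpt3⟩ := lift4 qT3 (by decide +kernel)
  have conj_fix : ∀ {g : G} {q : Perm (Fin 8)}, Commute g z → F.p g = ext8 S.le8 q → q * q = 1 →
      q.support.card = 4 → ∀ (k : Fin 16) (e : ℕ), e ≤ 1 → (phi (qimg qV) k).support.card = 8 →
      phi (qimg qV) k * phi (qimg qV) k = 1 → q * phi (qimg qV) k = phi (qimg qV) k * q →
      (q * phi (qimg qV) k).support.card = 4 + 4 * e → g * phi Q k * g⁻¹ = phi Q ((if e = 1 then 1 else 0) ^^^ k) := by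
    intro g q hg hpg hq2 hq4 k e he h8 h2 hc hs
    obtain ⟨hkz, hkp⟩ := hQz k
    rw [F.conj_sign hkz hg he (by rw [hkp, ← map_mul, h2, map_one]) (by rw [hkp, support_ext8, h8])
      (by rw [hpg, ← map_mul, hq2, map_one]) (by rw [hpg, support_ext8, hq4])
      (by rw [hpg, hkp]; exact (show Commute q (phi (qimg qV) k) from hc).map (ext8 S.le8))
      (by rw [hpg, hkp, ← map_mul, support_ext8, hs]), phi_xor q1 q2]
    obtain rfl | rfl : e = 0 ∨ e = 1 := by omega
    · rw [if_neg (by decide), phi_zero, pow_zero]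
    · rw [if_pos rfl, phi_one, pow_one]; rfl
  have conj_move : ∀ {g : G} {q : Perm (Fin 8)}, Commute g z → F.p g = ext8 S.le8 q → ∀ k l : Fin 16,
      q * phi (qimg qV) k * q⁻¹ = phi (qimg qV) l →
      ∃ d : Bool, g * phi Q k * g⁻¹ = phi Q ((if d then 1 else 0) ^^^ l) := by
    intro g q hg hpg k l hql
    rcases F.eq_or (F.conj_z hg (hQz k).1) (hQz l).1 (by
      rw [F.p_conj hg (hQz k).1, (hQz k).2, (hQz l).2, hpg, ← map_inv, ← map_mul, ← map_mul, hql]) with h | h
    · exact ⟨false, by rw [h, if_neg Bool.false_ne_true, phi_xor q1 q2, phi_zero, one_mul]⟩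
    · exact ⟨true, by rw [h, if_pos rfl, phi_xor q1 q2, phi_one]; rfl⟩
  have ey : y = phi Q 2 := (phi_two Q).symm
  have e4 : v1 = phi Q 4 := (phi_four Q).symm
  have e8 : x * v1 * x⁻¹ = phi Q 8 := (phi_eight Q).symm
  obtain ⟨dt, hdt⟩ := conj_move ht hpt 8 12 (by decide +kernel)
  obtain ⟨dt2, hdt2⟩ := conj_move ht2 hpt2 2 6 (by decide +kernel)
  obtain ⟨dt3, hdt3⟩ := conj_move ht3 hpt3 8 10 (by decide +kernel)
  set M := gens dt dt2 dt3 with hM
  let Γ : Fin 5 → G := ![x, s, t, t2, t3]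
  have fixz : ∀ {g : G}, Commute g z → g * z * g⁻¹ = phi Q 1 := fun hg => by
    rw [phi_one, hg.eq, mul_inv_cancel_right]; rfl
  have hΓ : ∀ g i, Γ g * Q i * (Γ g)⁻¹ = phi Q (M g i) := by
    intro g i
    fin_cases g
    · rw [show M ⟨0, by norm_num⟩ = ![1, 2, 8, 12] from rfl]; exact hxQ i
    · fin_cases i
      · exact sz.trans (phi_two Q).symm
      · exact sy.trans hzyphi
      · exact sv.trans (phi_four Q).symm
      · show s * (x * v1 * x⁻¹) * s⁻¹ = phi Q 8
        rw [phi_eight, show s * (x * v1 * x⁻¹) * s⁻¹ = (s * x) * v1 * (s * x)⁻¹ by group, sx.eq,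
          show x * s * v1 * (x * s)⁻¹ = x * (s * v1 * s⁻¹) * x⁻¹ by group, sv]
        rfl
    · fin_cases i
      · exact fixz ht
      · show t * y * t⁻¹ = phi Q 3
        rw [ey]
        exact conj_fix ht hpt (by decide +kernel) (by decide +kernel) 2 1 le_rfl (by decide +kernel)
          (by decide +kernel) (by decide +kernel) (by decide +kernel)
      · show t * v1 * t⁻¹ = phi Q 4
        rw [e4]
        exact conj_fix ht hpt (by decide +kernel) (by decide +kernel) 4 0 zero_le_one (by decide +kernel)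
          (by decide +kernel) (by decide +kernel) (by decide +kernel)
      · show t * (x * v1 * x⁻¹) * t⁻¹ = phi Q (if dt then 13 else 12)
        rw [e8, hdt]
        cases dt <;> rfl
    · fin_cases i
      · exact fixz ht2
      · show t2 * y * t2⁻¹ = phi Q (if dt2 then 7 else 6)
        rw [ey, hdt2]
        cases dt2 <;> rfl
      · show t2 * v1 * t2⁻¹ = phi Q 4
        rw [e4]
        exact conj_fix ht2 hpt2 (by decide +kernel) (by decide +kernel) 4 0 zero_le_one (by decide +kernel)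
          (by decide +kernel) (by decide +kernel) (by decide +kernel)
      · show t2 * (x * v1 * x⁻¹) * t2⁻¹ = phi Q 9
        rw [e8]
        exact conj_fix ht2 hpt2 (by decide +kernel) (by decide +kernel) 8 1 le_rfl (by decide +kernel)
          (by decide +kernel) (by decide +kernel) (by decide +kernel)
    · fin_cases i
      · exact fixz ht3
      · show t3 * y * t3⁻¹ = phi Q 2
        rw [ey]
        exact conj_fix ht3 hpt3 (by decide +kernel) (by decide +kernel) 2 0 zero_le_one (by decide +kernel)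
          (by decide +kernel) (by decide +kernel) (by decide +kernel)
      · show t3 * v1 * t3⁻¹ = phi Q 5
        rw [e4]
        exact conj_fix ht3 hpt3 (by decide +kernel) (by decide +kernel) 4 1 le_rfl (by decide +kernel)
          (by decide +kernel) (by decide +kernel) (by decide +kernel)
      · show t3 * (x * v1 * x⁻¹) * t3⁻¹ = phi Q (if dt3 then 11 else 10)
        rw [e8, hdt3]
        cases dt3 <;> rfl
  -- evaluation of words
  let ev : List (Fin 5) → G := fun w => (w.map Γ).prod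
  have hev : ∀ w k, ev w * phi Q k * (ev w)⁻¹ = phi Q (evm M w k) := by
    intro w
    induction w with
    | nil => intro k; simp [ev, evm]
    | cons g w ih =>
      intro k
      rw [show ev (g :: w) = Γ g * ev w from List.prod_cons,
        show Γ g * ev w * phi Q k * (Γ g * ev w)⁻¹ = Γ g * (ev w * phi Q k * (ev w)⁻¹) * (Γ g)⁻¹ by group, ih,
        conj_phi q1 q2 (hΓ g)]
      rfl
  have phi_inj : ∀ k l, phi Q k = phi Q l → k = l := fun k l e => by
    have h : k ^^^ l = 0 := inj0 _ (by rw [phi_xor q1 q2, e, ← phi_xor q1 q2]; simp [phi])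
    exact (show ∀ k l : Fin 16, k ^^^ l = 0 → k = l by decide +kernel) k l h
  have ev_triv : ∀ {g : G}, (∀ k, Commute g (phi Q k)) → ∃ k, g = phi Q k := by
    intro g hg
    have hgz : Commute g z := by
      have h1 := hg 1
      rwa [phi_one] at h1
    have hc : ∀ k, Commute (F.p g) (ext8 S.le8 (phi (qimg qV) k)) := fun k => by
      show F.p g * _ = _ * F.p g
      rw [← (hQz k).2, ← F.p_mul hgz (hQz k).1, ← F.p_mul (hQz k).1 hgz, (hg k).eq]
    obtain ⟨j, hj⟩ : ∃ j : Fin 8, Fin.castLE S.le8 j = F.p g (Fin.castLE S.le8 0) := by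
      refine ⟨⟨(F.p g (Fin.castLE S.le8 0)).val, ?_⟩, rfl⟩
      by_contra hge
      have := commute_app (hc 2) (Fin.castLE S.le8 0)
      rw [ext8_apply, ext8_apply_ge _ _ _ (by omega)] at this
      exact (show phi (qimg qV) 2 0 ≠ 0 by rw [qV_tab]; decide +kernel)
        (Fin.castLE_injective _ ((F.p g).injective this))
    obtain ⟨k, hk⟩ := qV_img_eval j
    have := ext8_of_commute (h8 := S.le8) S.hi (F.sign_p g) (p := phi (qimg qV) k) hc (fun l =>
      qV_comm k l)
      (by rw [hk, hj])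
    exact E.mem_span q1 q2 q3 q4 hgz this
  have ev_z : ∀ w, (∀ g ∈ w, g ≠ 1) → Commute (ev w) z := by
    intro w hw
    induction w with
    | nil => exact Commute.one_left z
    | cons g w ih =>
      rw [show ev (g :: w) = Γ g * ev w from List.prod_cons]
      refine Commute.mul_left ?_ (ih fun g' h => hw g' (List.mem_cons_of_mem _ h))
      have hg := hw g (List.mem_cons_self ..)
      fin_cases g
      exacts [E.xz, absurd rfl hg, ht, ht2, ht3]
  -- the signs
  have hrel : ∀ (w : List (Fin 5)) (pw : List (Perm (Fin 8))), (∀ g ∈ w, g ≠ 1) →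
      w.map (![qX, 1, qT, qT2, qT3]) = pw → (∃ l, phi (qimg qV) l = pw.prod) → ∀ k, evm M w k = k := by
    intro w pw hw hmap hl k
    have himg : F.p (ev w) = ext8 S.le8 pw.prod := by
      subst hmap
      clear hl
      induction w with
      | nil => simp [ev, F.p_one]
      | cons g w ih =>
        have hw' : ∀ g' ∈ w, g' ≠ 1 := fun g' h => hw g' (List.mem_cons_of_mem _ h)
        have hgz : Commute (Γ g) z := by
          have hg := hw g (List.mem_cons_self ..)
          fin_cases g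
          exacts [E.xz, absurd rfl hg, ht, ht2, ht3]
        rw [show ev (g :: w) = Γ g * ev w from List.prod_cons, F.p_mul hgz (ev_z w hw'), ih hw', List.map_cons,
          List.prod_cons, map_mul]
        congr 1
        have hg := hw g (List.mem_cons_self ..)
        fin_cases g
        exacts [E.px, absurd rfl hg, hpt, hpt2, hpt3]
    obtain ⟨l, hl⟩ := hl
    obtain ⟨m, hm⟩ := E.mem_span q1 q2 q3 q4 (ev_z w hw) (himg.trans (by rw [hl]))
    refine phi_inj _ _ ?_
    have hcm : Commute (phi Q m) (phi Q k) := by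
      show phi Q m * phi Q k = phi Q k * phi Q m
      rw [← phi_xor q1 q2, ← phi_xor q1 q2]
      congr 1
      exact (show ∀ k l : Fin 16, k ^^^ l = l ^^^ k by decide +kernel) m k
    rw [← hev w k, hm, hcm.eq, mul_inv_cancel_right]
  obtain ⟨hb, hf⟩ := bad_signs dt dt2 dt3 (hrel [0, 2, 0, 2] _ (by decide) rfl (by decide +kernel))
    (hrel [2, 3, 4, 3, 4] _ (by decide) rfl (by decide +kernel))
  have hMg : M = gens false true dt3 := by rw [hM, hb, hf]
  -- every line is Four
  refine E.not_all_four hJ sx s3 sz fun i => ?_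
  have hQne : ∀ k, k ≠ 0 → phi Q k ≠ 1 := fun k hk e => hk (inj0 k e)
  have h0 : Four s := by
    refine ⟨Q 2, Q 3, orderOf_two_of_sq (q1 2) (phi_four Q ▸ hQne 4 (by decide)),
      orderOf_two_of_sq (q1 3) (phi_eight Q ▸ hQne 8 (by decide)), fun e => ?_, q2 2 3,
      (show Commute s v1 from mul_inv_eq_iff_eq_mul.1 sv).symm, ?_⟩
    · rw [← phi_four Q, ← phi_eight Q] at e
      exact absurd (phi_inj _ _ e) (by decide)
    · exact ((show Commute s v1 from mul_inv_eq_iff_eq_mul.1 sv).symm.map (MulAut.conj x).toMonoidHom) |> fun h => by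
        simp only [MulEquiv.coe_toMonoidHom, MulAut.conj_apply] at h
        rwa [show x * s * x⁻¹ = s by rw [← sx.eq, mul_inv_cancel_right]] at h
  have hpair : ∀ j : Bool, Four (ev (if j then [1, 0, 0] else [1, 0])) := by
    intro j
    set W : List (Fin 5) := if j then [1, 0, 0] else [1, 0] with hW
    have hspec := pair_case dt3 j
    simp only [← hMg, ← hW] at hspec
    obtain ⟨hu2, hv2, huv, huS, hvS, hfree, hsurj, hu1, hv1', hne⟩ := hspec
    set S' := ev W with hS'
    have hSphi : ∀ k, S' * phi Q k * S'⁻¹ = phi Q (evm M W k) := hev W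
    have adjust : ∀ w : List (Fin 5), (∀ k, evm M (w ++ W) k = evm M (W ++ w) k) →
        ∃ g, Commute g S' ∧ ∀ k, g * phi Q k * g⁻¹ = phi Q (evm M w k) := by
      intro w hw
      have happ : ∀ A B : List (Fin 5), ev (A ++ B) = ev A * ev B := fun A B => by simp [ev]
      obtain ⟨f, hf⟩ : ∃ f, ev w * S' * (ev w)⁻¹ * S'⁻¹ = phi Q f := by
        refine ev_triv fun k => ?_
        -- both products act alike
        obtain ⟨k', hk'⟩ : ∃ k', k = evm M (W ++ w) k' := by
          have hinj : Function.Injective (evm M (W ++ w)) := fun p q e => phi_inj _ _ (by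
            have := congrArg (phi Q) e
            rw [← hev, ← hev] at this
            exact mul_left_cancel (mul_right_cancel this))
          exact ((Finite.injective_iff_surjective.1 hinj) k).imp fun _ h => h.symm
        refine mul_inv_eq_iff_eq_mul.1 ?_
        have h1 : phi Q k = ev (W ++ w) * phi Q k' * (ev (W ++ w))⁻¹ := by rw [hev, ← hk']
        conv_lhs => rw [h1]
        rw [happ, show ev w * S' * (ev w)⁻¹ * S'⁻¹ * (ev W * ev w * phi Q k' * (ev W * ev w)⁻¹) *
          (ev w * S' * (ev w)⁻¹ * S'⁻¹)⁻¹ = ev w * ev W * phi Q k' * (ev w * ev W)⁻¹ by rw [← hS']; group,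
          ← happ, hev, hw, hk']
      obtain ⟨m, hm⟩ := hsurj f
      refine ⟨phi Q m * ev w, ?_, fun k => ?_⟩
      · refine mul_inv_eq_iff_eq_mul.1 ?_
        have e1 : S' * (phi Q m)⁻¹ * S'⁻¹ = phi Q (evm M W m) := by
          have hinv : (phi Q m)⁻¹ = phi Q m := inv_eq_of_mul_eq_one_right (by
            rw [← phi_xor q1 q2, (show ∀ k : Fin 16, k ^^^ k = 0 by decide +kernel) m, phi_zero])
          rw [hinv, hSphi]
        calc phi Q m * ev w * S' * (phi Q m * ev w)⁻¹
            = phi Q m * (ev w * S' * (ev w)⁻¹ * S'⁻¹) * (S' * (phi Q m)⁻¹ * S'⁻¹) * S' := by group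
          _ = phi Q (m ^^^ f ^^^ evm M W m) * S' := by rw [hf, e1, phi_xor q1 q2, phi_xor q1 q2]
          _ = S' := by
            rw [show m ^^^ f ^^^ evm M W m = 0 from
              (show ∀ a b c : Fin 16, a ^^^ c = b → a ^^^ b ^^^ c = 0 by decide +kernel) m f _ hm, phi_zero, one_mul]
      · rw [show phi Q m * ev w * phi Q k * (phi Q m * ev w)⁻¹ =
          phi Q m * (ev w * phi Q k * (ev w)⁻¹) * (phi Q m)⁻¹ by group, hev]
        have hcm : Commute (phi Q m) (phi Q (evm M w k)) := by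
          show phi Q m * _ = _ * phi Q m
          rw [← phi_xor q1 q2, ← phi_xor q1 q2]
          congr 1
          exact (show ∀ k l : Fin 16, k ^^^ l = l ^^^ k by decide +kernel) _ _
        rw [hcm.eq, mul_inv_cancel_right]
    obtain ⟨g, hg, hgA⟩ := adjust _ huS
    obtain ⟨g', hg', hgA'⟩ := adjust _ hvS
    have evm_app : ∀ A B k, evm M (A ++ B) k = evm M A (evm M B k) := fun A B k => List.foldr_append ..
    have triv : ∀ {p : G}, Commute p S' → (∀ k, p * phi Q k * p⁻¹ = phi Q k) → p = 1 := by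
      intro p hp h
      obtain ⟨l, rfl⟩ := ev_triv fun k => mul_inv_eq_iff_eq_mul.1 (h k)
      have e : l = 0 := hfree l (phi_inj _ _ (by rw [← hSphi, ← hp.eq, mul_inv_cancel_right]))
      rw [e, phi_zero]
    have hgg : g * g = 1 := triv (hg.mul_left hg) fun k => by
      rw [show g * g * phi Q k * (g * g)⁻¹ = g * (g * phi Q k * g⁻¹) * g⁻¹ by group, hgA, hgA, ← evm_app, hu2]
    have hgg' : g' * g' = 1 := triv (hg'.mul_left hg') fun k => by
      rw [show g' * g' * phi Q k * (g' * g')⁻¹ = g' * (g' * phi Q k * g'⁻¹) * g'⁻¹ by group, hgA', hgA', ← evm_app, hv2]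
    have hcm : Commute g g' := by
      have : g * g' * (g' * g)⁻¹ = 1 := by
        refine triv ((hg.mul_left hg').mul_left ((hg'.mul_left hg).inv_left)) fun k => ?_
        obtain ⟨k', hk'⟩ : ∃ k', g' * g * phi Q k' * (g' * g)⁻¹ = phi Q k := by
          have hinj : Function.Injective fun q => evm M ((words dt3 j).2 ++ (words dt3 j).1) q := fun p q e => by
            have e' := congrArg (phi Q) e
            simp only [← hev] at e'
            exact phi_inj _ _ (mul_left_cancel (mul_right_cancel e'))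
          obtain ⟨k', hk'⟩ := (Finite.injective_iff_surjective.1 hinj) k
          refine ⟨k', ?_⟩
          rw [show g' * g * phi Q k' * (g' * g)⁻¹ = g' * (g * phi Q k' * g⁻¹) * g'⁻¹ by group, hgA, hgA', ← evm_app]
          exact congrArg (phi Q) hk'
        conv_lhs => rw [← hk']
        rw [show g * g' * (g' * g)⁻¹ * (g' * g * phi Q k' * (g' * g)⁻¹) * (g * g' * (g' * g)⁻¹)⁻¹ =
          g * (g' * phi Q k' * g'⁻¹) * g⁻¹ by group, hgA', hgA, ← evm_app, huv, evm_app, ← hgA', ← hgA, ← hk']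
        group
      exact mul_inv_eq_one.1 this
    refine ⟨g, g', orderOf_two_of_sq hgg ?_, orderOf_two_of_sq hgg' ?_, ?_, hcm, hg, hg'⟩
    · intro e
      obtain ⟨k, hk⟩ := hu1
      exact hk (phi_inj _ _ (by rw [← hgA, e]; group))
    · intro e
      obtain ⟨k, hk⟩ := hv1'
      exact hk (phi_inj _ _ (by rw [← hgA', e]; group))
    · intro e
      obtain ⟨k, hk⟩ := hne
      exact hk (phi_inj _ _ (by rw [← hgA, ← hgA', e]))
  fin_cases i
  · simpa using h0
  · simpa [ev, Γ] using hpair false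
  · simpa [ev, Γ, pow_two, mul_assoc] using hpair true

end Elts

end Cfsg.Agent.AltDoubleCent
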