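import Cfsg.Agent.Lib.AltDoubleCent.Forms
import Cfsg.Agent.Lib.AltDoubleCent.KleinFour

/-!
# Degrees nine and ten

Main results: `Elts.cycle_case`, `Elts.triple_case`, `Setup.setup_false`.
-/

set_option autoImplicit false
set_option linter.style.haveILetI false
set_option linter.unusedSectionVars false
set_option maxHeartbeats 1000000

namespace Cfsg.Agent.AltDoubleCent

open Equiv Equiv.Perm

universe u

variable {G : Type u} [Group G] {n : ℕ} {z : G} {F : Frame G n z}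

lemma exists_odd_pow [Finite G] (g : G) : ∃ K : ℕ, Odd (orderOf (g ^ 2 ^ K)) := by
  refine ⟨(orderOf g).factorization 2, ?_⟩
  rw [orderOf_pow_of_dvd (by positivity) (Nat.ordProj_dvd _ _), ← Nat.not_even_iff_odd, even_iff_two_dvd]
  exact Nat.not_dvd_ordCompl Nat.prime_two (orderOf_pos g).ne'

namespace Elts

variable {S : Setup F} {x y a b c : G} (E : Elts S x y a b c)
include E
variable [Finite G]

variable (hk : Nat.card (E.Jfix y) = 3) (h9 : n = 9) {h : G} (hh : h * z * h⁻¹ = y) (hhx : Commute h x)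
  (hy' : h⁻¹ * z * h = z * y) {d0 : G} (hd0 : d0 ∈ E.Jfix y) (hd1 : d0 ≠ 1)
include hk h9 hh hhx hy' hd0 hd1

/-- The transported element is not the third cycle. -/
theorem cycle_case (he : h⁻¹ * d0 * h = c) : False := by
  obtain ⟨i0, hi, hi2, hia, hib, -, hiy⟩ := E.exists_iota
  obtain ⟨hdJ, hdy⟩ := (E.mem_Jfix).1 hd0
  set d1 := i0 * d0 * i0⁻¹ with hd1'
  have h1J : d1 ∈ E.Jfix (z * y) := (E.mem_Jfix).2 ⟨E.J_inverts hi (Or.inr hia) (Or.inr hib) hdJ,
    hiy ▸ commute_conj hdy i0⟩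
  obtain ⟨h1j, h1y⟩ := (E.mem_Jfix).1 h1J
  have h1one : d1 ≠ 1 := fun e => hd1 (conj_eq_one_iff.1 e)
  have hhc : h * c * h⁻¹ = d0 := by rw [← he]; group
  obtain ⟨π, hπ, hπa, hπb, hπc⟩ := E.exists_rot9 h9
  let P : Fin 3 × Fin 3 × Fin 3 → G := fun p => (a * b⁻¹) ^ p.1.val * c ^ p.2.1.val * d1 ^ p.2.2.val
  have hmem : ∀ p, π * (h⁻¹ * P p * h) * π⁻¹ ∈ E.J := by
    rintro ⟨i, k, l⟩
    obtain ⟨fz, fa, fb, f3, fy⟩ := E.form_facts i.val k.val
    set Q := (a * b⁻¹) ^ i.val * c ^ k.val with hQ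
    show π * (h⁻¹ * (Q * d1 ^ l.val) * h) * π⁻¹ ∈ E.J
    have hQc : Commute Q (d1 ^ l.val) := by
      obtain ⟨g1, g2⟩ := E.J_ab h1j
      exact ((((g1.symm.mul_left g2.symm.inv_left).pow_left i.val).mul_left
        ((E.c_J hk d1 h1j).pow_left k.val))).pow_right _
    have hQd : Commute Q d0 := by
      obtain ⟨g1, g2⟩ := E.J_ab hdJ
      exact (((g1.symm.mul_left g2.symm.inv_left).pow_left i.val).mul_left ((E.c_J hk d0 hdJ).pow_left k.val))
    have hPd : Commute (Q * d1 ^ l.val) d0 := hQd.mul_left ((E.J_comm h1j hdJ).pow_left _)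
    have hPx : Commute (Q * d1 ^ l.val) x := by
      rw [E.xab]
      exact (fa.mul_right fb).mul_left (((E.J_ab h1j).1.mul_right (E.J_ab h1j).2).pow_left _)
    have hPy : y * (Q * d1 ^ l.val) * y⁻¹ = (Q * d1 ^ l.val)⁻¹ := by
      rw [show y * (Q * d1 ^ l.val) * y⁻¹ = y * Q * y⁻¹ * (y * d1 ^ l.val * y⁻¹) by group, fy, ← conj_pow,
        E.Jzy_inv h1J, inv_pow]
      exact hQc.mul_inv.symm
    have hP3 : (Q * d1 ^ l.val) ^ 3 = 1 := by
      rw [hQc.mul_pow, f3, ← pow_mul, mul_comm, pow_mul, E.J_cube h1j, one_pow, one_mul]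
    set g := h⁻¹ * (Q * d1 ^ l.val) * h with hg
    have hgc : Commute g c := by
      have := commute_conj hPd h⁻¹
      rwa [inv_inv, he] at this
    have hgx : Commute g x := by
      have := commute_conj hPx h⁻¹
      rwa [inv_inv, show h⁻¹ * x * h = x by rw [mul_assoc, ← hhx.eq, ← mul_assoc, inv_mul_cancel, one_mul]] at this
    have hgz : z * g * z⁻¹ = g⁻¹ := by
      rw [show g⁻¹ = h⁻¹ * (Q * d1 ^ l.val)⁻¹ * h by rw [hg]; group, ← hPy, hg, ← hh]
      group
    set u := π * g * π⁻¹ with hu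
    have hua : Commute u a := by
      have := commute_conj hgc π
      rwa [hπc] at this
    have hubc : Commute u (b * c) := by
      have := commute_conj hgx π
      rwa [E.xab, show π * (a * b) * π⁻¹ = π * a * π⁻¹ * (π * b * π⁻¹) by group, hπa, hπb] at this
    have huz : z * u * z⁻¹ = u⁻¹ := by
      rw [hu, show z * (π * g * π⁻¹) * z⁻¹ = z * π * g * (z * π)⁻¹ by group, hπ.symm.eq,
        show π * z * g * (π * z)⁻¹ = π * (z * g * z⁻¹) * π⁻¹ by group, hgz]
      group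
    have huo : Odd (orderOf u) := by
      refine odd_of_pow_three ?_
      rw [hu, conj_pow, conj_eq_one_iff, hg, show h⁻¹ * (Q * d1 ^ l.val) * h = h⁻¹ * (Q * d1 ^ l.val) * h⁻¹⁻¹ by
        rw [inv_inv], conj_pow, conj_eq_one_iff, hP3]
    have huO : u ∈ oddCent a := E.mem_oddCent E.az E.a3 E.a_supp huo hua huz
    have huAJ := E.no_fixed hk h9 (Or.inl rfl) huO (by
      rw [hubc.symm.eq, mul_inv_cancel_right, mul_inv_cancel]
      exact one_mem _)
    exact E.mem_J huo hua (E.mem_AJ.1 huAJ).2 huz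
  have hinj : Function.Injective fun p => (⟨_, hmem p⟩ : E.J) := by
    rintro ⟨i, k, l⟩ ⟨i', k', l'⟩ e
    have e' : (a * b⁻¹) ^ i.val * c ^ k.val * d1 ^ l.val = (a * b⁻¹) ^ i'.val * c ^ k'.val * d1 ^ l'.val :=
      mul_left_cancel (mul_right_cancel (mul_left_cancel (mul_right_cancel (congrArg Subtype.val e))))
    set D := ((a * b⁻¹) ^ i'.val * c ^ k'.val)⁻¹ * ((a * b⁻¹) ^ i.val * c ^ k.val) with hD
    have hD' : D = d1 ^ l'.val * (d1 ^ l.val)⁻¹ := by
      rw [hD, eq_mul_inv_iff_mul_eq, mul_assoc, e', inv_mul_cancel_left]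
    have hDJ : D ∈ E.J := hD' ▸ mul_mem (pow_mem h1j _) (inv_mem (pow_mem h1j _))
    have hDz : Commute D z := (E.form_facts _ _).1.inv_left.mul_left (E.form_facts _ _).1
    have hD1 : D = 1 := by
      have h1 := hDJ.2.2
      rw [hDz.symm.eq, mul_inv_cancel_right, eq_inv_iff_mul_eq_one] at h1
      have h3 := E.J_cube hDJ
      rwa [pow_succ, pow_two, h1, one_mul] at h3
    have hik := E.form_injective (a₁ := (i', k')) (a₂ := (i, k)) (inv_mul_eq_one.1 hD1)
    have hl : d1 ^ l'.val = d1 ^ l.val := mul_inv_eq_one.1 (hD'.symm.trans hD1)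
    haveI : Fact (Nat.Prime 3) := ⟨Nat.prime_three⟩
    have ho : orderOf d1 = 3 := orderOf_eq_prime (E.J_cube h1j) h1one
    have hll := pow_injOn_Iio_orderOf (x := d1) (Set.mem_Iio.2 (by rw [ho]; exact l'.isLt))
      (Set.mem_Iio.2 (by rw [ho]; exact l.isLt)) hl
    simp only [Prod.mk.injEq] at hik
    rw [hik.1, hik.2, Fin.ext hll]
  have := Nat.card_le_card_of_injective _ hinj
  rw [E.card_J_nine hk] at this
  simp at this

/-- The transported element is not a product of three cycles either. -/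
theorem triple_case {c' : G} (hc : c' = c ∨ c' = c⁻¹) (he : h⁻¹ * d0 * h = a * b⁻¹ * c') : False := by
  haveI : Fact (Nat.Prime 3) := ⟨Nat.prime_three⟩
  obtain ⟨-, -, hyo, -⟩ := S.y_facts E.py E.yz
  have hyy := sq_of_orderOf_two hyo
  obtain ⟨hdJ, hdy⟩ := (E.mem_Jfix).1 hd0
  have hcz : Commute c' z := by rcases hc with rfl | rfl; exacts [E.cz, E.cz.inv_left]
  have hca : Commute c' a := by rcases hc with rfl | rfl; exacts [E.ac.symm, E.ac.symm.inv_left]
  have hcb : Commute c' b := by rcases hc with rfl | rfl; exacts [E.bc.symm, E.bc.symm.inv_left]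
  have hc3 : c' ^ 3 = 1 := by
    rcases hc with rfl | rfl
    exacts [E.c3, by rw [inv_pow, E.c3, inv_one]]
  have hyc : y * c' * y⁻¹ = c'⁻¹ := by
    rcases hc with rfl | rfl
    · exact E.yc
    · rw [show y * c⁻¹ * y⁻¹ = (y * c * y⁻¹)⁻¹ by group, E.yc]
  have hcJ : ∀ j ∈ E.J, Commute c' j := fun j hj => by
    rcases hc with rfl | rfl; exacts [E.c_J hk j hj, (E.c_J hk j hj).inv_left]
  set e := a * b⁻¹ * c' with hedef
  have hez : Commute e z := (E.az.mul_left E.bz.inv_left).mul_left hcz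
  have hea : Commute e a := ((Commute.refl a).mul_left E.ab.symm.inv_left).mul_left hca
  have heb : Commute e b := (E.ab.mul_left (Commute.refl b).inv_left).mul_left hcb
  have hex : Commute e x := E.xab ▸ hea.mul_right heb
  have he3 : e ^ 3 = 1 := by
    rw [hedef, (hca.symm.mul_left hcb.symm.inv_left).mul_pow, E.ab.inv_right.mul_pow, inv_pow, E.a3, E.b3, hc3]
    simp
  obtain ⟨-, hes, hxes⟩ := E.triple_supports h9 hc
  have hye : y * e * y⁻¹ = e⁻¹ := by
    rw [hedef, show y * (a * b⁻¹ * c') * y⁻¹ = y * a * y⁻¹ * (y * b * y⁻¹)⁻¹ * (y * c' * y⁻¹) by group,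
      E.yab, E.yba, hyc, mul_inv_rev, mul_inv_rev, inv_inv, (hcb.inv_left.mul_right hca.inv_inv).eq]
  have hhe : h * e * h⁻¹ = d0 := by rw [← he]; group
  have hne : ¬ Four e := E.not_four_of_card hez he3 hes
  -- the translation carried by `d0`
  obtain ⟨w0, q, hT⟩ := E.tr_exists hk h9 hdJ
  have hq3 : a ^ q = a ^ (q % 3) := by
    conv_lhs => rw [← Nat.mod_add_div q 3, pow_add, pow_mul, E.a3, one_pow, mul_one]
  have hT' : E.Tr w0 (q % 3) d0 := ⟨hT.1, hT.2.1, hq3 ▸ hT.2.2⟩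
  have hxd : w0 * x * w0⁻¹ = a ^ (q % 3 + 1) * (b * d0) := by
    rw [E.xab, show w0 * (a * b) * w0⁻¹ = w0 * a * w0⁻¹ * (w0 * b * w0⁻¹) by group,
      (oddCent_le hT.1).eq, mul_inv_cancel_right, hT'.2.2, ← mul_assoc, pow_succ']
  rcases (show q % 3 = 0 ∨ q % 3 = 1 ∨ q % 3 = 2 by omega) with h0 | h0 | h0
  · rw [h0] at hT'
    -- every translation centralises `J`
    have hz0 := E.tr_zero hk h9 hd0 hd1 hT'
    have hcyc : ∀ l ∈ E.J, ∃ w g, g ∈ E.J ∧ Commute w a ∧ (∀ j ∈ E.J, Commute w j) ∧ w ∈ oddCent a ∧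
        w * b * w⁻¹ = b * l ∧ w * e * w⁻¹ = e * g := by
      intro l hl
      obtain ⟨w, hw, hwJ⟩ := hz0 l hl
      obtain ⟨s, M, hM, hcM⟩ := E.tr_cycle hk h9 hc hw
      have hb : w * b * w⁻¹ = b * l := by rw [hw.2.2, pow_zero, one_mul]
      -- `z` forces the power of `a` to vanish
      have hs : a ^ s = 1 := by
        obtain ⟨j, hj⟩ := pick3 E.a3 (F.oddCent_comm S.le8 E.az E.a3 E.a_supp hw.1 hw.1).2
        rw [← eq_mul_inv_iff_mul_eq] at hj
        have e1 := congrArg (fun g => z * g * z⁻¹) hcM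
        beta_reduce at e1
        rw [show z * (w * c' * w⁻¹) * z⁻¹ = z * w * z⁻¹ * (z * c' * z⁻¹) * (z * w * z⁻¹)⁻¹ by group,
          show z * (a ^ s * (c' * M)) * z⁻¹ = z * a ^ s * z⁻¹ * (z * c' * z⁻¹ * (z * M * z⁻¹)) by group, hj,
          mul_inv_eq_iff_eq_mul.2 hcz.symm.eq, mul_inv_eq_iff_eq_mul.2 (E.az.pow_left s).symm.eq, hM.2.2] at e1
        have hjb : Commute (a ^ j.val) (w⁻¹ * c' * w) :=
          ((((oddCent_le hw.1).inv_left.pow_right j.val).symm).mul_right (hca.symm.pow_left _)).mul_right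
            ((oddCent_le hw.1).pow_right j.val).symm
        rw [show a ^ j.val * w⁻¹ * c' * (a ^ j.val * w⁻¹)⁻¹ = a ^ j.val * (w⁻¹ * c' * w) * (a ^ j.val)⁻¹ by group,
          hjb.eq, mul_inv_cancel_right] at e1
        have e2 : c' = w * (a ^ s * (c' * M⁻¹)) * w⁻¹ := by rw [← e1]; group
        rw [show w * (a ^ s * (c' * M⁻¹)) * w⁻¹ = w * a ^ s * w⁻¹ * ((w * c' * w⁻¹) * (w * M * w⁻¹)⁻¹) by group,
          ((oddCent_le hw.1).pow_right s).eq, mul_inv_cancel_right, hcM, (hwJ M hM).eq, mul_inv_cancel_right,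
          show a ^ s * (a ^ s * (c' * M) * M⁻¹) = a ^ s * a ^ s * c' by group] at e2
        have h2 : a ^ s * a ^ s = 1 := mul_eq_right.1 e2.symm
        have h3 : (a ^ s) ^ 3 = 1 := by rw [← pow_mul, mul_comm, pow_mul, E.a3, one_pow]
        rwa [pow_succ, pow_two, h2, one_mul] at h3
      rw [hs, one_mul] at hcM
      refine ⟨w, l⁻¹ * M, mul_mem (inv_mem hl) hM, oddCent_le hw.1, hwJ, hw.1, hb, ?_⟩
      rw [hedef, show w * (a * b⁻¹ * c') * w⁻¹ = w * a * w⁻¹ * (w * b * w⁻¹)⁻¹ * (w * c' * w⁻¹) by group,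
        (oddCent_le hw.1).eq, mul_inv_cancel_right, hb, hcM, mul_inv_rev,
        ((E.J_ab hl).2.inv_inv).eq, show a * (b⁻¹ * l⁻¹) * (c' * M) = a * b⁻¹ * (l⁻¹ * c') * M by group,
        (hcJ l hl).inv_right.symm.eq]
      group
    choose W Sh hSh hWa hWJ hWO hWb hWe using hcyc
    have hinj : Function.Injective fun l : E.J => (⟨Sh l l.2, hSh l l.2⟩ : E.J) := by
      rintro ⟨l, hl⟩ ⟨l', hl'⟩ h'
      have hg : Sh l hl = Sh l' hl' := congrArg Subtype.val h'
      set w := (W l' hl')⁻¹ * W l hl with hw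
      have hinvb : (W l' hl')⁻¹ * b * W l' hl' = b * l'⁻¹ := by
        rw [mul_assoc, inv_mul_eq_iff_eq_mul, ← mul_assoc]
        rw [eq_mul_inv_iff_mul_eq, mul_assoc, (hWJ l' hl' l' hl').eq, ← mul_assoc, ← hWb l' hl',
          inv_mul_cancel_right]
      have hwe : Commute w e := by
        refine mul_inv_eq_iff_eq_mul.1 ?_
        rw [hw, show (W l' hl')⁻¹ * W l hl * e * ((W l' hl')⁻¹ * W l hl)⁻¹ =
          (W l' hl')⁻¹ * (W l hl * e * (W l hl)⁻¹) * W l' hl' by group, hWe, hg, ← hWe l' hl']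
        group
      have hwa : Commute w a := (hWa l' hl').inv_left.mul_left (hWa l hl)
      have hfix : Commute w (b * c'⁻¹) := by
        have h1 := (hwa.inv_right.mul_right hwe).inv_right
        rwa [hedef, ← mul_assoc, inv_mul_cancel_left, mul_inv_rev, inv_inv, hcb.inv_left.eq] at h1
      have hAJ := E.no_fixed hk h9 (c' := c'⁻¹) (by rcases hc with rfl | rfl; exacts [Or.inr rfl, Or.inl (inv_inv c)])
        (mul_mem (inv_mem (hWO l' hl')) (hWO l hl)) (w := w) (by
          rw [hfix.symm.eq, mul_inv_cancel_right, mul_inv_cancel]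
          exact one_mem _)
      have hwb := mul_inv_eq_iff_eq_mul.2 (E.mem_AJ.1 hAJ).2.eq
      have : b * l'⁻¹ * l = b := by
        refine Eq.trans ?_ hwb
        rw [hw, show (W l' hl')⁻¹ * W l hl * b * ((W l' hl')⁻¹ * W l hl)⁻¹ =
          (W l' hl')⁻¹ * (W l hl * b * (W l hl)⁻¹) * W l' hl' by group, hWb, ← mul_assoc _ b l, mul_assoc _ l,
          ((hWJ l' hl' l hl).symm).eq, ← mul_assoc, hinvb]
      rw [mul_assoc, mul_eq_left, inv_mul_eq_one] at this
      exact Subtype.ext this.symm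
    have hshift : ∀ g ∈ E.J, ∃ u, (∀ j ∈ E.J, Commute u j) ∧ u * e * u⁻¹ = e * g := by
      intro g hg
      obtain ⟨⟨l, hl⟩, hlg⟩ := Finite.surjective_of_injective hinj ⟨g, hg⟩
      exact ⟨W l hl, hWJ l hl, by rw [hWe l hl, show Sh l hl = g from congrArg Subtype.val hlg]⟩
    -- an element fixed by `y` moving `b`
    obtain ⟨i0, hi, -, hia, hib, -, hiy⟩ := E.exists_iota
    set d1 := i0 * d0 * i0⁻¹ with hd1'
    have h1J : d1 ∈ E.Jfix (z * y) := (E.mem_Jfix).2 ⟨E.J_inverts hi (Or.inr hia) (Or.inr hib) hdJ,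
      hiy ▸ commute_conj hdy i0⟩
    obtain ⟨h1j, h1y⟩ := (E.mem_Jfix).1 h1J
    have h1one : d1 ≠ 1 := fun e => hd1 (conj_eq_one_iff.1 e)
    have h1inv := E.Jzy_inv h1J
    obtain ⟨w, hw, hwJ⟩ := hz0 d1 h1j
    have hwb : w * b * w⁻¹ = b * d1 := by rw [hw.2.2, pow_zero, one_mul]
    set w' := y * w * y⁻¹ with hw'
    have hy1 : y⁻¹ = y := inv_eq_of_mul_eq_one_right hyy
    have hw'J : ∀ j ∈ E.J, Commute w' j := fun j hj => by
      have := commute_conj (hwJ _ (E.J_y hj)) y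
      rwa [show y * (y * j * y⁻¹) * y⁻¹ = (y * y) * j * (y * y)⁻¹ by group, hyy, one_mul, inv_one, mul_one] at this
    have hw'a : w' * a * w'⁻¹ = a * d1⁻¹ := by
      have := congrArg (fun g => y * g * y⁻¹) hwb
      beta_reduce at this
      rwa [show y * (w * b * w⁻¹) * y⁻¹ = w' * (y * b * y⁻¹) * w'⁻¹ by rw [hw']; group,
        show y * (b * d1) * y⁻¹ = y * b * y⁻¹ * (y * d1 * y⁻¹) by group, E.yba, h1inv] at this
    have hw'b : Commute w' b := by
      have := commute_conj (oddCent_le hw.1) y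
      rwa [E.yab] at this
    have hwa : Commute w a := oddCent_le hw.1
    set t0 := w * w' with ht0
    set t1 := w' * w with ht1
    have hyt : y * t0 * y⁻¹ = t1 := by
      rw [ht0, ht1, show y * (w * w') * y⁻¹ = w' * (y * w' * y⁻¹) by rw [hw']; group,
        show y * w' * y⁻¹ = (y * y) * w * (y * y)⁻¹ by rw [hw']; group, hyy, one_mul, inv_one, mul_one]
    have hyt1 : y * t1 * y⁻¹ = t0 := by
      rw [← hyt, show y * (y * t0 * y⁻¹) * y⁻¹ = (y * y) * t0 * (y * y)⁻¹ by group, hyy, one_mul, inv_one, mul_one]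
    have ht0a : t0 * a * t0⁻¹ = a * d1⁻¹ := by
      rw [ht0, show w * w' * a * (w * w')⁻¹ = w * (w' * a * w'⁻¹) * w⁻¹ by group, hw'a,
        (hwa.mul_right (hwJ d1 h1j).inv_right).eq, mul_inv_cancel_right]
    have ht1a : t1 * a * t1⁻¹ = a * d1⁻¹ := by
      rw [ht1, show w' * w * a * (w' * w)⁻¹ = w' * (w * a * w⁻¹) * w'⁻¹ by group, hwa.eq, mul_inv_cancel_right,
        hw'a]
    have ht0b : t0 * b * t0⁻¹ = b * d1 := by
      rw [ht0, show w * w' * b * (w * w')⁻¹ = w * (w' * b * w'⁻¹) * w⁻¹ by group, hw'b.eq, mul_inv_cancel_right,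
        hwb]
    have ht1b : t1 * b * t1⁻¹ = b * d1 := by
      rw [ht1, show w' * w * b * (w' * w)⁻¹ = w' * (w * b * w⁻¹) * w'⁻¹ by group, hwb,
        (hw'b.mul_right (hw'J d1 h1j)).eq, mul_inv_cancel_right]
    have ht0J : ∀ j ∈ E.J, Commute t0 j := fun j hj => (hwJ j hj).mul_left (hw'J j hj)
    have ht1J : ∀ j ∈ E.J, Commute t1 j := fun j hj => (hw'J j hj).mul_left (hwJ j hj)
    set s := t1 * t0⁻¹ with hs
    have hsJ : ∀ j ∈ E.J, Commute s j := fun j hj => (ht1J j hj).mul_left (ht0J j hj).inv_left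
    have hsa : Commute s a := by
      have h1 : Commute s (a * d1⁻¹) := mul_inv_eq_iff_eq_mul.1 (by
        rw [hs]
        conv_lhs => rw [← ht0a]
        rw [show t1 * t0⁻¹ * (t0 * a * t0⁻¹) * (t1 * t0⁻¹)⁻¹ = t1 * a * t1⁻¹ by group, ht1a])
      have := h1.mul_right (hsJ d1 h1j)
      rwa [inv_mul_cancel_right] at this
    have hsb : Commute s b := by
      have h1 : Commute s (b * d1) := mul_inv_eq_iff_eq_mul.1 (by
        rw [hs]
        conv_lhs => rw [← ht0b]
        rw [show t1 * t0⁻¹ * (t0 * b * t0⁻¹) * (t1 * t0⁻¹)⁻¹ = t1 * b * t1⁻¹ by group, ht1b])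
      have := h1.mul_right (hsJ d1 h1j).inv_right
      rwa [mul_inv_cancel_right] at this
    -- `s` lies in a transported odd core
    have hso : Odd (orderOf s) := by
      set v := h⁻¹ * t0 * h with hv
      have hve : Commute v e := by
        have := commute_conj (ht0J d0 hdJ) h⁻¹
        rwa [inv_inv, he] at this
      have hu : ∀ w : G, orderOf w = 2 → Commute w e → Commute w z → w = z := fun w h2 h4 h5 =>
        F.unique_of_odd_support S.hi hez (by rw [← F.p_pow hez, he3, F.p_one]) (by rw [hes]; decide) h2 h4 h5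
      have hm : z * v * z⁻¹ * v⁻¹ ∈ oddCent e := F.unique_zStar hez.symm hu hve
      have hsv : h * (z * v * z⁻¹ * v⁻¹) * h⁻¹ = s := by
        rw [hs, ← hyt, hv, ← hh]; group
      rw [← hsv, orderOf_conj']
      exact oddCent_odd hm
    obtain ⟨m, hm⟩ := hso
    set r := s ^ (m + 1) with hr
    have hrr : r * r = s := by
      rw [hr, ← pow_add, show m + 1 + (m + 1) = orderOf s + 1 by omega, pow_succ, pow_orderOf_eq_one, one_mul]
    have hys : y * s * y⁻¹ = s⁻¹ := by
      rw [hs, show y * (t1 * t0⁻¹) * y⁻¹ = y * t1 * y⁻¹ * (y * t0 * y⁻¹)⁻¹ by group, hyt, hyt1]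
      group
    set t := r * t0 with ht
    have hty : Commute t y := (mul_inv_eq_iff_eq_mul.1 (by
      have hyr : y * r * y⁻¹ = r⁻¹ := by rw [hr, ← conj_pow, hys, inv_pow]
      calc y * (r * t0) * y⁻¹ = (y * r * y⁻¹) * (t1 * t0⁻¹) * t0 := by rw [← hyt]; group
        _ = r * t0 := by rw [hyr, ← hs, ← hrr, inv_mul_cancel_left])).symm
    have htJ : ∀ j ∈ E.J, Commute t j := fun j hj => ((hsJ j hj).pow_left _).mul_left (ht0J j hj)
    have htb : t * b * t⁻¹ = b * d1 := by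
      rw [ht, show r * t0 * b * (r * t0)⁻¹ = r * (t0 * b * t0⁻¹) * r⁻¹ by group, ht0b, hr,
        ((hsb.mul_right (hsJ d1 h1j)).pow_left _).eq, mul_inv_cancel_right]
    have hta : t * a * t⁻¹ = a * d1⁻¹ := by
      rw [ht, show r * t0 * a * (r * t0)⁻¹ = r * (t0 * a * t0⁻¹) * r⁻¹ by group, ht0a, hr,
        ((hsa.mul_right (hsJ d1 h1j).inv_right).pow_left _).eq, mul_inv_cancel_right]
    have htx : Commute t x := mul_inv_eq_iff_eq_mul.1 (by
      rw [E.xab, show t * (a * b) * t⁻¹ = t * a * t⁻¹ * (t * b * t⁻¹) by group, hta, htb,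
        show a * d1⁻¹ * (b * d1) = a * (d1⁻¹ * b) * d1 by group, (E.J_ab h1j).2.inv_left.eq]
      group)
    obtain ⟨K, hK⟩ := exists_odd_pow t
    set t2 := t ^ 2 ^ K with ht2
    have hpow : ∀ i : ℕ, t ^ i * b * (t ^ i)⁻¹ = b * d1 ^ i := by
      intro i
      induction i with
      | zero => simp
      | succ i ih =>
        rw [pow_succ', show t * t ^ i * b * (t * t ^ i)⁻¹ = t * (t ^ i * b * (t ^ i)⁻¹) * t⁻¹ by group, ih,
          show t * (b * d1 ^ i) * t⁻¹ = t * b * t⁻¹ * (t * d1 ^ i * t⁻¹) by group, htb,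
          ((htJ d1 h1j).pow_right i).eq, mul_inv_cancel_right, pow_succ', mul_assoc]
    set t' := h⁻¹ * t2 * h with ht'
    have hconj : ∀ {u v : G}, Commute u v → Commute (h⁻¹ * u * h) (h⁻¹ * v * h) := fun huv => by
      have := commute_conj huv h⁻¹
      rwa [inv_inv] at this
    have ht'z : Commute t' z := by
      have := hconj (hty.pow_left (2 ^ K))
      rwa [show h⁻¹ * y * h = z by rw [← hh]; group] at this
    have ht'x : Commute t' x := by
      have := hconj (htx.pow_left (2 ^ K))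
      rwa [show h⁻¹ * x * h = x by rw [mul_assoc, ← hhx.eq, ← mul_assoc, inv_mul_cancel, one_mul]] at this
    have ht'e : Commute t' e := by
      have := hconj ((htJ d0 hdJ).pow_left (2 ^ K))
      rwa [he] at this
    set k' := h⁻¹ * d1 * h with hk'
    have ht'k : Commute t' k' := hconj ((htJ d1 h1j).pow_left (2 ^ K))
    have hk'x : Commute k' x := by
      have := hconj (show Commute d1 x from E.xab ▸ (E.J_ab h1j).1.mul_right (E.J_ab h1j).2)
      rwa [show h⁻¹ * x * h = x by rw [mul_assoc, ← hhx.eq, ← mul_assoc, inv_mul_cancel, one_mul]] at this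
    have hk'e : Commute k' e := by
      have := hconj (E.J_comm h1j hdJ)
      rwa [he] at this
    have ht'o : Odd (orderOf t') := by
      rw [ht', show h⁻¹ * t2 * h = h⁻¹ * t2 * h⁻¹⁻¹ by rw [inv_inv], orderOf_conj']
      exact hK
    obtain ⟨ha', hb', h3', -⟩ := E.cx_odd ht'z ht'x ht'o
    have hc' : Commute t' c' := by
      have := (ha'.mul_right hb'.inv_right).inv_right.mul_right ht'e
      rwa [hedef, inv_mul_cancel_left] at this
    have hc'' : Commute t' c := by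
      rcases hc with rfl | rfl
      exacts [hc', Commute.inv_right_iff.1 hc']
    obtain ⟨i, j, l, hform⟩ := E.mem_A_form (E.mem_A ht'z h3' ha' hb' hc'')
    obtain ⟨l', hl'⟩ : ∃ l' : ℕ, c ^ l.val = c' ^ l' := by
      rcases hc with rfl | rfl
      · exact ⟨l.val, rfl⟩
      · refine ⟨2 * l.val, ?_⟩
        rw [inv_pow, eq_inv_iff_mul_eq_one, ← pow_add, show l.val + 2 * l.val = 3 * l.val by ring, pow_mul,
          E.c3, one_pow]
    set m' := i.val + 2 * j.val + l' with hm'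
    have hdec : t' = x ^ (j.val + l') * e ^ l' * a ^ m' := by
      rw [hform, hl', E.xab, E.ab.mul_pow, hedef, (hca.symm.mul_left hcb.symm.inv_left).mul_pow,
        E.ab.inv_right.mul_pow, inv_pow]
      have A : ∀ p q : ℕ, Commute (a ^ p) (b ^ q) := fun p q => E.ab.pow_pow p q
      rw [show a ^ (j.val + l') * b ^ (j.val + l') * (a ^ l' * (b ^ l')⁻¹ * c' ^ l') * a ^ m' =
        a ^ (j.val + l') * (b ^ (j.val + l') * a ^ l') * (b ^ l')⁻¹ * (c' ^ l' * a ^ m') by group,
        (A _ _).symm.eq, (hca.pow_pow l' m').eq,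
        show a ^ (j.val + l') * (a ^ l' * b ^ (j.val + l')) * (b ^ l')⁻¹ * (a ^ m' * c' ^ l') =
          a ^ (j.val + l') * a ^ l' * (b ^ (j.val + l') * (b ^ l')⁻¹ * a ^ m') * c' ^ l' by group,
        pow_add b, mul_inv_cancel_right, (A _ _).symm.eq,
        show a ^ (j.val + l') * a ^ l' * (a ^ m' * b ^ j.val) = a ^ (j.val + l') * a ^ l' * a ^ m' * b ^ j.val by
          group, ← pow_add, ← pow_add]
      congr 2
      rw [show j.val + l' + l' + m' = i.val + 3 * (j.val + l') by omega, pow_add, pow_mul, E.a3, one_pow,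
        mul_one]
    have hno : a ^ m' ≠ 1 := by
      intro h1
      rw [h1, mul_one] at hdec
      have e2 : t2 = x ^ (j.val + l') * d0 ^ l' := by
        rw [show t2 = h * t' * h⁻¹ by rw [ht']; group, hdec,
          show h * (x ^ (j.val + l') * e ^ l') * h⁻¹ = (h * x * h⁻¹) ^ (j.val + l') * (h * e * h⁻¹) ^ l' by
            rw [conj_pow, conj_pow]; group, hhe, mul_inv_eq_iff_eq_mul.2 hhx.eq]
      have hb2 : Commute t2 b := by
        rw [e2, E.xab]
        exact ((E.ab.mul_left (Commute.refl b)).pow_left _).mul_left ((E.J_ab hdJ).2.pow_left _)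
      have h2 := hpow (2 ^ K)
      rw [← ht2, hb2.eq, mul_inv_cancel_right] at h2
      have h3 := orderOf_dvd_of_pow_eq_one (mul_eq_left.1 h2.symm)
      rw [orderOf_eq_prime (E.J_cube h1j) h1one] at h3
      exact absurd ((Nat.prime_three.dvd_of_dvd_pow h3)) (by norm_num)
    have hk'a : Commute k' a := by
      have h1 : Commute k' (a ^ m') := by
        have := ((hk'x.pow_right (j.val + l')).mul_right (hk'e.pow_right l')).inv_right.mul_right ht'k.symm
        rwa [hdec, inv_mul_cancel_left] at this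
      have hmem : a ∈ Subgroup.zpowers (a ^ m') := by
        have e : Subgroup.zpowers (a ^ m') = Subgroup.zpowers a := by
          refine Subgroup.eq_of_le_of_card_ge (Subgroup.zpowers_le.2 (pow_mem (Subgroup.mem_zpowers a) _)) ?_
          rw [Nat.card_zpowers, Nat.card_zpowers, orderOf_eq_prime E.a3 E.one_lt_three.1,
            orderOf_eq_prime (by rw [← pow_mul, mul_comm, pow_mul, E.a3, one_pow]) hno]
        rw [e]; exact Subgroup.mem_zpowers a
      obtain ⟨p, hp⟩ := Subgroup.mem_zpowers_iff.1 hmem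
      exact hp ▸ h1.zpow_right p
    have hk'b : Commute k' b := by
      have := hk'a.inv_right.mul_right hk'x
      rwa [E.xab, inv_mul_cancel_left] at this
    have hk'z : z * k' * z⁻¹ = k'⁻¹ := by
      rw [show k'⁻¹ = h⁻¹ * d1⁻¹ * h by rw [hk']; group, ← h1inv, hk', ← hh]
      group
    have hk'J : k' ∈ E.J := E.mem_J (by
      rw [hk', show h⁻¹ * d1 * h = h⁻¹ * d1 * h⁻¹⁻¹ by rw [inv_inv], orderOf_conj']
      exact E.J_odd h1j) hk'a hk'b hk'z
    have hyz : h * y * h⁻¹ = y * z := by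
      have h1 : h * (z * y) * h⁻¹ = z := by rw [← hy']; group
      rw [show h * (z * y) * h⁻¹ = h * z * h⁻¹ * (h * y * h⁻¹) by group, hh] at h1
      rw [show h * y * h⁻¹ = y⁻¹ * (y * (h * y * h⁻¹)) by group, h1, hy1]
    have hk'y : Commute k' y := by
      have := hconj (show Commute d1 (y * z) from E.yz.eq ▸ h1y)
      rwa [← hyz, show h⁻¹ * (h * y * h⁻¹) * h = y by group] at this
    have hgen : ∀ {u v : G}, u ∈ E.Jfix y → u ≠ 1 → v ∈ E.Jfix y → v ∈ Subgroup.zpowers u := by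
      intro u v hu hu1 hv
      have e : Subgroup.zpowers u = E.Jfix y := by
        refine Subgroup.eq_of_le_of_card_ge (Subgroup.zpowers_le.2 hu) ?_
        rw [hk, Nat.card_zpowers, orderOf_eq_prime (E.J_cube ((E.mem_Jfix).1 hu).1) hu1]
      rw [e]; exact hv
    have hk'1 : k' ≠ 1 := fun e => h1one (by rw [show d1 = h * k' * h⁻¹ by rw [hk']; group, e]; group)
    obtain ⟨p, hp⟩ := pick3 (E.J_cube hk'J) (hgen ((E.mem_Jfix).2 ⟨hk'J, hk'y⟩) hk'1 hd0)
    set D := h * d0 * h⁻¹ with hDdef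
    have hDJ : D ∈ E.J := by
      rw [hDdef, hp, ← conj_pow, show h * k' * h⁻¹ = d1 by rw [hk']; group]
      exact pow_mem h1j _
    -- the cube of `h` fixes `e` up to inversion
    set k := h * h * h with hkdef
    have hkz : Commute k z := mul_inv_eq_iff_eq_mul.1 (by
      rw [hkdef, show h * h * h * z * (h * h * h)⁻¹ = h * (h * (h * z * h⁻¹) * h⁻¹) * h⁻¹ by group, hh, hyz,
        show h * (y * z) * h⁻¹ = h * y * h⁻¹ * (h * z * h⁻¹) by group, hh, hyz, mul_assoc, E.yz.symm.eq,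
        ← mul_assoc, hyy, one_mul])
    have hky : Commute k y := mul_inv_eq_iff_eq_mul.1 (by
      rw [hkdef, show h * h * h * y * (h * h * h)⁻¹ = h * (h * (h * y * h⁻¹) * h⁻¹) * h⁻¹ by group, hyz,
        show h * (y * z) * h⁻¹ = h * y * h⁻¹ * (h * z * h⁻¹) by group, hh, hyz,
        show y * z * y = z by rw [mul_assoc, E.yz.symm.eq, ← mul_assoc, hyy, one_mul], hh])
    have hkx : Commute k x := (hhx.mul_left hhx).mul_left hhx
    obtain ⟨v, hv6, hkv⟩ := E.cent_XS h9 hkz hkx (by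
      have e' := congrArg F.p hky.eq
      rw [F.p_mul hkz E.yz, F.p_mul E.yz hkz, E.py] at e'
      exact e')
    have hke : k * e * k⁻¹ = e ∨ k * e * k⁻¹ = e⁻¹ := by
      have hxe : x * e * x⁻¹ = e := mul_inv_eq_iff_eq_mul.2 hex.symm.eq
      have hxxe : x * x * e * (x * x)⁻¹ = e := mul_inv_eq_iff_eq_mul.2 (hex.mul_right hex).symm.eq
      have hv' : v * e * v⁻¹ = e ∨ v * e * v⁻¹ = e⁻¹ := by
        rcases hv6 with e' | e' | e' | e' | e' | e' <;> rw [e']
        · exact Or.inl (by group)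
        · exact Or.inl hxe
        · exact Or.inl hxxe
        · exact Or.inr hye
        · exact Or.inr (by rw [show y * x * e * (y * x)⁻¹ = y * (x * e * x⁻¹) * y⁻¹ by group, hxe, hye])
        · exact Or.inr (by
            rw [show y * (x * x) * e * (y * (x * x))⁻¹ = y * (x * x * e * (x * x)⁻¹) * y⁻¹ by group, hxxe, hye])
      rcases hkv with e' | e' <;> rw [e']
      · exact hv'
      · rcases hv' with e'' | e''
        · exact Or.inl (by rw [show z * v * e * (z * v)⁻¹ = z * (v * e * v⁻¹) * z⁻¹ by group, e'', hez.symm.eq,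
            mul_inv_cancel_right])
        · exact Or.inr (by rw [show z * v * e * (z * v)⁻¹ = z * (v * e * v⁻¹) * z⁻¹ by group, e'',
            hez.inv_left.symm.eq, mul_inv_cancel_right])
    have hD2 : h * D * h⁻¹ = k * e * k⁻¹ := by rw [hDdef, ← hhe, hkdef]; group
    have hcomm_e : ∀ {g : G}, Commute g (k * e * k⁻¹) → Commute g e := fun hg => by
      rcases hke with e' | e' <;> rw [e'] at hg
      exacts [hg, Commute.inv_right_iff.1 hg]
    -- two transvections
    obtain ⟨u1, hu1J, hu1e⟩ := hshift d0 hdJ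
    set T1 := h * u1 * h⁻¹ with hT1
    have hT1d : T1 * d0 * T1⁻¹ = d0 * D := by
      rw [hT1, hDdef]
      conv_lhs => rw [← hhe]
      rw [show h * u1 * h⁻¹ * (h * e * h⁻¹) * (h * u1 * h⁻¹)⁻¹ = h * (u1 * e * u1⁻¹) * h⁻¹ by group, hu1e,
        show h * (e * d0) * h⁻¹ = h * e * h⁻¹ * (h * d0 * h⁻¹) by group, hhe]
    have hT1D : Commute T1 D := commute_conj (hu1J d0 hdJ) h
    have hT1e : Commute T1 e := hcomm_e (hD2 ▸ commute_conj (hu1J D hDJ) h)
    set μ := h⁻¹ * h⁻¹ * d0⁻¹ * h * h with hμ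
    have hμJ : μ ∈ E.J := by
      rcases hke with e' | e'
      · have : μ = D⁻¹ := by
          rw [hμ, ← hhe, show (h * e * h⁻¹)⁻¹ = h * (k * e * k⁻¹)⁻¹ * h⁻¹ by rw [e']; group, ← hD2]
          group
        exact this ▸ inv_mem hDJ
      · have : μ = D := by
          rw [hμ, ← hhe, show (h * e * h⁻¹)⁻¹ = h * (k * e * k⁻¹) * h⁻¹ by rw [e']; group, ← hD2]
          group
        exact this ▸ hDJ
    obtain ⟨u2, hu2J, hu2e⟩ := hshift μ hμJ
    set T2 := h * h * u2 * (h * h)⁻¹ with hT2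
    have hDe : D = h * h * e * (h * h)⁻¹ := by rw [hDdef, ← hhe]; group
    have hμd : h * h * μ * (h * h)⁻¹ = d0⁻¹ := by rw [hμ]; group
    have hT2D : T2 * D * T2⁻¹ = D * d0⁻¹ := by
      rw [hT2, ← hμd, hDe, show h * h * u2 * (h * h)⁻¹ * (h * h * e * (h * h)⁻¹) * (h * h * u2 * (h * h)⁻¹)⁻¹ =
        h * h * (u2 * e * u2⁻¹) * (h * h)⁻¹ by group, hu2e]
      group
    have hT2d : Commute T2 d0 := by
      have := commute_conj (hu2J μ hμJ) (h * h)
      rw [hμd] at this
      exact Commute.inv_right_iff.1 this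
    have hT2e : Commute T2 e := by
      refine hcomm_e ?_
      have := commute_conj (hu2J d0 hdJ) (h * h)
      rwa [show h * h * d0 * (h * h)⁻¹ = k * e * k⁻¹ by rw [← hD2, hDdef]; group] at this
    set g := T1 * T2 * T1 with hgdef
    have hdD : Commute d0 D := E.J_comm hdJ hDJ
    have hgd : g * d0 * g⁻¹ = D := by
      rw [hgdef, show T1 * T2 * T1 * d0 * (T1 * T2 * T1)⁻¹ = T1 * (T2 * (T1 * d0 * T1⁻¹) * T2⁻¹) * T1⁻¹ by group,
        hT1d, show T2 * (d0 * D) * T2⁻¹ = T2 * d0 * T2⁻¹ * (T2 * D * T2⁻¹) by group, hT2D,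
        hT2d.eq, mul_inv_cancel_right, ← mul_assoc d0, hdD.eq, mul_inv_cancel_right, hT1D.eq, mul_inv_cancel_right]
    have hgD : g * D * g⁻¹ = d0⁻¹ := by
      rw [hgdef, show T1 * T2 * T1 * D * (T1 * T2 * T1)⁻¹ = T1 * (T2 * (T1 * D * T1⁻¹) * T2⁻¹) * T1⁻¹ by group,
        hT1D.eq, mul_inv_cancel_right, hT2D,
        show T1 * (D * d0⁻¹) * T1⁻¹ = T1 * D * T1⁻¹ * (T1 * d0 * T1⁻¹)⁻¹ by group, hT1d, hT1D.eq,
        mul_inv_cancel_right, mul_inv_rev, mul_inv_cancel_left]
    have hg2 : g * g * d0 * (g * g)⁻¹ = d0⁻¹ := by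
      rw [show g * g * d0 * (g * g)⁻¹ = g * (g * d0 * g⁻¹) * g⁻¹ by group, hgd, hgD]
    have hge : Commute g e := (hT1e.mul_left hT2e).mul_left hT1e
    obtain ⟨o, ho, hgo⟩ := E.odd_power h9 hez he3 hes hge
    have hodd : ∀ q : G, q * d0 * q⁻¹ = d0⁻¹ → ∀ r : ℕ, q ^ (2 * r + 1) * d0 * (q ^ (2 * r + 1))⁻¹ = d0⁻¹ := by
      intro q hq r
      induction r with
      | zero => simpa using hq
      | succ r ih =>
        rw [show 2 * (r + 1) + 1 = (2 * r + 1) + 1 + 1 by ring, pow_succ', pow_succ',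
          show q * (q * q ^ (2 * r + 1)) * d0 * (q * (q * q ^ (2 * r + 1)))⁻¹ =
          q * (q * (q ^ (2 * r + 1) * d0 * (q ^ (2 * r + 1))⁻¹) * q⁻¹) * q⁻¹ by group, ih,
          show q * d0⁻¹ * q⁻¹ = (q * d0 * q⁻¹)⁻¹ by group, hq, inv_inv, hq]
    obtain ⟨r, rfl⟩ := ho
    have h1 := hodd (g * g) hg2 r
    rw [← pow_two, ← pow_mul, hgo, one_mul, inv_one, mul_one] at h1
    have h2 := E.J_cube hdJ
    rw [pow_succ, pow_two, mul_eq_one_iff_eq_inv.2 h1, one_mul] at h2
    exact hd1 h2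
  · rw [h0] at hT'
    -- `x * d0` would not be a Four element
    have hxe3 : (x * e) ^ 3 = 1 := by rw [hex.symm.mul_pow, E.x3, he3, one_mul]
    have hF := (E.four_of_card (E.xz.mul_left hez) hxe3 hxes).conj h
    rw [show h * (x * e) * h⁻¹ = h * x * h⁻¹ * (h * e * h⁻¹) by group, hhe, mul_inv_eq_iff_eq_mul.2 hhx.eq,
      E.xab, mul_assoc, show a * (b * d0) = w0 * b * w0⁻¹ by rw [hT'.2.2, pow_one]] at hF
    exact E.b_not_four hF.of_conj
  · rw [h0] at hT' hxd
    rw [show a ^ (2 + 1) = 1 by rw [E.a3], one_mul] at hxd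
    have hb1 := E.tr_beta hT'
    rw [show a ^ (2 * 2) = a by rw [show 2 * 2 = 3 + 1 by norm_num, pow_succ, E.a3, one_mul]] at hb1
    have hy0 := congrArg (fun g => y * g * y⁻¹) hb1
    beta_reduce at hy0
    rw [show y * (w0 * d0 * w0⁻¹) * y⁻¹ = y * w0 * y⁻¹ * (y * d0 * y⁻¹) * (y * w0 * y⁻¹)⁻¹ by group,
      show y * (a * d0) * y⁻¹ = y * a * y⁻¹ * (y * d0 * y⁻¹) by group, E.yab, hdy.symm.eq,
      mul_inv_cancel_right] at hy0
    have hF : Four (b * d0) := hxd ▸ E.x_four.conj w0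
    rw [← hy0] at hF
    exact hne ((hhe.symm ▸ hF.of_conj : Four (h * e * h⁻¹)).of_conj)

end Elts

/-- There is no such configuration in degree nine or ten. -/
theorem Setup.setup_false [Finite G] (S : Setup F) : False := by
  obtain ⟨x, y, a, b, c, E⟩ := S.exists_elts
  rcases E.card_Jy with h1 | h3 | h9'
  · refine E.small_false fun w hw => ?_
    have hc : Nat.card E.J = 1 := by rw [E.card_J, h1]
    have hb := Subgroup.eq_bot_of_card_eq _ hc
    exact Subgroup.mem_bot.1 (hb ▸ (show w ∈ E.J from hw))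
  · rcases (show n = 9 ∨ n = 10 by have := S.lo; have := S.hi; omega) with h9 | h10
    · obtain ⟨h, hh, hhx, hy'⟩ := E.exists_hy
      rcases hy' with e | e
      · exact E.hy_nine h9 hh hhx e
      · obtain ⟨d0, hd0, hd1, he | ⟨c', hc', he⟩⟩ := E.exists_normal h3 h9 hh hhx e
        · exact E.cycle_case h3 h9 hh hhx e hd0 hd1 he
        · exact E.triple_case h3 h9 hh hhx e hd0 hd1 hc' he
    · exact E.ten_false h3 h10
  · exact E.nine_not h9'

end Cfsg.Agent.AltDoubleCent
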