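import Cfsg.Agent.Lib.AltDoubleCent.Lifts
import Cfsg.Agent.Lib.Cores.Basic
import Mathlib.GroupTheory.FixedPointFree
import Mathlib.GroupTheory.SpecificGroups.Alternating.Simple

/-!
# The odd core of the centraliser of an element of order three

Main results: `oddCent`, `oddCent_conj`, `Frame.oddCent_cent`, `Frame.oddCent_comm`, `InJ`.
-/

set_option autoImplicit false
set_option linter.style.haveILetI false

namespace Cfsg.Agent.AltDoubleCent

open Equiv Equiv.Perm

universe u

variable {G : Type u} [Group G] {n : ℕ} {z : G}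

/-- The odd core of a centraliser, in the group. -/
def oddCent (g : G) : Subgroup G :=
  (Cfsg.pPrimeCore 2 (Subgroup.centralizer ({g} : Set G))).map (Subgroup.centralizer ({g} : Set G)).subtype

lemma oddCent_le {g x : G} (h : x ∈ oddCent g) : Commute x g := by
  obtain ⟨w, -, rfl⟩ := h
  exact Subgroup.mem_centralizer_singleton_iff.1 w.2

lemma oddCent_odd [Finite G] {g x : G} (h : x ∈ oddCent g) : Odd (orderOf x) := by
  obtain ⟨w, hw, rfl⟩ := h
  have h1 := Cores.coprime_card_pPrimeCore (G := Subgroup.centralizer ({g} : Set G)) 2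
  rw [Nat.coprime_two_right] at h1
  show Odd (orderOf ((w : Subgroup.centralizer ({g} : Set G)) : G))
  rw [Subgroup.orderOf_coe, ← Subgroup.orderOf_mk w hw]
  exact Odd.of_dvd_nat h1 (orderOf_dvd_natCard _)

lemma oddCent_norm [Finite G] {g k x : G} (hk : Commute k g) (h : x ∈ oddCent g) : k * x * k⁻¹ ∈ oddCent g := by
  obtain ⟨w, hw, rfl⟩ := h
  exact ⟨⟨k, Subgroup.mem_centralizer_singleton_iff.2 hk.eq⟩ * w * ⟨k, Subgroup.mem_centralizer_singleton_iff.2 hk.eq⟩⁻¹,
    (Cores.pPrimeCore_normal 2 _).conj_mem w hw _, rfl⟩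

lemma oddCent_conj [Finite G] {g x : G} (k : G) (h : x ∈ oddCent g) : k * x * k⁻¹ ∈ oddCent (k * g * k⁻¹) := by
  set H := Subgroup.centralizer ({g} : Set G) with hH
  set f := (MulAut.conj k).toMonoidHom with hf
  have hmap : H.map f = Subgroup.centralizer ({k * g * k⁻¹} : Set G) := by
    ext w
    rw [Subgroup.mem_map, Subgroup.mem_centralizer_singleton_iff]
    constructor
    · rintro ⟨v, hv, rfl⟩
      exact (commute_conj (Subgroup.mem_centralizer_singleton_iff.1 hv : Commute v g) k).eq
    · intro hw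
      refine ⟨k⁻¹ * w * k, Subgroup.mem_centralizer_singleton_iff.2 ?_, by simp [hf, mul_assoc]⟩
      have := commute_conj (show Commute w (k * g * k⁻¹) from hw) k⁻¹
      rw [inv_inv, show k⁻¹ * (k * g * k⁻¹) * k = g by group] at this
      exact this.eq
  have e : (oddCent g).map f = oddCent (k * g * k⁻¹) := by
    rw [oddCent, oddCent, ← hmap, ← Cores.pPrimeCore_map_mulEquiv
      (H.equivMapOfInjective f (MulAut.conj k).injective) 2, Subgroup.map_map, Subgroup.map_map]
    rfl
  exact e ▸ ⟨x, h, rfl⟩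

lemma oddCent_inv_eq (g : G) : oddCent g⁻¹ = oddCent g := by
  have h : Subgroup.centralizer ({g⁻¹} : Set G) = Subgroup.centralizer ({g} : Set G) := by
    ext w
    rw [Subgroup.mem_centralizer_singleton_iff, Subgroup.mem_centralizer_singleton_iff]
    exact Commute.inv_right_iff (a := w) (b := g)
  rw [oddCent, oddCent, h]

/-- Common elements of the two odd cores inverted by `z`. -/
def InJ (z a b w : G) : Prop := w ∈ oddCent a ∧ w ∈ oddCent b ∧ z * w * z⁻¹ = w⁻¹

namespace Frame

variable [Finite G] (F : Frame G n z) (hn : n ≤ 10) (h8 : 8 ≤ n) {a : G} (ha : Commute a z) (h3 : a ^ 3 = 1)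
  (hs : (F.p a).support.card = 3)

include F hn ha h3 hs in
lemma three_unique : ∀ w : G, orderOf w = 2 → Commute w a → Commute w z → w = z := fun w h2 h4 h5 =>
  F.unique_of_odd_support hn ha (by rw [← F.p_pow ha, h3, F.p_one]) (by rw [hs]; decide) h2 h4 h5

include F hn ha h3 hs in
lemma oddCent_zStar {x : G} (hx : Commute x a) : z * x * z⁻¹ * x⁻¹ ∈ oddCent a :=
  F.unique_zStar ha.symm (F.three_unique hn ha h3 hs) hx

include h8 ha h3 hs in
/-- The odd core of the centraliser of a three-cycle meets `C(z)` in the cycle. -/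
theorem oddCent_cent {x : G} (hx : x ∈ oddCent a) (hxz : Commute x z) : x ∈ Subgroup.zpowers a := by
  haveI : Fact (Nat.Prime 3) := ⟨Nat.prime_three⟩
  set q := F.p a with hq
  have hq3 : q ^ 3 = 1 := by rw [hq, ← F.p_pow ha, h3, F.p_one]
  let T := {k : Fin n // k ∉ q.support}
  have hT : Nat.card T = n - 3 := by
    rw [Nat.card_eq_fintype_card, Fintype.card_subtype_compl, Fintype.card_fin, Fintype.card_coe, hs]
  let L : Subgroup (alternatingGroup T) :=
    { carrier := {σ | ∃ w, w ∈ oddCent a ∧ Commute w z ∧ ∀ t : T, F.p w t = ((σ : Perm T) t : Fin n)}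
      one_mem' := ⟨1, one_mem _, Commute.one_left z, fun t => by rw [F.p_one]; rfl⟩
      mul_mem' := by
        rintro σ τ ⟨v, hv, hvz, hv'⟩ ⟨w, hw, hwz, hw'⟩
        refine ⟨v * w, mul_mem hv hw, hvz.mul_left hwz, fun t => ?_⟩
        rw [F.p_mul hvz hwz, Perm.mul_apply, hw', hv']
        rfl
      inv_mem' := by
        rintro σ ⟨v, hv, hvz, hv'⟩
        refine ⟨v⁻¹, inv_mem hv, hvz.inv_left, fun t => ?_⟩
        rw [F.p_inv hvz, Perm.inv_eq_iff_eq, hv']
        exact congrArg Subtype.val ((σ : Perm T).apply_symm_apply t).symm }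
  have hLn : L.Normal := ⟨by
    rintro σ ⟨v, hv, hvz, hv'⟩ τ
    have hsg : sign (ofSubtype (τ : Perm T)) = 1 := by
      rw [sign_ofSubtype]; exact mem_alternatingGroup.1 τ.2
    obtain ⟨k, hk, hkp⟩ := F.exists_lift hsg
    have hka : Commute k a := F.commute_of_odd ha hk (Odd.of_dvd_nat (by decide) (orderOf_dvd_of_pow_eq_one h3))
      (by
        rw [hkp]
        refine (Disjoint.commute fun j => ?_)
        by_cases hj : j ∈ q.support
        · exact Or.inr (ofSubtype_apply_of_not_mem _ (fun h => h hj))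
        · exact Or.inl (Perm.notMem_support.1 hj))
    refine ⟨k * v * k⁻¹, oddCent_norm hka hv, F.conj_z hk hvz, fun t => ?_⟩
    rw [F.p_conj hk hvz, hkp, ← map_inv, Perm.mul_apply, Perm.mul_apply, ofSubtype_apply_coe, hv',
      ofSubtype_apply_coe]
    rfl⟩
  have hcm : Commute q (F.p x) := by
    have e := congrArg F.p (oddCent_le hx).eq
    rw [F.p_mul hxz ha, F.p_mul ha hxz] at e
    exact e.symm
  have hc : ∀ k, q (F.p x k) = F.p x (q k) := fun k => congrArg (fun r : Perm (Fin n) => r k) hcm.eq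
  have hmem : ∀ k, F.p x k ∉ q.support ↔ k ∉ q.support := fun k => by
    rw [Perm.mem_support, Perm.mem_support, hc, (F.p x).injective.ne_iff]
  set σ : Perm T := (F.p x).subtypePerm hmem with hσ
  have hodd := oddCent_odd hx
  have hσ1 : σ ^ orderOf x = 1 := by
    rw [hσ, subtypePerm_pow]
    ext t
    simp [← F.p_pow hxz, pow_orderOf_eq_one, F.p_one]
  have hσs : sign σ = 1 := by
    rcases Int.units_eq_one_or (sign σ) with e | e
    · exact e
    · have := congrArg sign hσ1
      rw [map_pow, e, map_one, hodd.neg_one_pow] at this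
      exact absurd this (by decide)
  haveI : IsSimpleGroup (alternatingGroup T) := alternatingGroup.isSimpleGroup (by rw [hT]; omega)
  have hbot : L = ⊥ := by
    refine hLn.eq_bot_or_eq_top.resolve_right fun htop => ?_
    obtain ⟨s, hs', hs2⟩ : ∃ s : alternatingGroup T, s ≠ 1 ∧ s ^ 2 = 1 := by
      haveI : Fact (Nat.Prime 2) := ⟨Nat.prime_two⟩
      haveI : Nontrivial T := Finite.one_lt_card_iff_nontrivial.1 (by rw [hT]; omega)
      obtain ⟨s, hs⟩ := exists_prime_orderOf_dvd_card' (G := alternatingGroup T) 2 (by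
        rw [nat_card_alternatingGroup]
        refine Nat.dvd_div_of_mul_dvd ?_
        exact Nat.dvd_factorial (by norm_num) (by rw [hT]; omega))
      exact ⟨s, fun e => by rw [e, orderOf_one] at hs; omega, by rw [← hs, pow_orderOf_eq_one]⟩
    obtain ⟨w, hw, hwz, hw'⟩ : s ∈ L := htop ▸ Subgroup.mem_top s
    have hpow : ∀ (m : ℕ) (t : T), (F.p w ^ m) t = (((s : Perm T) ^ m) t : Fin n) := by
      intro m
      induction m with
      | zero => intro t; rfl
      | succ m ih => intro t; rw [pow_succ, pow_succ, Perm.mul_apply, hw', ih, Perm.mul_apply]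
    refine hs' (Subtype.ext (Equiv.ext fun t => Subtype.ext ?_))
    obtain ⟨r, hr⟩ := oddCent_odd hw
    have h1 := hpow (orderOf w) t
    rw [← F.p_pow hwz, pow_orderOf_eq_one, F.p_one, hr, pow_succ, pow_mul,
      show (s : Perm T) ^ 2 = 1 by rw [← Subgroup.coe_pow, hs2]; rfl, one_pow, one_mul] at h1
    exact h1.symm
  have hfix : ∀ k, k ∉ q.support → F.p x k = k := fun k hk => by
    have hm : (⟨σ, mem_alternatingGroup.2 hσs⟩ : alternatingGroup T) ∈ L := ⟨x, hx, hxz, fun t => rfl⟩
    rw [hbot, Subgroup.mem_bot] at hm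
    exact congrArg (fun r : alternatingGroup T => (((r : Perm T) ⟨k, hk⟩ : T) : Fin n)) hm
  -- on the cycle
  obtain ⟨u, hu⟩ := Finset.card_pos.1 (show 0 < q.support.card by omega)
  have hu' := Perm.mem_support.1 hu
  have hq3' : ∀ k, q (q (q k)) = k := fun k => by
    show (q ^ 3) k = k
    rw [hq3, Perm.one_apply]
  have hquq : q (q u) ≠ u := fun e => hu' (by
    calc q u = q (q (q u)) := by rw [e]
      _ = u := hq3' u)
  have hsupp : q.support = {u, q u, q (q u)} := by
    refine (Finset.eq_of_subset_of_card_le (fun k hk => ?_) ?_).symm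
    · simp only [Finset.mem_insert, Finset.mem_singleton] at hk
      rcases hk with rfl | rfl | rfl
      · exact hu
      · exact Perm.apply_mem_support.2 hu
      · exact Perm.apply_mem_support.2 (Perm.apply_mem_support.2 hu)
    · rw [hs, Finset.card_insert_of_notMem, Finset.card_insert_of_notMem, Finset.card_singleton]
      · simpa using fun e => hu' (q.injective e).symm
      · simp only [Finset.mem_insert, Finset.mem_singleton, not_or]
        exact ⟨hu'.symm, hquq.symm⟩
  have hpu : F.p x u ∈ q.support := by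
    by_contra hc'
    exact (hmem u).1 hc' hu
  rw [hsupp] at hpu
  obtain ⟨i, hi⟩ : ∃ i : ℕ, F.p x u = (q ^ i) u := by
    simp only [Finset.mem_insert, Finset.mem_singleton] at hpu
    rcases hpu with e | e | e
    · exact ⟨0, e⟩
    · exact ⟨1, e⟩
    · exact ⟨2, by rw [pow_two, Perm.mul_apply]; exact e⟩
  have e : F.p x = q ^ i := Equiv.ext fun k => by
    have hqc : ∀ j, (q ^ i) (q j) = q ((q ^ i) j) := fun j => by
      rw [← Perm.mul_apply, ← pow_succ, pow_succ', Perm.mul_apply]
    by_cases hk : k ∈ q.support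
    · rw [hsupp, Finset.mem_insert, Finset.mem_insert, Finset.mem_singleton] at hk
      rcases hk with rfl | rfl | rfl
      · exact hi
      · rw [← hc, hi, hqc]
      · rw [← hc, ← hc, hi, hqc, hqc]
    · rw [hfix k hk, Equiv.Perm.pow_apply_eq_self_of_apply_eq_self (Perm.notMem_support.1 hk)]
  rw [F.eq_of_odd hxz (ha.pow_left i) hodd (Odd.of_dvd_nat (by decide : Odd 3)
    ((orderOf_pow_dvd i).trans (orderOf_dvd_of_pow_eq_one h3))) (by rw [e, F.p_pow ha])]
  exact pow_mem (Subgroup.mem_zpowers a) i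

include F h8 ha h3 hs in
/-- Modulo the cycle the odd core is abelian and inverted by `z`. -/
theorem oddCent_comm {x y : G} (hx : x ∈ oddCent a) (hy : y ∈ oddCent a) :
    x * y * x⁻¹ * y⁻¹ ∈ Subgroup.zpowers a ∧ z * x * z⁻¹ * x ∈ Subgroup.zpowers a := by
  set N : Subgroup (oddCent a) := (Subgroup.zpowers a).subgroupOf (oddCent a) with hN
  haveI : N.Normal := ⟨fun w hw g => by
    rw [hN, Subgroup.mem_subgroupOf] at hw ⊢
    rw [Subgroup.coe_mul, Subgroup.coe_mul, Subgroup.coe_inv]
    obtain ⟨i, hi⟩ := Subgroup.mem_zpowers_iff.1 hw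
    rw [← hi, (((oddCent_le g.2).zpow_right i)).eq, mul_inv_cancel_right]
    exact zpow_mem (Subgroup.mem_zpowers a) i⟩
  have hzm : ∀ w : oddCent a, z * (w : G) * z⁻¹ ∈ oddCent a := fun w => oddCent_norm ha.symm w.2
  let f : oddCent a →* oddCent a :=
    { toFun := fun w => ⟨z * w * z⁻¹, hzm w⟩
      map_one' := Subtype.ext (by simp)
      map_mul' := fun v w => Subtype.ext (by simp [mul_assoc]) }
  have hff : ∀ w, f (f w) = w := fun w => Subtype.ext (by
    show z * (z * (w : G) * z⁻¹) * z⁻¹ = w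
    rw [F.z_inv, show z * (z * (w : G) * z) * z = z * z * w * (z * z) by group, F.zz, one_mul, mul_one])
  let φ : (oddCent a ⧸ N) →* (oddCent a ⧸ N) := QuotientGroup.map N N f (fun w hw => by
    rw [hN, Subgroup.mem_comap, Subgroup.mem_subgroupOf] at *
    obtain ⟨i, hi⟩ := Subgroup.mem_zpowers_iff.1 hw
    show z * (w : G) * z⁻¹ ∈ _
    rw [← hi, (ha.symm.zpow_right i).eq, mul_inv_cancel_right]
    exact zpow_mem (Subgroup.mem_zpowers a) i)
  have hinv : Function.Involutive φ := fun q => by
    induction q using QuotientGroup.induction_on with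
    | _ w => exact congrArg (QuotientGroup.mk : oddCent a → oddCent a ⧸ N) (hff w)
  have hfree : MonoidHom.FixedPointFree φ := fun q hq => by
    induction q using QuotientGroup.induction_on with
    | _ w =>
      have hm : ((f w)⁻¹ * w : oddCent a) ∈ N := QuotientGroup.eq.1 hq
      rw [hN, Subgroup.mem_subgroupOf] at hm
      obtain ⟨i, hi⟩ := Subgroup.mem_zpowers_iff.1 hm
      refine (QuotientGroup.eq_one_iff w).2 ?_
      rw [hN, Subgroup.mem_subgroupOf]
      have e : (w : G) = z * w * z⁻¹ * a ^ i := by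
        rw [hi]
        show (w : G) = z * w * z⁻¹ * ((z * w * z⁻¹)⁻¹ * w)
        group
      have e2 : z * (w : G) * z⁻¹ = w * a ^ i := by
        conv_lhs => rw [e]
        rw [show z * (z * (w : G) * z⁻¹ * a ^ i) * z⁻¹ = z * z * w * (z * z)⁻¹ * (z * a ^ i * z⁻¹) by group,
          F.zz, one_mul, inv_one, mul_one, (ha.symm.zpow_right i).eq, mul_inv_cancel_right]
      have e3 : a ^ i = 1 := by
        have h2 : a ^ i * a ^ i = 1 := by
          conv_lhs at e => rfl
          rw [e2, mul_assoc] at e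
          exact mul_eq_left.1 e.symm
        have ho : (a ^ i) ^ 3 = 1 := by
          rw [← zpow_natCast, ← zpow_mul, mul_comm, zpow_mul, zpow_natCast, h3, one_zpow]
        rwa [pow_succ, pow_two, h2, one_mul] at ho
      rw [e3, mul_one] at e2
      exact F.oddCent_cent h8 ha h3 hs w.2 ((show Commute z (w : G) from mul_inv_eq_iff_eq_mul.1 e2).symm)
  have h1 := hfree.commute_all_of_involutive hinv (QuotientGroup.mk (s := N) ⟨x, hx⟩) (QuotientGroup.mk (s := N) ⟨y, hy⟩)
  have h2 := congrFun (hfree.coe_eq_inv_of_involutive hinv) (QuotientGroup.mk (s := N) ⟨x, hx⟩)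
  constructor
  · have : ((⟨x, hx⟩ * ⟨y, hy⟩ * ⟨x, hx⟩⁻¹ * ⟨y, hy⟩⁻¹ : oddCent a) : oddCent a ⧸ N) = 1 := by
      rw [QuotientGroup.mk_mul, QuotientGroup.mk_mul, QuotientGroup.mk_mul, QuotientGroup.mk_inv,
        QuotientGroup.mk_inv, h1.eq, mul_inv_cancel_right, mul_inv_cancel]
    have := (QuotientGroup.eq_one_iff _).1 this
    rw [hN, Subgroup.mem_subgroupOf] at this
    exact this
  · have : ((f ⟨x, hx⟩ * ⟨x, hx⟩ : oddCent a) : oddCent a ⧸ N) = 1 := by
      rw [QuotientGroup.mk_mul]
      show φ (QuotientGroup.mk (s := N) ⟨x, hx⟩) * _ = 1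
      rw [h2, inv_mul_cancel]
    have := (QuotientGroup.eq_one_iff _).1 this
    rw [hN, Subgroup.mem_subgroupOf] at this
    exact this

end Frame

end Cfsg.Agent.AltDoubleCent
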