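import Cfsg.Agent.Lib.DoubleCoverAlt.Multiplier
import Mathlib.GroupTheory.Perm.Cycle.Type

/-!
# A double cover of an alternating group without a complement: lifts

Main results: `DC`, `DC.sq_double`, `DC.anti`, `DC.exists_odd_lift`, `DC.commute_of_odd`.
-/

set_option autoImplicit false

namespace Cfsg.Agent.AltDoubleCent

open Equiv Equiv.Perm

/-- `π` is a two-fold cover of the alternating group with kernel `{1, z}` and no complement. -/
structure DC {C : Type*} [Group C] {n : ℕ} (π : C →* Perm (Fin n)) (z : C) : Prop where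
  ord : orderOf z = 2
  ker : ∀ g, π g = 1 ↔ g = 1 ∨ g = z
  even : ∀ g, sign (π g) = 1
  surj : ∀ σ : Perm (Fin n), sign σ = 1 → ∃ g, π g = σ
  full : ∀ L : Subgroup C, (∀ σ : Perm (Fin n), sign σ = 1 → ∃ g ∈ L, π g = σ) → z ∈ L

/-- A double transposition. -/
def Dbl {n : ℕ} (σ : Perm (Fin n)) : Prop :=
  ∃ a b c d : Fin n, a ≠ b ∧ c ≠ d ∧ a ≠ c ∧ a ≠ d ∧ b ≠ c ∧ b ≠ d ∧ σ = swap a b * swap c d

variable {C : Type*} [Group C] {n : ℕ} {π : C →* Perm (Fin n)} {z : C}

lemma sign_dbl {σ : Perm (Fin n)} (h : Dbl σ) : sign σ = 1 := by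
  obtain ⟨a, b, c, d, hab, hcd, -, -, -, -, rfl⟩ := h
  rw [map_mul, sign_swap hab, sign_swap hcd]; decide

lemma cycleType_dbl {σ : Perm (Fin n)} (h : Dbl σ) : σ.cycleType = {2, 2} := by
  obtain ⟨a, b, c, d, hab, hcd, hac, had, hbc, hbd, rfl⟩ := h
  have hd : Disjoint (swap a b) (swap c d) := by
    refine disjoint_iff_eq_or_eq.2 fun x => ?_
    by_cases hx : x = a ∨ x = b
    · right
      rcases hx with rfl | rfl
      · exact swap_apply_of_ne_of_ne hac had
      · exact swap_apply_of_ne_of_ne hbc hbd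
    · left
      simp only [not_or] at hx
      exact swap_apply_of_ne_of_ne hx.1 hx.2
  rw [hd.cycleType_mul, (isCycle_swap hab).cycleType, (isCycle_swap hcd).cycleType,
    card_support_swap hab, card_support_swap hcd]
  rfl

lemma dbl_mul_self {σ : Perm (Fin n)} (h : Dbl σ) : σ * σ = 1 := by
  have h2 : orderOf σ = 2 := by rw [← lcm_cycleType, cycleType_dbl h]; rfl
  rw [← pow_two, ← h2, pow_orderOf_eq_one]

lemma Dbl.conj {σ : Perm (Fin n)} (h : Dbl σ) (τ : Perm (Fin n)) : Dbl (τ * σ * τ⁻¹) := by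
  obtain ⟨a, b, c, d, hab, hcd, hac, had, hbc, hbd, rfl⟩ := h
  exact ⟨τ a, τ b, τ c, τ d, τ.injective.ne hab, τ.injective.ne hcd, τ.injective.ne hac, τ.injective.ne had,
    τ.injective.ne hbc, τ.injective.ne hbd, DoubleCoverAlt.conj_two_swaps τ a b c d⟩

/-- Two double transpositions are conjugate by an even permutation. -/
lemma exists_even_conj {σ ρ : Perm (Fin n)} (hσ : Dbl σ) (hρ : Dbl ρ) :
    ∃ τ : Perm (Fin n), sign τ = 1 ∧ τ * σ * τ⁻¹ = ρ := by
  obtain ⟨τ, hτ⟩ := isConj_iff.1 (isConj_iff_cycleType_eq.2 ((cycleType_dbl hσ).trans (cycleType_dbl hρ).symm))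
  obtain ⟨a, b, c, d, hab, hcd, hac, had, hbc, hbd, e⟩ := hσ
  rcases Int.units_eq_one_or (sign τ) with ht | ht
  · exact ⟨τ, ht, hτ⟩
  · refine ⟨τ * swap a b, by rw [map_mul, ht, sign_swap hab]; decide, ?_⟩
    have e1 : swap a b * σ * swap a b = σ := by
      have := DoubleCoverAlt.conj_two_swaps (swap a b) a b c d
      rw [swap_apply_left, swap_apply_right, swap_apply_of_ne_of_ne hac.symm hbc.symm,
        swap_apply_of_ne_of_ne had.symm hbd.symm, swap_inv, swap_comm b a, ← e] at this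
      exact this
    rw [mul_inv_rev, swap_inv]
    calc τ * swap a b * σ * (swap a b * τ⁻¹) = τ * (swap a b * σ * swap a b) * τ⁻¹ := by simp only [mul_assoc]
      _ = ρ := by rw [e1, hτ]

namespace DC

variable (h : DC π z)
include h

lemma zz : z * z = 1 := by rw [← pow_two, ← h.ord, pow_orderOf_eq_one]

lemma z_ne : z ≠ 1 := fun e => by
  have := h.ord
  rw [e, orderOf_one] at this
  omega

lemma map_z : π z = 1 := (h.ker z).2 (Or.inr rfl)

lemma zc (g : C) : Commute z g := by
  have h1 : π (g * z * g⁻¹) = 1 := by rw [map_mul, map_mul, map_inv, h.map_z, mul_one, mul_inv_cancel]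
  rcases (h.ker _).1 h1 with e | e
  · exact absurd (by simpa using conj_eq_one_iff.1 e) h.z_ne
  · show z * g = g * z
    exact (mul_inv_eq_iff_eq_mul.1 e).symm

lemma eq_or {g k : C} (e : π g = π k) : g = k ∨ g = z * k := by
  have h1 : π (g * k⁻¹) = 1 := by rw [map_mul, map_inv, e, mul_inv_cancel]
  rcases (h.ker _).1 h1 with e' | e'
  · exact Or.inl (mul_inv_eq_one.1 e')
  · exact Or.inr (mul_inv_eq_iff_eq_mul.1 e')

lemma comm_or {g k : C} (e : Commute (π g) (π k)) : g * k = k * g ∨ g * k = z * (k * g) :=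
  h.eq_or (by rw [map_mul, map_mul, e.eq])

lemma eq_of_odd {g k : C} (hg : Odd (orderOf g)) (hk : Odd (orderOf k)) (e : π g = π k) : g = k := by
  rcases h.eq_or e with e' | e'
  · exact e'
  · exfalso
    have h1 : g ^ (orderOf g * orderOf k) = 1 := by rw [pow_mul, pow_orderOf_eq_one, one_pow]
    rw [e', (h.zc k).mul_pow, pow_mul' k, pow_orderOf_eq_one, one_pow, mul_one] at h1
    obtain ⟨r, hr⟩ := hg.mul hk
    rw [← e', hr, pow_succ, pow_mul, pow_two, h.zz, one_pow, one_mul] at h1
    exact h.z_ne h1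

lemma exists_odd_lift {σ : Perm (Fin n)} (hs : sign σ = 1) (ho : Odd (orderOf σ)) :
    ∃ g, π g = σ ∧ Odd (orderOf g) ∧ g ^ orderOf σ = 1 := by
  obtain ⟨g, hg⟩ := h.surj σ hs
  have h1 : (g ^ (orderOf σ + 1)) ^ orderOf σ = 1 := by
    rw [← pow_mul, mul_comm, pow_mul]
    have : π (g ^ orderOf σ) = 1 := by rw [map_pow, hg, pow_orderOf_eq_one]
    obtain ⟨r, hr⟩ := ho.add_one
    rcases (h.ker _).1 this with e | e
    · rw [e, one_pow]
    · rw [e, hr, ← two_mul, pow_mul, pow_two, h.zz, one_pow]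
  refine ⟨g ^ (orderOf σ + 1), ?_, Odd.of_dvd_nat ho (orderOf_dvd_of_pow_eq_one h1), h1⟩
  rw [map_pow, hg, pow_succ, pow_orderOf_eq_one, one_mul]

lemma commute_of_odd {g k : C} (hg : Odd (orderOf g)) (e : Commute (π g) (π k)) : Commute k g := by
  have h1 : k * g * k⁻¹ = g := h.eq_of_odd
    (by rw [(SemiconjBy.conj_mk k g).orderOf_eq.symm]; exact hg) hg
    (by rw [map_mul, map_mul, map_inv, ← e.eq, mul_inv_cancel_right])
  exact mul_inv_eq_iff_eq_mul.1 h1

lemma relabel (τ : Perm (Fin n)) : DC ((MulAut.conj τ).toMonoidHom.comp π) z where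
  ord := h.ord
  ker g := by
    show τ * π g * τ⁻¹ = 1 ↔ _
    rw [conj_eq_one_iff, h.ker]
  even g := by
    show sign (τ * π g * τ⁻¹) = 1
    rw [map_mul, map_mul, h.even, mul_one, map_inv, mul_inv_cancel]
  surj σ hσ := by
    obtain ⟨g, hg⟩ := h.surj (τ⁻¹ * σ * τ) (by
      rw [map_mul, map_mul, hσ, mul_one, map_inv, inv_mul_cancel])
    exact ⟨g, by show τ * π g * τ⁻¹ = σ; rw [hg]; group⟩
  full L hL := h.full L fun σ hσ => by
    obtain ⟨g, hgL, hg⟩ := hL (τ * σ * τ⁻¹) (by rw [map_mul, map_mul, hσ, mul_one, map_inv, mul_inv_cancel])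
    exact ⟨g, hgL, mul_left_cancel (mul_right_cancel hg)⟩

/-- The square of a lift of a double transposition is `z`. -/
theorem sq_double {g : C} (hg : Dbl (π g)) : g * g = z := by
  obtain ⟨k, rfl⟩ : ∃ k, n = k + 4 := by
    obtain ⟨a, b, c, d, hab, hcd, hac, had, hbc, hbd, -⟩ := hg
    refine ⟨n - 4, ?_⟩
    have hc : ({a, b, c, d} : Finset (Fin n)).card = 4 := by
      simp [hab, hac, had, hbc, hbd, hcd]
    have := Finset.card_le_univ ({a, b, c, d} : Finset (Fin n))
    rw [hc, Fintype.card_fin] at this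
    omega
  have hgg : π (g * g) = 1 := by rw [map_mul, dbl_mul_self hg]
  refine ((h.ker _).1 hgg).resolve_left fun h1 => ?_
  -- all such lifts are involutions
  have key : ∀ x : C, Dbl (π x) → x * x = 1 := by
    intro x hx
    obtain ⟨τ, hτ, e⟩ := exists_even_conj hg hx
    obtain ⟨u, hu⟩ := h.surj τ hτ
    rcases h.eq_or (g := x) (k := u * g * u⁻¹) (by rw [map_mul, map_mul, map_inv, hu, e]) with e' | e'
    · rw [e', show u * g * u⁻¹ * (u * g * u⁻¹) = u * (g * g) * u⁻¹ by group, h1, mul_one, mul_inv_cancel]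
    · rw [e', (h.zc _).symm.mul_mul_mul_comm, h.zz, one_mul,
        show u * g * u⁻¹ * (u * g * u⁻¹) = u * (g * g) * u⁻¹ by group, h1, mul_one, mul_inv_cancel]
  have hgen : ∀ i, i < k + 2 → ∃ x, π x = DoubleCoverAlt.gen (k + 1) i := fun i hi =>
    h.surj _ (mem_alternatingGroup.1 (DoubleCoverAlt.gen_mem (k := k + 1) (by omega)))
  choose! G hG using hgen
  have hrels := DoubleCoverAlt.rels_gen (k + 1)
  classical
  let y : ℕ → C := fun i => Nat.rec ((G 0) ^ 4)
    (fun i prev => if (prev * G (i + 1)) ^ 3 = 1 then G (i + 1) else z * G (i + 1)) i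
  have hy : ∀ i, i < k + 2 → π (y i) = DoubleCoverAlt.gen (k + 1) i := by
    intro i hi
    cases i with
    | zero =>
      show π (G 0 ^ 4) = _
      rw [map_pow, hG 0 hi, pow_succ, hrels.cube (by omega), one_mul]
    | succ i =>
      show π (if _ then _ else _) = _
      split_ifs
      · exact hG _ hi
      · rw [map_mul, h.map_z, one_mul, hG _ hi]
  have hy0 : y 0 ^ 3 = 1 := by
    show (G 0 ^ 4) ^ 3 = 1
    have h3 : π (G 0 ^ 3) = 1 := by rw [map_pow, hG 0 (by omega), hrels.cube (by omega)]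
    rw [← pow_mul, show 4 * 3 = 3 * (2 * 2) from rfl, pow_mul, pow_mul]
    rcases (h.ker _).1 h3 with e | e
    · rw [e, one_pow, one_pow]
    · rw [e, pow_two z, h.zz, one_pow]
  have hyadj : ∀ i, i + 1 < k + 2 → (y i * y (i + 1)) ^ 3 = 1 := by
    intro i hi
    show (y i * if (y i * G (i + 1)) ^ 3 = 1 then G (i + 1) else z * G (i + 1)) ^ 3 = 1
    split_ifs with h'
    · exact h'
    · have h3 : π ((y i * G (i + 1)) ^ 3) = 1 := by
        rw [map_pow, map_mul, hy i (by omega), hG _ hi, hrels.adj i (by omega)]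
      rw [← mul_assoc, (h.zc (y i)).symm.eq, mul_assoc z, (h.zc _).mul_pow,
        ((h.ker _).1 h3).resolve_left h', ← pow_succ, show 3 + 1 = 2 * 2 from rfl, pow_mul, pow_two z,
        h.zz, one_pow]
  set R := ({g : FreeGroup (Fin (k + 4 - 2)) | ∃ i : Fin (k + 4 - 2), i.val = 0 ∧ g = FreeGroup.of i ^ 3} ∪
       {g | ∃ i : Fin (k + 4 - 2), 1 ≤ i.val ∧ g = FreeGroup.of i ^ 2} ∪
       {g | ∃ i j : Fin (k + 4 - 2), j.val = i.val + 1 ∧ g = (FreeGroup.of i * FreeGroup.of j) ^ 3} ∪
       {g | ∃ i j : Fin (k + 4 - 2), i.val + 1 < j.val ∧ g = (FreeGroup.of i * FreeGroup.of j) ^ 2})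
    with hR
  have hlt : ∀ i : Fin (k + 4 - 2), i.val < k + 2 := fun i => by
    have := i.isLt
    omega
  have hne : ∀ {a b : ℕ}, a < k + 1 + 3 → b < k + 1 + 3 → a ≠ b →
      DoubleCoverAlt.pt (k + 1) a ≠ DoubleCoverAlt.pt (k + 1) b := fun ha hb hab => DoubleCoverAlt.pt_ne ha hb hab
  have hrel : ∀ r ∈ R, FreeGroup.lift (fun i : Fin (k + 4 - 2) => y i.val) r = 1 := by
    rintro r (((⟨i, hi, rfl⟩ | ⟨i, hi, rfl⟩) | ⟨i, j, hij, rfl⟩) | ⟨i, j, hij, rfl⟩) <;>
      simp only [map_pow, map_mul, FreeGroup.lift_apply_of]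
    · rw [hi]; exact hy0
    · rw [pow_two]
      refine key _ ?_
      rw [hy _ (hlt i), DoubleCoverAlt.gen_pos _ hi]
      have := hlt i
      exact ⟨_, _, _, _, hne (by omega) (by omega) (by omega), hne (by omega) (by omega) (by omega),
        hne (by omega) (by omega) (by omega), hne (by omega) (by omega) (by omega),
        hne (by omega) (by omega) (by omega), hne (by omega) (by omega) (by omega), rfl⟩
    · rw [hij]
      exact hyadj _ (hij ▸ hlt j)
    · rw [pow_two]
      refine key _ ?_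
      rw [map_mul, hy _ (hlt i), hy _ (hlt j)]
      have := hlt j
      rcases Nat.eq_zero_or_pos i.val with hi | hi
      · rw [hi, DoubleCoverAlt.gen_zero, DoubleCoverAlt.gen_pos _ (show 1 ≤ j.val by omega), ← mul_assoc,
          DoubleCoverAlt.sw_conj]
        exact ⟨_, _, _, _, hne (by omega) (by omega) (by omega), hne (by omega) (by omega) (by omega),
          hne (by omega) (by omega) (by omega), hne (by omega) (by omega) (by omega),
          hne (by omega) (by omega) (by omega), hne (by omega) (by omega) (by omega), rfl⟩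
      · rw [DoubleCoverAlt.gen_pos _ hi, DoubleCoverAlt.gen_pos _ (show 1 ≤ j.val by omega),
          ← mul_assoc, mul_assoc (DoubleCoverAlt.sw (k + 1) 0 1),
          (DoubleCoverAlt.sw_comm (k := k + 1) (a := i.val + 1) (b := i.val + 2) (c := 0) (d := 1)
            (by omega) (by omega) (by omega) (by omega) (by omega) (by omega) (by omega) (by omega)).eq,
          ← mul_assoc (DoubleCoverAlt.sw (k + 1) 0 1), DoubleCoverAlt.sw_sq, one_mul]
        exact ⟨_, _, _, _, hne (by omega) (by omega) (by omega), hne (by omega) (by omega) (by omega),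
          hne (by omega) (by omega) (by omega), hne (by omega) (by omega) (by omega),
          hne (by omega) (by omega) (by omega), hne (by omega) (by omega) (by omega), rfl⟩
  set f := PresentedGroup.toGroup hrel with hf
  obtain ⟨eP⟩ := S3335.result (k + 4) (by omega)
  have hfin : Finite (PresentedGroup R) := Finite.of_equiv _ eP.symm.toEquiv
  have hcard : Nat.card f.range ≤ Nat.card (alternatingGroup (Fin (k + 4))) :=
    (Nat.card_le_card_of_surjective _ f.rangeRestrict_surjective).trans (Nat.card_congr eP.toEquiv).le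
  have : Finite f.range := Finite.of_surjective _ f.rangeRestrict_surjective
  let r : f.range →* alternatingGroup (Fin (k + 4)) :=
    (π.comp f.range.subtype).codRestrict _ fun x => mem_alternatingGroup.2 (h.even _)
  have hrs : Function.Surjective r := by
    intro σ
    have hmem := DoubleCoverAlt.mem_closure_gens (k + 1) (g := (σ : Perm (Fin (k + 4)))) σ.2
    have hle : Subgroup.closure (DoubleCoverAlt.gen (k + 1) '' Set.Iio (k + 1 + 1)) ≤
        f.range.map π := by
      rw [Subgroup.closure_le]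
      rintro _ ⟨i, hi, rfl⟩
      refine ⟨y i, ⟨PresentedGroup.of ⟨i, by rw [Set.mem_Iio] at hi; omega⟩, ?_⟩, hy i hi⟩
      rw [hf, PresentedGroup.toGroup.of]
    obtain ⟨x, hx, hxe⟩ := hle hmem
    exact ⟨⟨x, hx⟩, Subtype.ext hxe⟩
  have hri : Function.Injective r :=
    ((Nat.bijective_iff_surjective_and_card r).2
      ⟨hrs, le_antisymm hcard (Nat.card_le_card_of_surjective r hrs)⟩).1
  have hz : z ∈ f.range := h.full _ fun σ hσ => by
    obtain ⟨x, hx⟩ := hrs ⟨σ, mem_alternatingGroup.2 hσ⟩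
    exact ⟨x, x.2, congrArg Subtype.val hx⟩
  have : (⟨z, hz⟩ : f.range) = 1 := hri (Subtype.ext (by
    show π z = π ((1 : f.range) : C)
    rw [h.map_z, OneMemClass.coe_one, map_one]))
  exact h.z_ne (congrArg Subtype.val this)

/-- Lifts of two double transpositions whose product is a double transposition anticommute. -/
theorem anti {u v : C} (hu : Dbl (π u)) (hv : Dbl (π v)) (huv : Dbl (π u * π v)) : u * v = z * (v * u) := by
  have hc : Commute (π u) (π v) := by
    show π u * π v = π v * π u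
    exact (eq_inv_of_mul_eq_one_left (dbl_mul_self huv)).trans (by
      rw [mul_inv_rev, inv_eq_of_mul_eq_one_right (dbl_mul_self hu),
        inv_eq_of_mul_eq_one_right (dbl_mul_self hv)])
  rcases h.comm_or hc with e | e
  · exfalso
    have h1 := h.sq_double (g := u * v) (by rw [map_mul]; exact huv)
    rw [(show Commute u v from e).symm.mul_mul_mul_comm, h.sq_double hu, h.sq_double hv, h.zz] at h1
    exact h.z_ne h1.symm
  · exact e

end DC

end Cfsg.Agent.AltDoubleCent
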