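import Cfsg.Agent.Lib.AltDoubleCent.SylowC
import Mathlib.Dynamics.PeriodicPts.Lemmas

/-!
# The inverted part of the centraliser of two disjoint three-cycles

Main results: `Elts.J`, `Elts.inverted_cube`, `Elts.exists_hy`, `Elts.hy_nine`, `Elts.card_Jy`.
-/

set_option autoImplicit false
set_option linter.style.haveILetI false
set_option maxHeartbeats 1000000

namespace Cfsg.Agent.AltDoubleCent

open Equiv Equiv.Perm

universe u

variable {G : Type u} [Group G] {n : ℕ} {z : G} {F : Frame G n z}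

/-- `(12)(45)`. -/
def qI : Perm (Fin 8) := swap 1 2 * swap 4 5

/-- `(34)(67)`. -/
def qK : Perm (Fin 8) := swap 3 4 * swap 6 7

lemma odd_pow_self {g : G} (ho : Odd (orderOf g)) {m : ℕ} (h : g ^ (2 * m) = 1) : g ^ m = 1 := by
  have h1 : orderOf g ∣ 2 * m := orderOf_dvd_of_pow_eq_one h
  exact orderOf_dvd_iff_pow_eq_one.1 ((Nat.Coprime.dvd_mul_left (Nat.coprime_two_right.2 ho)).1 h1)

/-- An element of odd order whose square lies in a subgroup lies there. -/
lemma mem_of_sq_mem {H : Subgroup G} {g : G} (ho : Odd (orderOf g)) (h : g * g ∈ H) : g ∈ H := by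
  obtain ⟨m, hm⟩ := ho
  have e : g = (g * g) ^ (m + 1) := by
    rw [← pow_two, ← pow_mul, show 2 * (m + 1) = orderOf g + 1 by omega, pow_succ, pow_orderOf_eq_one, one_mul]
  rw [e]
  exact pow_mem h _

/-- An odd order permutation of at most four points has cube one there. -/
lemma cube_fix {q : Perm (Fin n)} (hn : n ≤ 10) {m : ℕ} (hm : Odd m) (hq : q ^ m = 1)
    (hinv : ∀ k : Fin n, 6 ≤ k.val → 6 ≤ (q k).val) {k : Fin n} (hk : 6 ≤ k.val) : (q ^ 3) k = k := by
  have hit : ∀ i : ℕ, 6 ≤ ((q ^ i) k).val := fun i => by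
    induction i with
    | zero => exact hk
    | succ i ih => rw [pow_succ', Perm.mul_apply]; exact hinv _ ih
  obtain ⟨i, j, hij, e⟩ : ∃ i j : Fin 5, i < j ∧ (q ^ i.val) k = (q ^ j.val) k := by
    by_contra hcon
    push Not at hcon
    have hinj : Function.Injective fun i : Fin 5 => (⟨((q ^ i.val) k).val - 6, by
        have := ((q ^ i.val) k).isLt; omega⟩ : Fin 4) := by
      intro i j e
      have h1 := hit i.val
      have h2 := hit j.val
      have e' : ((q ^ i.val) k).val - 6 = ((q ^ j.val) k).val - 6 := congrArg Fin.val e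
      have e2 : (q ^ i.val) k = (q ^ j.val) k := Fin.ext (by omega)
      rcases lt_trichotomy i j with h | h | h
      exacts [absurd e2 (hcon i j h), h, absurd e2.symm (hcon j i h)]
    have := Fintype.card_le_of_injective _ hinj
    simp at this
  have hd : Function.IsPeriodicPt q (j.val - i.val) k := by
    show (⇑q)^[j.val - i.val] k = k
    rw [← Perm.coe_pow]
    refine (q ^ i.val).injective ?_
    rw [← Perm.mul_apply, ← pow_add, Nat.add_sub_cancel' hij.le, e]
  have hm' : Function.IsPeriodicPt q m k := by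
    show (⇑q)^[m] k = k
    rw [← Perm.coe_pow, hq, Perm.one_apply]
  have hg := hd.gcd hm'
  have h13 : Nat.gcd (j.val - i.val) m ∣ 3 := by
    have h1 : Nat.gcd (j.val - i.val) m ∣ j.val - i.val := Nat.gcd_dvd_left _ _
    have h2 : Odd (Nat.gcd (j.val - i.val) m) := Odd.of_dvd_nat hm (Nat.gcd_dvd_right _ _)
    have h3 := Nat.le_of_dvd (by have := Fin.lt_def.1 hij; omega) h1
    have h4 := j.isLt
    obtain ⟨r, hr⟩ := h2
    have : Nat.gcd (j.val - i.val) m = 1 ∨ Nat.gcd (j.val - i.val) m = 3 := by omega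
    rcases this with e' | e' <;> rw [e'] <;> decide
  have h3 := hg.trans_dvd h13
  rw [Perm.coe_pow]
  exact h3

namespace Elts

variable {S : Setup F} {x y a b c : G} (E : Elts S x y a b c)
include E

lemma one_lt_three : a ≠ 1 ∧ b ≠ 1 ∧ c ≠ 1 := by
  refine ⟨fun e => ?_, fun e => ?_, fun e => ?_⟩
  · have := E.a_supp; rw [e, F.p_one, support_one] at this; simp at this
  · have := E.b_supp; rw [e, F.p_one, support_one] at this; simp at this
  · have := E.c_supp; rw [e, F.p_one, support_one] at this; simp at this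

lemma ab_inter {g : G} (ga : g ∈ Subgroup.zpowers a) (gb : g ∈ Subgroup.zpowers b) : g = 1 := by
  haveI : Fact (Nat.Prime 3) := ⟨Nat.prime_three⟩
  obtain ⟨h1, h2, -⟩ := E.one_lt_three
  have pick : ∀ {v : G}, v ^ 3 = 1 → v ≠ 1 → g ∈ Subgroup.zpowers v → ∃ i : Fin 3, g = v ^ i.val := by
    intro v hv hv1 hg
    obtain ⟨k, hk⟩ := Subgroup.mem_zpowers_iff.1 hg
    refine ⟨⟨(k % 3).toNat, by omega⟩, ?_⟩
    rw [← hk, ← zpow_natCast]
    show v ^ k = v ^ ((k % 3).toNat : ℤ)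
    rw [Int.toNat_of_nonneg (by omega)]
    conv_lhs => rw [show k = k % 3 + 3 * (k / 3) by omega]
    rw [zpow_add, zpow_mul, zpow_ofNat, hv, one_zpow, mul_one]
  obtain ⟨i, hi⟩ := pick E.a3 h1 ga
  obtain ⟨j, hj⟩ := pick E.b3 h2 gb
  have e := (E.abc_eval i.val 0 0).1
  have e' := (E.abc_eval 0 j.val 0).1
  simp only [pow_zero, mul_one, one_mul] at e e'
  rw [← hi] at e
  rw [← hj, e] at e'
  have hd := show ∀ i j : Fin 3, (qA ^ i.val) 0 = (qB ^ j.val) 0 → i = 0 by decide +kernel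
  rw [hi, hd i j (Fin.castLE_injective _ (Fin.castLE_injective _ e'))]
  exact pow_zero a

lemma qS_qC : ext8 S.le8 qS * qC S.lo * (ext8 S.le8 qS)⁻¹ = (qC S.lo)⁻¹ := by
  have h6 : ext8 S.le8 qS (pt S.lo 6) = pt S.lo 7 :=
    (ext8_apply S.le8 qS 6).trans (congrArg (Fin.castLE S.le8) (by decide +kernel : qS 6 = 7))
  have h7 : ext8 S.le8 qS (pt S.lo 7) = pt S.lo 6 :=
    (ext8_apply S.le8 qS 7).trans (congrArg (Fin.castLE S.le8) (by decide +kernel : qS 7 = 6))
  have h8 : ext8 S.le8 qS (pt S.lo 8) = pt S.lo 8 := ext8_apply_ge _ _ _ (le_refl 8)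
  have hne : ∀ i j : Fin 9, i ≠ j → pt (n := n) S.lo i ≠ pt S.lo j := fun i j e => (Fin.castLE_injective _).ne e
  rw [qC, show ∀ s u v : Perm (Fin n), s * (u * v) * s⁻¹ = (s * u * s⁻¹) * (s * v * s⁻¹) from fun s u v => by group,
    ← swap_apply_apply, ← swap_apply_apply, h6, h7, h8, mul_inv_rev, swap_inv, swap_inv]
  refine Equiv.ext fun k => ?_
  simp only [Perm.mul_apply]
  by_cases k6 : k = pt S.lo 6
  · subst k6
    simp [swap_apply_def, hne 6 7 (by decide), hne 6 8 (by decide), hne 7 8 (by decide), hne 7 6 (by decide),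
      hne 8 6 (by decide), hne 8 7 (by decide)]
  by_cases k7 : k = pt S.lo 7
  · subst k7
    simp [swap_apply_def, hne 6 7 (by decide), hne 6 8 (by decide), hne 7 8 (by decide), hne 7 6 (by decide),
      hne 8 6 (by decide), hne 8 7 (by decide)]
  by_cases k8 : k = pt S.lo 8
  · subst k8
    simp [swap_apply_def, hne 6 7 (by decide), hne 6 8 (by decide), hne 7 8 (by decide), hne 7 6 (by decide),
      hne 8 6 (by decide), hne 8 7 (by decide)]
  simp [swap_apply_def, k6, k7, k8]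

lemma qK_qC : ext8 S.le8 qK * qC S.lo * (ext8 S.le8 qK)⁻¹ = (qC S.lo)⁻¹ := by
  have hd : ext8 S.le8 qK = ext8 S.le8 qS * ext8 S.le8 (qS * qK) := by
    rw [← map_mul, ← mul_assoc, show qS * qS = 1 by decide +kernel, one_mul]
  rw [hd, show ∀ s t v : Perm (Fin n), s * t * v * (s * t)⁻¹ = s * (t * v * t⁻¹) * s⁻¹ from fun s t v => by group,
    (E.qC_comm (qS * qK) (by decide +kernel) (by decide +kernel)).eq, mul_inv_cancel_right, E.qS_qC]

lemma conj_odd {k v w : G} (hk : Commute k z) (hv : Commute v z) (hw : Commute w z) (hv3 : v ^ 3 = 1)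
    (hw3 : w ^ 3 = 1) (e : F.p k * F.p v * (F.p k)⁻¹ = F.p w) : k * v * k⁻¹ = w :=
  F.eq_of_odd (F.conj_z hk hv) hw (by rw [orderOf_conj']; exact odd_of_pow_three hv3) (odd_of_pow_three hw3)
    (by rw [F.p_conj hk hv, e])

lemma yc : y * c * y⁻¹ = c⁻¹ := E.conj_odd E.yz E.cz E.cz.inv_left E.c3 (by rw [inv_pow, E.c3, inv_one])
  (by rw [E.py, E.pc, F.p_inv E.cz, E.pc, E.qS_qC])

/-- A lift of `(12)(45)`. -/
theorem exists_iota : ∃ i : G, Commute i z ∧ i * i = z ∧ i * a * i⁻¹ = a⁻¹ ∧ i * b * i⁻¹ = b⁻¹ ∧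
    Commute i c ∧ i * y * i⁻¹ = z * y := by
  obtain ⟨i, hi, hpi⟩ := F.exists_lift (show sign (ext8 S.le8 qI) = 1 by rw [sign_ext8]; decide +kernel)
  have hd : Dbl (F.p i) := by
    have hi' := Fin.castLE_injective S.le8
    exact ⟨Fin.castLE S.le8 1, Fin.castLE S.le8 2, Fin.castLE S.le8 4, Fin.castLE S.le8 5, hi'.ne (by decide),
      hi'.ne (by decide), hi'.ne (by decide), hi'.ne (by decide), hi'.ne (by decide), hi'.ne (by decide),
      by rw [hpi, qI, map_mul, ext8_swap, ext8_swap]⟩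
  obtain ⟨hy2, hy8, -, -⟩ := S.y_facts E.py E.yz
  refine ⟨i, hi, F.sq_double hi hd, ?_, ?_, ?_, ?_⟩
  · exact E.conj_odd hi E.az E.az.inv_left E.a3 (by rw [inv_pow, E.a3, inv_one])
      (by rw [hpi, E.pa, F.p_inv E.az, E.pa, ← map_inv, ← map_inv, ← map_mul, ← map_mul]; congr 1; decide +kernel)
  · exact E.conj_odd hi E.bz E.bz.inv_left E.b3 (by rw [inv_pow, E.b3, inv_one])
      (by rw [hpi, E.pb, F.p_inv E.bz, E.pb, ← map_inv, ← map_inv, ← map_mul, ← map_mul]; congr 1; decide +kernel)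
  · exact F.commute_of_odd E.cz hi (odd_of_pow_three E.c3) (by
      rw [hpi, E.pc]; exact (E.qC_comm qI (by decide +kernel) (by decide +kernel)).symm)
  · exact F.anti_eight E.yz hi hy2 hy8 hd
      (by rw [hpi, E.py]; exact (show Commute qS qI by show qS * qI = qI * qS; decide +kernel).map (ext8 S.le8))
      (by rw [hpi, E.py, ← map_mul, support_ext8]; decide +kernel)

/-- A lift of `(34)(67)`. -/
theorem exists_kappa : ∃ k : G, Commute k z ∧ k * k = z ∧ Commute k a ∧ k * b * k⁻¹ = b⁻¹ ∧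
    k * c * k⁻¹ = c⁻¹ := by
  obtain ⟨k, hk, hpk⟩ := F.exists_lift (show sign (ext8 S.le8 qK) = 1 by rw [sign_ext8]; decide +kernel)
  have hd : Dbl (F.p k) := by
    have hi' := Fin.castLE_injective S.le8
    exact ⟨Fin.castLE S.le8 3, Fin.castLE S.le8 4, Fin.castLE S.le8 6, Fin.castLE S.le8 7, hi'.ne (by decide),
      hi'.ne (by decide), hi'.ne (by decide), hi'.ne (by decide), hi'.ne (by decide), hi'.ne (by decide),
      by rw [hpk, qK, map_mul, ext8_swap, ext8_swap]⟩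
  refine ⟨k, hk, F.sq_double hk hd, F.commute_of_odd E.az hk (odd_of_pow_three E.a3) ?_, ?_, ?_⟩
  · rw [hpk, E.pa]
    exact (show Commute qA qK by show qA * qK = qK * qA; decide +kernel).map (ext8 S.le8)
  · exact E.conj_odd hk E.bz E.bz.inv_left E.b3 (by rw [inv_pow, E.b3, inv_one])
      (by rw [hpk, E.pb, F.p_inv E.bz, E.pb, ← map_inv, ← map_inv, ← map_mul, ← map_mul]; congr 1; decide +kernel)
  · exact E.conj_odd hk E.cz E.cz.inv_left E.c3 (by rw [inv_pow, E.c3, inv_one])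
      (by rw [hpk, E.pc, F.p_inv E.cz, E.pc, E.qK_qC])

/-- An odd element of `C(x) ∩ C(z)` centralises both cycles and has order three. -/
theorem cx_odd {g : G} (hg : Commute g z) (hgx : Commute g x) (ho : Odd (orderOf g)) :
    Commute g a ∧ Commute g b ∧ g ^ 3 = 1 ∧ ∀ k : Fin n, k.val < 3 → (F.p g k).val < 3 := by
  obtain ⟨e, he⟩ := sq_root_of_odd ho
  set r := F.p (g ^ e) with hr
  have hq : F.p g = r * r := by rw [hr, ← F.p_mul (hg.pow_left e) (hg.pow_left e), he]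
  set P : Fin 8 → Fin n := Fin.castLE S.le8 with hP
  have Pinj : Function.Injective P := Fin.castLE_injective _
  have hX : Commute r (ext8 S.le8 qX) := by
    have e' := congrArg F.p (hgx.pow_left e).eq
    rw [F.p_mul (hg.pow_left e) E.xz, F.p_mul E.xz (hg.pow_left e), E.px] at e'
    exact e'
  have cX := commute_app hX
  have hE : ∀ (q : Perm (Fin 8)) (k : Fin 8), ext8 S.le8 q (P k) = P (q k) := fun q k => ext8_apply _ _ _
  have low : ∀ k : Fin n, k.val < 6 ↔ ext8 S.le8 qX k ≠ k := fun k => by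
    by_cases h8 : k.val < 8
    · obtain ⟨j, rfl⟩ : ∃ j : Fin 8, P j = k := ⟨⟨k.val, h8⟩, rfl⟩
      rw [hE, Pinj.ne_iff]
      exact (show ∀ j : Fin 8, j.val < 6 ↔ qX j ≠ j by decide +kernel) j
    · rw [ext8_apply_ge _ _ _ (by omega)]
      exact ⟨fun h => absurd h (by omega), fun h => absurd rfl h⟩
  have r6 : ∀ k : Fin n, (r k).val < 6 ↔ k.val < 6 := fun k => by
    rw [low, low, ← cX, r.injective.ne_iff]
  -- whether the first triple goes to itself
  have tri : ∀ (j : Fin 8) (i : Fin 3), r (ext8 S.le8 (qX ^ i.val) (P j)) = ext8 S.le8 (qX ^ i.val) (r (P j)) :=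
    fun j i => by rw [map_pow]; exact commute_app (hX.pow_right _) _
  have img : ∀ j : Fin 8, j.val < 6 → ∃ l : Fin 8, l.val < 6 ∧ r (P j) = P l := fun j hj => by
    have h := (r6 (P j)).2 hj
    exact ⟨⟨(r (P j)).val, by omega⟩, h, rfl⟩
  obtain ⟨l0, hl0, e0⟩ := img 0 (by decide)
  obtain ⟨l3, hl3, e3⟩ := img 3 (by decide)
  have hsame : ∀ j : Fin 8, ∀ i : Fin 3, j.val < 6 → ((qX ^ i.val) j).val < 6 ∧
      (((qX ^ i.val) j).val < 3 ↔ j.val < 3) := by decide +kernel
  have hgen : ∀ j : Fin 8, j.val < 6 → ∃ i : Fin 3, (j.val < 3 → j = (qX ^ i.val) 0) ∧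
      (3 ≤ j.val → j = (qX ^ i.val) 3) := by decide +kernel
  have himg3 : ∀ j l : Fin 8, ∀ i : Fin 3, r (P j) = P l → r (P ((qX ^ i.val) j)) = P ((qX ^ i.val) l) :=
    fun j l i h => by rw [← hE, tri, h, hE]
  have hside : l0.val < 3 ↔ 3 ≤ l3.val := by
    constructor
    · intro h0
      by_contra h3
      obtain ⟨i, hi, -⟩ := hgen l0 hl0
      obtain ⟨i', hi', -⟩ := hgen l3 hl3
      have hj := show ∀ i i' : Fin 3, ∃ t : Fin 3, (qX ^ t.val) ((qX ^ i.val) 0) = (qX ^ i'.val) 0 by decide +kernel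
      obtain ⟨t, ht⟩ := hj i i'
      have := himg3 0 l0 t e0
      rw [hi h0, ht, ← hi' (by omega), ← e3] at this
      exact (show ∀ t : Fin 3, (qX ^ t.val) 0 ≠ 3 by decide +kernel) t (Pinj (r.injective this))
    · intro h3
      by_contra h0
      obtain ⟨i, -, hi⟩ := hgen l0 hl0
      obtain ⟨i', -, hi'⟩ := hgen l3 hl3
      have hj := show ∀ i i' : Fin 3, ∃ t : Fin 3, (qX ^ t.val) ((qX ^ i.val) 3) = (qX ^ i'.val) 3 by decide +kernel
      obtain ⟨t, ht⟩ := hj i i'
      have := himg3 0 l0 t e0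
      rw [hi (by omega), ht, ← hi' h3, ← e3] at this
      exact (show ∀ t : Fin 3, (qX ^ t.val) 0 ≠ 3 by decide +kernel) t (Pinj (r.injective this))
  have r3 : ∀ j : Fin 8, j.val < 6 → ((r (P j)).val < 3 ↔ (j.val < 3 ↔ l0.val < 3)) := by
    intro j hj
    obtain ⟨i, hi, hi'⟩ := hgen j hj
    by_cases h : j.val < 3
    · rw [hi h, himg3 0 l0 i e0]
      have hh : ((qX ^ i.val) 0).val < 3 := by rw [← hi h]; exact h
      show ((qX ^ i.val) l0).val < 3 ↔ _
      rw [(hsame l0 i hl0).2]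
      exact ⟨fun h' => iff_of_true hh h', fun h' => h'.1 hh⟩
    · rw [hi' (by omega), himg3 3 l3 i e3]
      have hh : ¬ ((qX ^ i.val) 3).val < 3 := by rw [← hi' (by omega)]; exact h
      show ((qX ^ i.val) l3).val < 3 ↔ _
      rw [(hsame l3 i hl3).2]
      constructor
      · intro h'
        exact iff_of_false hh fun h0 => by have := hside.1 h0; omega
      · intro h'
        have h0 : ¬ l0.val < 3 := fun h0 => hh (h'.2 h0)
        by_contra h''
        exact h0 (hside.2 (by omega))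
  have g3 : ∀ k : Fin n, k.val < 6 → (F.p g k).val < 6 ∧ ((F.p g k).val < 3 ↔ k.val < 3) := by
    intro k hk
    obtain ⟨j, rfl⟩ : ∃ j : Fin 8, P j = k := ⟨⟨k.val, by omega⟩, rfl⟩
    obtain ⟨l, hl, el⟩ := img j hk
    rw [hq, Perm.mul_apply, el]
    refine ⟨(r6 (P l)).2 hl, ?_⟩
    have h1 := r3 j hk
    rw [el] at h1
    rw [r3 l hl]
    show _ ↔ j.val < 3
    have h1' : l.val < 3 ↔ (j.val < 3 ↔ l0.val < 3) := h1
    by_cases a1 : j.val < 3 <;> by_cases a2 : l0.val < 3 <;> simp [a1, a2] at h1' ⊢ <;> simp [h1', a1, a2]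
  have ghi : ∀ k : Fin n, 6 ≤ k.val → 6 ≤ (F.p g k).val := fun k hk => by
    rw [hq, Perm.mul_apply]
    by_contra hc
    exact absurd ((r6 k).1 ((r6 (r k)).1 (not_le.1 hc))) (by omega)
  have gX : ∀ k, F.p g (ext8 S.le8 qX k) = ext8 S.le8 qX (F.p g k) := by
    rw [hq]; exact commute_app (hX.mul_left hX)
  have hAX : ∀ k : Fin n, k.val < 3 → ext8 S.le8 qA k = ext8 S.le8 qX k := fun k hk => by
    obtain ⟨j, rfl⟩ : ∃ j : Fin 8, P j = k := ⟨⟨k.val, by omega⟩, rfl⟩
    rw [hE, hE, (show ∀ j : Fin 8, j.val < 3 → qA j = qX j by decide +kernel) j hk]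
  have hAfix : ∀ k : Fin n, 3 ≤ k.val → ext8 S.le8 qA k = k := fun k hk => by
    by_cases h8 : k.val < 8
    · obtain ⟨j, rfl⟩ : ∃ j : Fin 8, P j = k := ⟨⟨k.val, h8⟩, rfl⟩
      rw [hE, (show ∀ j : Fin 8, 3 ≤ j.val → qA j = j by decide +kernel) j hk]
    · exact ext8_apply_ge _ _ _ (by omega)
  have hA : Commute (F.p g) (ext8 S.le8 qA) := Equiv.ext fun k => by
    show F.p g (ext8 S.le8 qA k) = ext8 S.le8 qA (F.p g k)
    by_cases h3 : k.val < 3
    · rw [hAX k h3, gX, hAX _ ((g3 k (by omega)).2.2 h3)]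
    · rw [hAfix k (by omega), hAfix]
      by_cases h6 : k.val < 6
      · by_contra hc
        exact h3 ((g3 k h6).2.1 (by omega))
      · have := ghi k (by omega); omega
  have hga : Commute g a := F.commute_of_odd E.az hg (odd_of_pow_three E.a3) (by rw [E.pa]; exact hA.symm)
  have hgb : Commute g b := by
    have h := hga.inv_right.mul_right hgx
    rwa [E.xab, inv_mul_cancel_left] at h
  refine ⟨hga, hgb, ?_, fun k hk => (g3 k (by omega)).2.2 hk⟩
  have hq3 : F.p g ^ 3 = 1 := Equiv.ext fun k => by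
    by_cases h6 : k.val < 6
    · -- powers of the two cycles
      have key : ∀ j : Fin 8, j = 0 ∨ j = 3 → (F.p g ^ 3) (P j) = P j := by
        intro j hj
        have h6j : j.val < 6 := by rcases hj with rfl | rfl <;> decide
        obtain ⟨h1, h2⟩ := g3 (P j) h6j
        obtain ⟨l, hl⟩ : ∃ l : Fin 8, P l = F.p g (P j) := ⟨⟨(F.p g (P j)).val, by omega⟩, rfl⟩
        obtain ⟨i, hi, hi'⟩ := hgen l (by rw [← hl] at h1; exact h1)
        have hli : l = (qX ^ i.val) j := by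
          rw [← hl] at h2
          rcases hj with rfl | rfl
          · exact hi (h2.2 (by show (0 : ℕ) < 3; norm_num))
          · refine hi' (not_lt.1 fun hc => ?_)
            have : (3 : ℕ) < 3 := h2.1 hc
            omega
        have gXi : ∀ k, F.p g (ext8 S.le8 (qX ^ i.val) k) = ext8 S.le8 (qX ^ i.val) (F.p g k) := by
          rw [hq, map_pow]; exact commute_app ((hX.mul_left hX).pow_right _)
        have e1 : F.p g (P j) = ext8 S.le8 (qX ^ i.val) (P j) := by rw [← hl, hli, hE]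
        rw [pow_three, Perm.mul_apply, Perm.mul_apply, e1, gXi, e1, gXi, gXi, e1, hE, hE, hE]
        congr 1
        rw [← Perm.mul_apply, ← Perm.mul_apply, ← pow_three', ← pow_mul, mul_comm, pow_mul,
          show qX ^ 3 = 1 by decide +kernel, one_pow, Perm.one_apply]
      obtain ⟨j, rfl⟩ : ∃ j : Fin 8, P j = k := ⟨⟨k.val, by omega⟩, rfl⟩
      obtain ⟨i, hi, hi'⟩ := hgen j h6
      have gXi : ∀ k, (F.p g ^ 3) (ext8 S.le8 (qX ^ i.val) k) = ext8 S.le8 (qX ^ i.val) ((F.p g ^ 3) k) := by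
        rw [hq, map_pow]; exact commute_app (((hX.mul_left hX).pow_left 3).pow_right _)
      rw [Perm.one_apply]
      by_cases h3 : j.val < 3
      · rw [hi h3, ← hE, gXi, key 0 (Or.inl rfl)]
      · rw [hi' (by omega), ← hE, gXi, key 3 (Or.inr rfl)]
    · rw [Perm.one_apply]
      exact cube_fix S.hi ho (by rw [← F.p_pow hg, pow_orderOf_eq_one, F.p_one]) ghi (by omega)
  exact F.eq_of_odd (hg.pow_left 3) (Commute.one_left z) (Odd.of_dvd_nat ho (orderOf_pow_dvd 3)) (by simp)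
    (by rw [F.p_pow hg, hq3, F.p_one])

variable [Finite G]

/-- Normalised elements moving `z` to `y`. -/
theorem exists_hy : ∃ h, h * z * h⁻¹ = y ∧ Commute h x ∧ (h⁻¹ * z * h = y ∨ h⁻¹ * z * h = z * y) := by
  obtain ⟨-, -, hyo, hyne⟩ := S.y_facts E.py E.yz
  obtain ⟨h, hh, hhx⟩ := S.exists_h E.xz E.px E.x3 E.yz hyo hyne E.xy
  obtain ⟨k, hk, hkx, -, hke⟩ := S.invol_in_cx E.xz E.px E.yz E.py E.x3 (w := h⁻¹ * z * h)
    (by
      have := commute_conj E.yz.symm h⁻¹
      rwa [inv_inv, show h⁻¹ * y * h = z by rw [← hh]; group] at this)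
    ((hhx.inv_left.mul_left E.xz.symm).mul_left hhx)
    (by rw [show h⁻¹ * z * h = h⁻¹ * z * h⁻¹⁻¹ by rw [inv_inv], orderOf_conj', F.orderOf_z])
    (fun e => hyne (by rw [← hh]; conv_lhs => rw [← e]
                       group))
  refine ⟨h * k⁻¹, ?_, hhx.mul_left hkx.inv_left, ?_⟩
  · rw [show h * k⁻¹ * z * (h * k⁻¹)⁻¹ = h * (k⁻¹ * z * k) * h⁻¹ by group, hk.inv_left.eq, mul_assoc z,
      inv_mul_cancel, mul_one, hh]
  · rw [show (h * k⁻¹)⁻¹ * z * (h * k⁻¹) = k * (h⁻¹ * z * h) * k⁻¹ by group]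
    exact hke

/-- Inverted elements of odd order centralising `x` have order three. -/
theorem inverted_cube {w : G} (ho : Odd (orderOf w)) (hz : z * w * z⁻¹ = w⁻¹) (hwx : Commute w x)
    (hc : Commute w (y * w * y⁻¹)) : w ^ 3 = 1 := by
  obtain ⟨i, hi, -, hia, hib, -, hiy⟩ := E.exists_iota
  obtain ⟨h, hh, hhx, -⟩ := E.exists_hy
  have hix : i * x * i⁻¹ = x⁻¹ := by
    rw [E.xab, show i * (a * b) * i⁻¹ = i * a * i⁻¹ * (i * b * i⁻¹) by group, hia, hib, mul_inv_rev,
      E.ab.inv_inv.eq]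
  have base : ∀ {u t : G}, t * z * t⁻¹ = u → Commute t x → ∀ {v : G}, Commute v u → Commute v x →
      Odd (orderOf v) → v ^ 3 = 1 := by
    intro u t ht htx v hvu hvx hvo
    have h1 := (E.cx_odd (g := t⁻¹ * v * t) (by
      have := commute_conj hvu t⁻¹
      rwa [inv_inv, show t⁻¹ * u * t = z by rw [← ht]; group] at this)
      ((htx.inv_left.mul_left hvx).mul_left htx)
      (by rw [show t⁻¹ * v * t = t⁻¹ * v * t⁻¹⁻¹ by rw [inv_inv], orderOf_conj']; exact hvo)).2.2.1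
    rw [show t⁻¹ * v * t = t⁻¹ * v * t⁻¹⁻¹ by rw [inv_inv], conj_pow, conj_eq_one_iff] at h1
    exact h1
  set v := y * w * y⁻¹ with hv
  have hyy := sq_of_orderOf_two (S.y_facts E.py E.yz).2.2.1
  have hyv : y * v * y⁻¹ = w := by
    rw [hv, show y * (y * w * y⁻¹) * y⁻¹ = y * y * w * (y * y)⁻¹ by group, hyy, one_mul, inv_one, mul_one]
  have hzv : z * v * z⁻¹ = v⁻¹ := by
    rw [hv, show z * (y * w * y⁻¹) * z⁻¹ = z * y * w * (z * y)⁻¹ by group, E.yz.symm.eq,
      show y * z * w * (y * z)⁻¹ = y * (z * w * z⁻¹) * y⁻¹ by group, hz]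
    group
  have hvx : Commute v x := (E.xy.mul_left hwx).mul_left E.xy.inv_left
  have hvo : Odd (orderOf v) := by rw [hv, orderOf_conj']; exact ho
  have hu : (w * v) ^ 3 = 1 := base hh hhx (by
      refine (mul_inv_eq_iff_eq_mul.1 ?_ : Commute y (w * v)).symm
      rw [show y * (w * v) * y⁻¹ = y * w * y⁻¹ * (y * v * y⁻¹) by group, hyv, ← hv, hc.eq])
    (hwx.mul_left hvx) (Odd.of_dvd_nat (ho.mul hvo) (hc.orderOf_mul_dvd_mul_orderOf))
  have hu' : (w * v⁻¹) ^ 3 = 1 := base (u := z * y) (t := i * h * i⁻¹)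
    (by
      have hzi : i⁻¹ * z * i = z := by rw [mul_assoc, ← hi.eq, ← mul_assoc, inv_mul_cancel, one_mul]
      rw [show i * h * i⁻¹ * z * (i * h * i⁻¹)⁻¹ = i * (h * (i⁻¹ * z * i) * h⁻¹) * i⁻¹ by group, hzi, hh, hiy])
    (by
      have := commute_conj hhx i
      rw [hix] at this
      exact Commute.inv_right_iff.1 this)
    (by
      refine (mul_inv_eq_iff_eq_mul.1 ?_ : Commute (z * y) (w * v⁻¹)).symm
      rw [show z * y * (w * v⁻¹) * (z * y)⁻¹ = z * (y * w * y⁻¹ * (y * v * y⁻¹)⁻¹) * z⁻¹ by group, hyv, ← hv,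
        show z * (v * w⁻¹) * z⁻¹ = z * v * z⁻¹ * (z * w * z⁻¹)⁻¹ by group, hzv, hz, inv_inv, hc.symm.inv_left.eq])
    (hwx.mul_left hvx.inv_left)
    (Odd.of_dvd_nat (ho.mul hvo) (by rw [← orderOf_inv v]; exact hc.inv_right.orderOf_mul_dvd_mul_orderOf))
  refine odd_pow_self ho ?_
  rw [hc.mul_pow] at hu
  rw [hc.inv_right.mul_pow] at hu'
  calc w ^ (2 * 3) = w ^ 3 * v ^ 3 * (w ^ 3 * v⁻¹ ^ 3) := by
        rw [(hc.pow_pow 3 3).symm.mul_mul_mul_comm, inv_pow, mul_inv_cancel, mul_one, ← pow_add]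
    _ = 1 := by rw [hu, hu', one_mul]

/-- In degree nine the centraliser of `x` and the image of `y` in `C(z)` has six images. -/
theorem cent_XS (h9 : n = 9) {k : G} (hkz : Commute k z) (hkx : Commute k x)
    (cS : Commute (F.p k) (ext8 S.le8 qS)) :
    ∃ v : G, (v = 1 ∨ v = x ∨ v = x * x ∨ v = y ∨ v = y * x ∨ v = y * (x * x)) ∧ (k = v ∨ k = z * v) := by
  -- images commute with `(012)(345)` and `(03)(14)(25)(67)`
  have cX : Commute (F.p k) (ext8 S.le8 qX) := by
    have e := congrArg F.p hkx.eq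
    rw [F.p_mul hkz E.xz, F.p_mul E.xz hkz, E.px] at e
    exact e
  have hfix : ∀ l : Fin n, 8 ≤ l.val → F.p k l = l := fun l hl => by
    have h1 := commute_app cS l
    rw [ext8_apply_ge _ _ _ hl] at h1
    by_contra hne
    obtain ⟨j, hj⟩ : ∃ j : Fin 8, Fin.castLE S.le8 j = F.p k l := by
      refine ⟨⟨(F.p k l).val, ?_⟩, rfl⟩
      by_contra h8
      exact hne (Fin.ext (by omega))
    rw [← hj, ext8_apply] at h1
    exact (show ∀ j : Fin 8, j ≠ qS j by decide +kernel) j (Fin.castLE_injective _ h1)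
  obtain ⟨q, hq⟩ := exists_ext8 S.le8 _ hfix
  rw [hq] at cS cX
  have qcS : ∀ j, q (qS j) = qS (q j) := fun j => by
    have := commute_app cS (Fin.castLE S.le8 j)
    rw [ext8_apply, ext8_apply, ext8_apply, ext8_apply] at this
    exact Fin.castLE_injective _ this
  have qcX : ∀ j, q (qX j) = qX (q j) := fun j => by
    have := commute_app cX (Fin.castLE S.le8 j)
    rw [ext8_apply, ext8_apply, ext8_apply, ext8_apply] at this
    exact Fin.castLE_injective _ this
  have hs : sign q = 1 := by rw [← sign_ext8 S.le8 q, ← hq, F.sign_p]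
  have hlist : q = 1 ∨ q = qX ∨ q = qX * qX ∨ q = qS ∨ q = qS * qX ∨ q = qS * (qX * qX) := by
    have hext : ∀ p : Perm (Fin 8), (∀ j, p (qS j) = qS (p j)) → (∀ j, p (qX j) = qX (p j)) → q 0 = p 0 →
        q 6 = p 6 → q = p := by
      intro p hS hX h0 h6
      refine Equiv.ext fun j => ?_
      fin_cases j
      · exact h0
      · show q 1 = p 1
        rw [show (1 : Fin 8) = qX 0 by decide +kernel, qcX, hX, h0]
      · show q 2 = p 2
        rw [show (2 : Fin 8) = qX (qX 0) by decide +kernel, qcX, qcX, hX, hX, h0]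
      · show q 3 = p 3
        rw [show (3 : Fin 8) = qS 0 by decide +kernel, qcS, hS, h0]
      · show q 4 = p 4
        rw [show (4 : Fin 8) = qS (qX 0) by decide +kernel, qcS, hS, qcX, hX, h0]
      · show q 5 = p 5
        rw [show (5 : Fin 8) = qS (qX (qX 0)) by decide +kernel, qcS, hS, qcX, qcX, hX, hX, h0]
      · exact h6
      · show q 7 = p 7
        rw [show (7 : Fin 8) = qS 6 by decide +kernel, qcS, hS, h6]
    have h6 : q 6 = 6 ∨ q 6 = 7 := by
      have h1 := qcX 6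
      rw [show qX 6 = 6 by decide +kernel] at h1
      exact (show ∀ j : Fin 8, j = qX j → j = 6 ∨ j = 7 by decide +kernel) _ h1
    have h0 : q 0 ≠ 6 ∧ q 0 ≠ 7 := by
      have h1 := qcX 0
      constructor <;> intro e <;> rw [e] at h1
      · rw [show qX 6 = 6 by decide +kernel, ← e] at h1
        exact (show qX 0 ≠ 0 by decide +kernel) (q.injective h1)
      · rw [show qX 7 = 7 by decide +kernel, ← e] at h1
        exact (show qX 0 ≠ 0 by decide +kernel) (q.injective h1)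
    -- sixteen candidates for the two values
    have hd := show ∀ j l : Fin 8, j ≠ 6 → j ≠ 7 → (l = 6 ∨ l = 7) →
        ∃ p ∈ [1, qX, qX * qX, qS, qS * qX, qS * (qX * qX), swap 6 7, swap 6 7 * qX, swap 6 7 * (qX * qX),
          swap 6 7 * qS, swap 6 7 * (qS * qX), swap 6 7 * (qS * (qX * qX))],
          (∀ k, p (qS k) = qS (p k)) ∧ (∀ k, p (qX k) = qX (p k)) ∧ p 0 = j ∧ p 6 = l by decide +kernel
    obtain ⟨p, hp, p1, p2, p3, p4⟩ := hd (q 0) (q 6) h0.1 h0.2 h6
    have e := hext p p1 p2 p3.symm p4.symm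
    subst e
    simp only [List.mem_cons, List.not_mem_nil, or_false] at hp
    rcases hp with e | e | e | e | e | e | e | e | e | e | e | e <;>
      first
        | exact Or.inl e
        | exact Or.inr (Or.inl e)
        | exact Or.inr (Or.inr (Or.inl e))
        | exact Or.inr (Or.inr (Or.inr (Or.inl e)))
        | exact Or.inr (Or.inr (Or.inr (Or.inr (Or.inl e))))
        | exact Or.inr (Or.inr (Or.inr (Or.inr (Or.inr e))))
        | (exfalso; rw [e] at hs; revert hs; decide +kernel)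
  have pw : F.p (x * x) = ext8 S.le8 (qX * qX) := by rw [F.p_mul E.xz E.xz, E.px, map_mul]
  have fin : ∀ v, Commute v z → F.p v = ext8 S.le8 q → k = v ∨ k = z * v := fun v hv e =>
    F.eq_or hkz hv (by rw [hq, e])
  rcases hlist with e | e | e | e | e | e <;> subst e
  · exact ⟨1, Or.inl rfl, fin 1 (Commute.one_left z) (by rw [F.p_one, map_one])⟩
  · exact ⟨x, Or.inr (Or.inl rfl), fin x E.xz E.px⟩
  · exact ⟨x * x, Or.inr (Or.inr (Or.inl rfl)), fin _ (E.xz.mul_left E.xz) pw⟩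
  · exact ⟨y, Or.inr (Or.inr (Or.inr (Or.inl rfl))), fin y E.yz E.py⟩
  · exact ⟨y * x, Or.inr (Or.inr (Or.inr (Or.inr (Or.inl rfl)))),
      fin _ (E.yz.mul_left E.xz) (by rw [F.p_mul E.yz E.xz, E.py, E.px, map_mul])⟩
  · exact ⟨y * (x * x), Or.inr (Or.inr (Or.inr (Or.inr (Or.inr rfl)))),
      fin _ (E.yz.mul_left (E.xz.mul_left E.xz))
        (by rw [F.p_mul E.yz (E.xz.mul_left E.xz), E.py, pw, map_mul _ qS])⟩

/-- In degree nine the normalised element rotates the four-group. -/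
theorem hy_nine (h9 : n = 9) {h : G} (hh : h * z * h⁻¹ = y) (hhx : Commute h x) (hy' : h⁻¹ * z * h = y) :
    False := by
  obtain ⟨i, hi, -, hia, hib, -, hiy⟩ := E.exists_iota
  obtain ⟨-, -, hyo, hyne⟩ := S.y_facts E.py E.yz
  have hyy := sq_of_orderOf_two hyo
  have hix : i * x * i⁻¹ = x⁻¹ := by
    rw [E.xab, show i * (a * b) * i⁻¹ = i * a * i⁻¹ * (i * b * i⁻¹) by group, hia, hib, mul_inv_rev,
      E.ab.inv_inv.eq]
  set g := i * h * i⁻¹ with hg
  have hgx : Commute g x := by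
    have := commute_conj hhx i
    rw [hix] at this
    exact Commute.inv_right_iff.1 this
  have hzi : i⁻¹ * z * i = z := by rw [mul_assoc, ← hi.eq, ← mul_assoc, inv_mul_cancel, one_mul]
  have hyz' : y = h * z * h⁻¹ := hh.symm
  have hhy : h * y * h⁻¹ = z := by rw [← hy']; group
  have hgz : g * z * g⁻¹ = z * y := by
    rw [hg, show i * h * i⁻¹ * z * (i * h * i⁻¹)⁻¹ = i * (h * (i⁻¹ * z * i) * h⁻¹) * i⁻¹ by group, hzi, hh, hiy]
  have hiy' : i⁻¹ * y * i = z * y := by
    calc i⁻¹ * y * i = i⁻¹ * (z * (z * y)) * i := by rw [← mul_assoc z, F.zz, one_mul]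
      _ = i⁻¹ * (z * (i * y * i⁻¹)) * i := by rw [hiy]
      _ = (i⁻¹ * z * i) * y := by group
      _ = z * y := by rw [hzi]
  have hgy : g * y * g⁻¹ = y := by
    rw [hg, show i * h * i⁻¹ * y * (i * h * i⁻¹)⁻¹ = i * (h * (i⁻¹ * y * i) * h⁻¹) * i⁻¹ by group, hiy',
      show h * (z * y) * h⁻¹ = h * z * h⁻¹ * (h * y * h⁻¹) by group, hh, hhy,
      show i * (y * z) * i⁻¹ = i * y * i⁻¹ * (i * z * i⁻¹) by group, hiy, hi.eq, mul_inv_cancel_right,
      E.yz.symm.eq, mul_assoc, F.zz, mul_one]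
  set k := h * g * h with hk
  have hkz : Commute k z := mul_inv_eq_iff_eq_mul.1 (by
    rw [hk, show h * g * h * z * (h * g * h)⁻¹ = h * (g * (h * z * h⁻¹) * g⁻¹) * h⁻¹ by group, hh, hgy, hhy])
  have hky : k * y * k⁻¹ = z * y := by
    rw [hk, show h * g * h * y * (h * g * h)⁻¹ = h * (g * (h * y * h⁻¹) * g⁻¹) * h⁻¹ by group, hhy, hgz,
      show h * (z * y) * h⁻¹ = h * z * h⁻¹ * (h * y * h⁻¹) by group, hh, hhy, E.yz.eq]
  have hkx : Commute k x := (hhx.mul_left hgx).mul_left hhx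
  have cS : Commute (F.p k) (ext8 S.le8 qS) := by
    have e := congrArg F.p hky
    rw [F.p_conj hkz E.yz, F.p_mul (Commute.refl z) E.yz, F.p_z, one_mul, E.py, mul_inv_eq_iff_eq_mul] at e
    exact e
  obtain ⟨v, hv6, hkv⟩ := E.cent_XS h9 hkz hkx cS
  have hvy : Commute v y := by
    rcases hv6 with e | e | e | e | e | e
    exacts [e ▸ Commute.one_left y, e ▸ E.xy.symm, e ▸ E.xy.symm.mul_left E.xy.symm,
      (congrArg (Commute · y) e).mpr (Commute.refl y),
      e ▸ (Commute.refl y).mul_left E.xy.symm, e ▸ (Commute.refl y).mul_left (E.xy.symm.mul_left E.xy.symm)]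
  have hcy : Commute k y := by
    rcases hkv with e | e <;> rw [e]
    exacts [hvy, E.yz.symm.mul_left hvy]
  rw [hcy.eq, mul_inv_cancel_right] at hky
  exact F.z_ne (mul_eq_right.1 hky.symm)

/-- The inverted part of the centraliser of the two cycles. -/
def J : Subgroup G where
  carrier := {w | InJ z a b w}
  one_mem' := ⟨one_mem _, one_mem _, by group⟩
  mul_mem' := fun {v w} hv hw => by
    have hc : Commute v w := by
      refine mul_inv_eq_one.1 (E.ab_inter ?_ ?_)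
      · have := (F.oddCent_comm S.le8 E.az E.a3 E.a_supp hv.1 hw.1).1
        rwa [show v * w * v⁻¹ * w⁻¹ = v * w * (w * v)⁻¹ by group] at this
      · have := (F.oddCent_comm S.le8 E.bz E.b3 E.b_supp hv.2.1 hw.2.1).1
        rwa [show v * w * v⁻¹ * w⁻¹ = v * w * (w * v)⁻¹ by group] at this
    refine ⟨mul_mem hv.1 hw.1, mul_mem hv.2.1 hw.2.1, ?_⟩
    rw [show z * (v * w) * z⁻¹ = z * v * z⁻¹ * (z * w * z⁻¹) by group, hv.2.2, hw.2.2, mul_inv_rev,
      hc.inv_inv.eq]
  inv_mem' := fun {v} hv => ⟨inv_mem hv.1, inv_mem hv.2.1, by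
    rw [show z * v⁻¹ * z⁻¹ = (z * v * z⁻¹)⁻¹ by group, hv.2.2]⟩

lemma J_comm {v w : G} (hv : v ∈ E.J) (hw : w ∈ E.J) : Commute v w := by
  refine mul_inv_eq_one.1 (E.ab_inter ?_ ?_)
  · have := (F.oddCent_comm S.le8 E.az E.a3 E.a_supp hv.1 hw.1).1
    rwa [show v * w * v⁻¹ * w⁻¹ = v * w * (w * v)⁻¹ by group] at this
  · have := (F.oddCent_comm S.le8 E.bz E.b3 E.b_supp hv.2.1 hw.2.1).1
    rwa [show v * w * v⁻¹ * w⁻¹ = v * w * (w * v)⁻¹ by group] at this

lemma mem_J {w : G} (ho : Odd (orderOf w)) (ha : Commute w a) (hb : Commute w b) (hz : z * w * z⁻¹ = w⁻¹) :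
    w ∈ E.J := by
  have hh : ∀ {v : G}, Commute v z → v ^ 3 = 1 → (F.p v).support.card = 3 → Commute w v → w ∈ oddCent v := by
    intro v hvz hv3 hvs hwv
    have h1 := F.oddCent_zStar S.hi hvz hv3 hvs hwv
    rw [hz, ← mul_inv_rev] at h1
    exact mem_of_sq_mem ho (inv_mem_iff.1 h1)
  exact ⟨hh E.az E.a3 E.a_supp ha, hh E.bz E.b3 E.b_supp hb, hz⟩

lemma J_odd {w : G} (hw : w ∈ E.J) : Odd (orderOf w) := oddCent_odd hw.1

lemma J_conj {k w : G} (hk : Commute k z)
    (hab : ∀ v, Commute v a → Commute v b → Commute (k * v * k⁻¹) a ∧ Commute (k * v * k⁻¹) b)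
    (hw : w ∈ E.J) : k * w * k⁻¹ ∈ E.J := by
  obtain ⟨h1, h2⟩ := hab w (oddCent_le hw.1) (oddCent_le hw.2.1)
  refine E.mem_J (by rw [orderOf_conj']; exact E.J_odd hw) h1 h2 ?_
  rw [show z * (k * w * k⁻¹) * z⁻¹ = z * k * w * (z * k)⁻¹ by group, ← hk.eq,
    show k * z * w * (k * z)⁻¹ = k * (z * w * z⁻¹) * k⁻¹ by group, hw.2.2]
  group

lemma J_y {w : G} (hw : w ∈ E.J) : y * w * y⁻¹ ∈ E.J :=
  E.J_conj E.yz (fun v ha hb => by
    have h1 := commute_conj ha y
    have h2 := commute_conj hb y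
    rw [E.yab] at h1
    rw [E.yba] at h2
    exact ⟨h2, h1⟩) hw

lemma J_inverts {k w : G} (hk : Commute k z) (ha : k * a * k⁻¹ = a ∨ k * a * k⁻¹ = a⁻¹)
    (hb : k * b * k⁻¹ = b ∨ k * b * k⁻¹ = b⁻¹) (hw : w ∈ E.J) : k * w * k⁻¹ ∈ E.J :=
  E.J_conj hk (fun v hva hvb => by
    have h1 := commute_conj hva k
    have h2 := commute_conj hvb k
    constructor
    · rcases ha with e | e <;> rw [e] at h1
      exacts [h1, Commute.inv_right_iff.1 h1]
    · rcases hb with e | e <;> rw [e] at h2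
      exacts [h2, Commute.inv_right_iff.1 h2]) hw

lemma J_cube {w : G} (hw : w ∈ E.J) : w ^ 3 = 1 :=
  E.inverted_cube (E.J_odd hw) hw.2.2 (E.xab ▸ (oddCent_le hw.1).mul_right (oddCent_le hw.2.1))
    (E.J_comm hw (E.J_y hw))

/-- The elements of `J` fixed by `t`. -/
def Jfix (t : G) : Subgroup G := E.J ⊓ Subgroup.centralizer {t}

lemma mem_Jfix {t w : G} : w ∈ E.Jfix t ↔ w ∈ E.J ∧ Commute w t := by
  rw [Jfix, Subgroup.mem_inf, Subgroup.mem_centralizer_singleton_iff]
  rfl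

/-- `J` is the product of the parts fixed by `y` and by `z * y`. -/
theorem J_split {w : G} (hw : w ∈ E.J) : ∃ u v, u ∈ E.Jfix y ∧ v ∈ E.Jfix (z * y) ∧ w = u * v := by
  have hyy := sq_of_orderOf_two (S.y_facts E.py E.yz).2.2.1
  set t := y * w * y⁻¹ with ht
  have htJ : t ∈ E.J := E.J_y hw
  have hyt : y * t * y⁻¹ = w := by
    rw [ht, show y * (y * w * y⁻¹) * y⁻¹ = y * y * w * (y * y)⁻¹ by group, hyy, one_mul, inv_one, mul_one]
  have hc : Commute w t := E.J_comm hw htJ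
  refine ⟨(w * t) * (w * t), (w * t⁻¹) * (w * t⁻¹), (E.mem_Jfix).2 ⟨mul_mem (mul_mem hw htJ) (mul_mem hw htJ), ?_⟩,
    (E.mem_Jfix).2 ⟨mul_mem (mul_mem hw (inv_mem htJ)) (mul_mem hw (inv_mem htJ)), ?_⟩, ?_⟩
  · have h : Commute (w * t) y := by
      refine (mul_inv_eq_iff_eq_mul.1 ?_ : Commute y (w * t)).symm
      rw [show y * (w * t) * y⁻¹ = y * w * y⁻¹ * (y * t * y⁻¹) by group, hyt, ← ht, hc.eq]
    exact h.mul_left h
  · have h : Commute (w * t⁻¹) (z * y) := by
      refine (mul_inv_eq_iff_eq_mul.1 ?_ : Commute (z * y) (w * t⁻¹)).symm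
      rw [show z * y * (w * t⁻¹) * (z * y)⁻¹ = z * (y * w * y⁻¹ * (y * t * y⁻¹)⁻¹) * z⁻¹ by group, hyt, ← ht,
        show z * (t * w⁻¹) * z⁻¹ = z * t * z⁻¹ * (z * w * z⁻¹)⁻¹ by group, htJ.2.2, hw.2.2, inv_inv,
        hc.symm.inv_left.eq]
    exact h.mul_left h
  · rw [(show Commute (w * t) (w * t⁻¹) from E.J_comm (mul_mem hw htJ)
      (mul_mem hw (inv_mem htJ))).mul_mul_mul_comm, hc.symm.mul_mul_mul_comm, mul_inv_cancel, mul_one]
    calc w = w ^ 3 * w := by rw [E.J_cube hw, one_mul]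
      _ = w * w * (w * w) := by simp only [pow_succ, pow_zero, one_mul, mul_assoc]

theorem card_Jfix_zy : Nat.card (E.Jfix (z * y)) = Nat.card (E.Jfix y) := by
  obtain ⟨i, hi, hi2, hia, hib, -, hiy⟩ := E.exists_iota
  have hzy : i * (z * y) * i⁻¹ = y := by
    rw [show i * (z * y) * i⁻¹ = i * z * i⁻¹ * (i * y * i⁻¹) by group, hi.eq, mul_inv_cancel_right, hiy,
      ← mul_assoc, F.zz, one_mul]
  have hmap : ∀ {t t' w : G}, i * t * i⁻¹ = t' → w ∈ E.Jfix t → i * w * i⁻¹ ∈ E.Jfix t' := by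
    intro t t' w e hw
    rw [E.mem_Jfix] at hw ⊢
    exact ⟨E.J_inverts hi (Or.inr hia) (Or.inr hib) hw.1, e ▸ commute_conj hw.2 i⟩
  refine le_antisymm (Nat.card_le_card_of_injective (fun w => ⟨_, hmap hzy w.2⟩) ?_)
    (Nat.card_le_card_of_injective (fun w => ⟨_, hmap hiy w.2⟩) ?_) <;>
  · intro v w e
    exact Subtype.ext (mul_left_cancel (mul_right_cancel (congrArg Subtype.val e)))

theorem card_J : Nat.card E.J = Nat.card (E.Jfix y) * Nat.card (E.Jfix y) := by
  conv_rhs => arg 2; rw [← E.card_Jfix_zy]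
  rw [← Nat.card_prod]
  symm
  refine Nat.card_eq_of_bijective
    (fun p => (⟨(p.1 : G) * (p.2 : G), mul_mem ((E.mem_Jfix).1 p.1.2).1 ((E.mem_Jfix).1 p.2.2).1⟩ : E.J)) ⟨?_, ?_⟩
  · rintro ⟨u, v⟩ ⟨u', v'⟩ e
    have e' : (u : G) * v = u' * v' := congrArg Subtype.val e
    set d := (u' : G)⁻¹ * u with hd
    have d1 : d ∈ E.Jfix y := mul_mem (inv_mem u'.2) u.2
    have d2 : d ∈ E.Jfix (z * y) := by
      have : d = (v' : G) * (v : G)⁻¹ := by
        rw [hd, eq_mul_inv_iff_mul_eq, mul_assoc, e', inv_mul_cancel_left]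
      rw [this]
      exact mul_mem v'.2 (inv_mem v.2)
    rw [E.mem_Jfix] at d1 d2
    have hdz : Commute d z := by
      have := d2.2.mul_right d1.2.inv_right
      rwa [mul_inv_cancel_right] at this
    have hdd : d * d = 1 := by
      have h1 := d1.1.2.2
      rw [hdz.symm.eq, mul_inv_cancel_right] at h1
      conv_lhs => arg 2; rw [h1]
      exact mul_inv_cancel d
    have d1' : d = 1 := by
      have h3 := E.J_cube d1.1
      rwa [pow_three, hdd, mul_one] at h3
    have hu : u = u' := Subtype.ext (inv_mul_eq_one.1 d1').symm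
    subst hu
    have hv : v = v' := Subtype.ext (mul_left_cancel e')
    rw [hv]
  · intro w
    obtain ⟨u, v, hu, hv, e⟩ := E.J_split w.2
    exact ⟨(⟨u, hu⟩, ⟨v, hv⟩), Subtype.ext e.symm⟩

/-- The part fixed by `y` has order one, three or nine. -/
theorem card_Jy : Nat.card (E.Jfix y) = 1 ∨ Nat.card (E.Jfix y) = 3 ∨ Nat.card (E.Jfix y) = 9 := by
  obtain ⟨h, hh, hhx, hy'⟩ := E.exists_hy
  have hz' : ∀ {w : G}, Commute w y → Commute (h⁻¹ * w * h) z := fun hw => by
    have := commute_conj hw h⁻¹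
    rwa [inv_inv, show h⁻¹ * y * h = z by rw [← hh]; group] at this
  let ρ : E.Jfix y →* Perm (Fin n) :=
    { toFun := fun w => F.p (h⁻¹ * (w : G) * h)
      map_one' := by simp [F.p_one]
      map_mul' := fun v w => by
        rw [← F.p_mul (hz' ((E.mem_Jfix).1 v.2).2) (hz' ((E.mem_Jfix).1 w.2).2)]
        congr 1
        rw [Subgroup.coe_mul]; group }
  have facts : ∀ w : E.Jfix y, Commute (h⁻¹ * (w : G) * h) x ∧ Odd (orderOf (h⁻¹ * (w : G) * h)) := by
    intro w
    obtain ⟨hJ, -⟩ := (E.mem_Jfix).1 w.2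
    refine ⟨(hhx.inv_left.mul_left (E.xab ▸ (oddCent_le hJ.1).mul_right (oddCent_le hJ.2.1))).mul_left hhx, ?_⟩
    rw [show h⁻¹ * (w : G) * h = h⁻¹ * (w : G) * h⁻¹⁻¹ by rw [inv_inv], orderOf_conj']
    exact E.J_odd hJ
  have hinj : Function.Injective ρ := by
    intro v w e
    have := F.eq_of_odd (hz' ((E.mem_Jfix).1 v.2).2) (hz' ((E.mem_Jfix).1 w.2).2) (facts v).2 (facts w).2 e
    exact Subtype.ext (mul_left_cancel (mul_right_cancel this))
  haveI : Fact (Nat.Prime 3) := ⟨Nat.prime_three⟩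
  have hp : IsPGroup 3 (E.Jfix y) := fun w => ⟨1, Subtype.ext (by
    show (w : G) ^ 3 ^ 1 = 1
    rw [pow_one]; exact E.J_cube ((E.mem_Jfix).1 w.2).1)⟩
  set R := ρ.range with hR
  have hcard : Nat.card (E.Jfix y) = Nat.card R := Nat.card_congr (MonoidHom.ofInjective hinj).toEquiv
  set p0 : Fin n := pt S.lo 0 with hp0
  have horb : Nat.card (MulAction.orbit R p0) ≤ 3 := by
    have hlt : ∀ t : MulAction.orbit R p0, (t : Fin n).val < 3 := by
      rintro ⟨_, ⟨g, ⟨w, rfl⟩⟩, rfl⟩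
      exact (E.cx_odd (hz' ((E.mem_Jfix).1 w.2).2) (facts w).1 (facts w).2).2.2.2 p0 (by show (0 : ℕ) < 3; norm_num)
    refine (Nat.card_le_card_of_injective (β := Fin 3) (fun t : MulAction.orbit R p0 => (⟨(t : Fin n).val, hlt t⟩ : Fin 3))
      (fun s t e => Subtype.ext (Fin.ext (congrArg (fun k : Fin 3 => k.val) e :)))).trans (by simp)
  set St := MulAction.stabilizer R p0 with hSt
  -- a stabiliser element fixes the six points of the two cycles
  have hlow : ∀ g : St, ∀ k : Fin n, k.val < 6 → (((g : R) : Perm (Fin n))) k = k := by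
    rintro ⟨⟨g, ⟨w, rfl⟩⟩, hg⟩ k hk
    obtain ⟨hJ, hwy⟩ := (E.mem_Jfix).1 w.2
    set t := h⁻¹ * (w : G) * h with ht
    have htz : Commute t z := hz' hwy
    obtain ⟨hta, htb, -, -⟩ := E.cx_odd htz (facts w).1 (facts w).2
    have h0 : F.p t p0 = p0 := hg
    have cA : ∀ k, F.p t (ext8 S.le8 qA k) = ext8 S.le8 qA (F.p t k) := by
      have e := congrArg F.p hta.eq
      rw [F.p_mul htz E.az, F.p_mul E.az htz, E.pa] at e
      exact commute_app e
    have cB : ∀ k, F.p t (ext8 S.le8 qB k) = ext8 S.le8 qB (F.p t k) := by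
      have e := congrArg F.p htb.eq
      rw [F.p_mul htz E.bz, F.p_mul E.bz htz, E.pb] at e
      exact commute_app e
    -- inverted by `y`
    have hinv : y * t * y⁻¹ = t⁻¹ := by
      have e1 : h⁻¹ * z * h * t * (h⁻¹ * z * h)⁻¹ = t⁻¹ := by
        rw [ht, show h⁻¹ * z * h * (h⁻¹ * (w : G) * h) * (h⁻¹ * z * h)⁻¹ = h⁻¹ * (z * (w : G) * z⁻¹) * h by group,
          hJ.2.2]
        group
      rcases hy' with e | e
      · rwa [e] at e1
      · rw [e, show z * y * t * (z * y)⁻¹ = z * (y * t * y⁻¹) * z⁻¹ by group,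
          (show Commute (y * t * y⁻¹) z from F.conj_z E.yz htz).symm.eq, mul_inv_cancel_right] at e1
        exact e1
    have cS : ∀ k, F.p t (ext8 S.le8 qS (F.p t k)) = ext8 S.le8 qS k := by
      have e := congrArg F.p hinv
      rw [F.p_conj E.yz htz, F.p_inv htz, E.py, mul_inv_eq_iff_eq_mul, eq_inv_mul_iff_mul_eq] at e
      intro k
      exact congrArg (fun r : Perm (Fin n) => r k) e
    set P : Fin 8 → Fin n := Fin.castLE S.le8 with hP
    have hE : ∀ (q : Perm (Fin 8)) (k : Fin 8), ext8 S.le8 q (P k) = P (q k) := fun q k => ext8_apply _ _ _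
    have f0 : F.p t (P 0) = P 0 := h0
    have f1 : F.p t (P 1) = P 1 := by rw [show (1 : Fin 8) = qA 0 by decide +kernel, ← hE, cA, f0]
    have f2 : F.p t (P 2) = P 2 := by rw [show (2 : Fin 8) = qA 1 by decide +kernel, ← hE, cA, f1]
    have f3 : F.p t (P 3) = P 3 := by
      rw [show (3 : Fin 8) = qS 0 by decide +kernel, ← hE]
      have := cS (P 0)
      rwa [f0] at this
    have f4 : F.p t (P 4) = P 4 := by rw [show (4 : Fin 8) = qB 3 by decide +kernel, ← hE, cB, f3]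
    have f5 : F.p t (P 5) = P 5 := by rw [show (5 : Fin 8) = qB 4 by decide +kernel, ← hE, cB, f4]
    obtain ⟨j, hj, rfl⟩ : ∃ j : Fin 8, j.val < 6 ∧ P j = k := ⟨⟨k.val, by omega⟩, hk, rfl⟩
    have : j = 0 ∨ j = 1 ∨ j = 2 ∨ j = 3 ∨ j = 4 ∨ j = 5 := by omega
    rcases this with rfl | rfl | rfl | rfl | rfl | rfl
    exacts [f0, f1, f2, f3, f4, f5]
  have hmem : ∀ g : St, ∀ k : Fin n, 6 ≤ (((g : R) : Perm (Fin n)) k).val ↔ 6 ≤ k.val := fun g k => by
    constructor
    · intro hk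
      by_contra hc
      rw [hlow g k (by omega)] at hk
      exact hc hk
    · intro hk
      by_contra hc
      have := hlow g _ (not_le.1 hc)
      rw [((g : R) : Perm (Fin n)).injective this] at hc
      exact hc hk
  let res : St →* Perm {k : Fin n // 6 ≤ k.val} :=
    { toFun := fun g => ((g : R) : Perm (Fin n)).subtypePerm (hmem g)
      map_one' := by ext; rfl
      map_mul' := fun _ _ => by ext; rfl }
  have hres : Function.Injective res := by
    intro g g' e
    refine Subtype.ext (Subtype.ext (Equiv.ext fun k => ?_))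
    by_cases hk : 6 ≤ k.val
    · exact congrArg (fun r : Perm {k : Fin n // 6 ≤ k.val} => ((r ⟨k, hk⟩ : {k : Fin n // 6 ≤ k.val}) : Fin n)) e
    · rw [hlow g k (by omega), hlow g' k (by omega)]
  obtain ⟨m, hm⟩ := (IsPGroup.iff_card).1 ((hp.of_equiv (MonoidHom.ofInjective hinj)).to_subgroup St)
  have hd : Nat.card St ∣ 24 := by
    refine (Subgroup.card_dvd_of_injective res hres).trans ?_
    rw [Nat.card_perm]
    refine (Nat.factorial_dvd_factorial ?_).trans (show Nat.factorial 4 ∣ 24 by decide)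
    refine (Nat.card_le_card_of_injective (β := Fin 4) (fun k => ⟨k.1.val - 6, by
      have := k.1.isLt; have := S.hi; omega⟩) fun k l e => Subtype.ext (Fin.ext ?_)).trans (by simp)
    have e' : k.1.val - 6 = l.1.val - 6 := congrArg Fin.val e
    have := k.2
    have := l.2
    omega
  have hm1 : Nat.card St ≤ 3 := by
    rw [hm] at hd ⊢
    by_contra hc
    have : 2 ≤ m := by
      by_contra h2
      have : m = 0 ∨ m = 1 := by omega
      rcases this with rfl | rfl <;> simp at hc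
    have := (Nat.pow_dvd_pow 3 this).trans hd
    norm_num at this
  have hle : Nat.card (E.Jfix y) ≤ 9 := by
    rw [hcard]
    have : Fintype (MulAction.orbit R p0) := Fintype.ofFinite _
    calc Nat.card R = Nat.card (MulAction.orbit R p0) * Nat.card St := by
          rw [← Nat.card_prod]
          exact Nat.card_congr (MulAction.orbitProdStabilizerEquivGroup R p0).symm
      _ ≤ 9 := Nat.mul_le_mul horb hm1
  obtain ⟨m, hm⟩ := (IsPGroup.iff_card).1 hp
  have : m ≤ 2 := by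
    by_contra hc
    have := Nat.pow_le_pow_right (show 0 < 3 by norm_num) (show 3 ≤ m by omega)
    omega
  rw [hm]
  have : m = 0 ∨ m = 1 ∨ m = 2 := by omega
  rcases this with rfl | rfl | rfl <;> simp

end Elts

end Cfsg.Agent.AltDoubleCent
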