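import Cfsg.Agent.Lib.AltDoubleCent.Translate

/-!
# The transported inverted element

Main results: `Elts.inv_form`, `Elts.exists_normal`, `Elts.not_four_of_card`, `Elts.four_of_card`,
`Elts.odd_power`.
-/

set_option autoImplicit false
set_option linter.style.haveILetI false
set_option linter.unusedSectionVars false
set_option maxHeartbeats 1000000

namespace Cfsg.Agent.AltDoubleCent

open Equiv Equiv.Perm

universe u

variable {G : Type u} [Group G] {n : ℕ} {z : G} {F : Frame G n z}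

namespace Elts

variable {S : Setup F} {x y a b c : G} (E : Elts S x y a b c)
include E
variable [Finite G]

lemma abc_commute (i j k : ℕ) {v : G} (ha : Commute v a) (hb : Commute v b) (hc : Commute v c) :
    Commute v (a ^ i * b ^ j * c ^ k) :=
  ((ha.pow_right i).mul_right (hb.pow_right j)).mul_right (hc.pow_right k)

/-- Elements of `C(z)` centralising `x` and inverted by `y`. -/
theorem inv_form (h9 : n = 9) {t : G} (htz : Commute t z) (hta : Commute t a) (htb : Commute t b)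
    (ht3 : t ^ 3 = 1) (hinv : y * t * y⁻¹ = t⁻¹) : ∃ i k : Fin 3, t = (a * b⁻¹) ^ i.val * c ^ k.val := by
  have htc : Commute t c := by
    subst h9
    refine F.commute_of_odd E.cz htz (odd_of_pow_three E.c3) ?_
    set q := F.p t with hq
    rw [E.pc]
    have hq3 : ∀ l, q (q (q l)) = l := fun l => by
      show (q ^ 3) l = l
      rw [hq, ← F.p_pow htz, ht3, F.p_one, Perm.one_apply]
    have cX : ∀ l, q (ext8 S.le8 qX l) = ext8 S.le8 qX (q l) := by
      have e := congrArg F.p (show Commute t x from E.xab ▸ hta.mul_right htb).eq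
      rw [F.p_mul htz E.xz, F.p_mul E.xz htz, E.px] at e
      exact commute_app e
    have key : ∀ l : Fin 9, 6 ≤ (q l).val ↔ 6 ≤ l.val := fun l => by
      have hd := show ∀ l : Fin 9, (6 ≤ l.val ↔ ext8 (show 8 ≤ 9 by norm_num) qX l = l) by decide +kernel
      rw [hd, hd]
      exact (show ext8 S.le8 qX (q l) = q l ↔ ext8 S.le8 qX l = l by rw [← cX, q.injective.eq_iff])
    let f : Fin 3 → Fin 3 := fun i => ⟨(q ⟨6 + i.val, by omega⟩).val - 6, by
      have := (q ⟨6 + i.val, by omega⟩).isLt; omega⟩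
    have hf : ∀ i : Fin 3, q ⟨6 + i.val, by omega⟩ = ⟨6 + (f i).val, by omega⟩ := fun i => by
      refine Fin.ext ?_
      have := (key ⟨6 + i.val, by omega⟩).2 (by show 6 ≤ 6 + i.val; omega)
      show _ = 6 + ((q ⟨6 + i.val, by omega⟩).val - 6)
      omega
    have hf3 : ∀ i, f (f (f i)) = i := fun i => by
      have h := hq3 ⟨6 + i.val, by omega⟩
      rw [hf i, hf (f i), hf (f (f i))] at h
      have h' : 6 + (f (f (f i))).val = 6 + i.val := congrArg Fin.val h
      exact Fin.ext (by omega)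
    have hstep : ∀ i, f (i + 1) = f i + 1 :=
      (show ∀ g : Fin 3 → Fin 3, (∀ i, g (g (g i)) = i) → ∀ i, g (i + 1) = g i + 1 by decide +kernel) f hf3
    have hC : ∀ i : Fin 3, qC S.lo ⟨6 + i.val, by omega⟩ = ⟨6 + (i + 1 : Fin 3).val, by omega⟩ :=
      show ∀ i : Fin 3, qC (le_refl 9) ⟨6 + i.val, by omega⟩ = ⟨6 + (i + 1 : Fin 3).val, by omega⟩ by decide +kernel
    have hClow : ∀ l : Fin 9, l.val < 6 → qC S.lo l = l :=
      show ∀ l : Fin 9, l.val < 6 → qC (le_refl 9) l = l by decide +kernel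
    refine Equiv.ext fun l => ?_
    rw [Perm.mul_apply, Perm.mul_apply]
    by_cases hl : l.val < 6
    · rw [hClow l hl]
      exact hClow _ (not_le.1 fun h => not_le.2 hl ((key l).1 h))
    · obtain ⟨i, hi⟩ : ∃ i : Fin 3, l = ⟨6 + i.val, by omega⟩ :=
        ⟨⟨l.val - 6, by have := l.isLt; omega⟩, Fin.ext (by show l.val = 6 + (l.val - 6); omega)⟩
      rw [hi, hC, hf, hf, hC]
      exact Fin.ext (congrArg (fun j : Fin 3 => 6 + j.val) (hstep i)).symm
  obtain ⟨i, j, k, e⟩ := E.mem_A_form (E.mem_A htz ht3 hta htb htc)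
  have hmod : ∀ {p : G}, p ^ 3 = 1 → ∀ m : Fin 3, p ^ (2 * m.val) = p ^ ((2 * m : Fin 3)).val := fun hp m => by
    rw [Fin.val_mul, show ((2 : Fin 3) : ℕ) = 2 from rfl]
    conv_lhs => rw [← Nat.mod_add_div (2 * m.val) 3, pow_add, pow_mul, hp, one_pow, mul_one]
  have hinv3 : ∀ {p : G}, p ^ 3 = 1 → ∀ m : ℕ, (p ^ m)⁻¹ = p ^ (2 * m) := fun hp m =>
    inv_eq_of_mul_eq_one_left (by rw [← pow_add, show 2 * m + m = 3 * m by ring, pow_mul, hp, one_pow])
  have h2 : a ^ j.val * b ^ i.val * c ^ (2 * k : Fin 3).val =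
      a ^ (2 * i : Fin 3).val * b ^ (2 * j : Fin 3).val * c ^ (2 * k : Fin 3).val := by
    rw [← hmod E.a3, ← hmod E.b3, ← hmod E.c3, ← hinv3 E.a3, ← hinv3 E.b3, ← hinv3 E.c3]
    rw [e, show y * (a ^ i.val * b ^ j.val * c ^ k.val) * y⁻¹ =
      (y * a * y⁻¹) ^ i.val * (y * b * y⁻¹) ^ j.val * (y * c * y⁻¹) ^ k.val by
        rw [conj_pow, conj_pow, conj_pow]; group, E.yab, E.yba, E.yc, inv_pow, mul_inv_rev, mul_inv_rev,
      (E.ab.symm.pow_pow i.val j.val).eq] at hinv
    rw [hinv, ← mul_assoc, ((E.bc.symm.pow_pow _ _).inv_inv).eq, mul_assoc,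
      ((E.ac.symm.pow_pow _ _).inv_inv).eq, ← mul_assoc, ((E.ab.symm.pow_pow _ _).inv_inv).eq]
  have h3 := Prod.mk.inj (E.abc_injective (a₁ := (j, i, (2 * k : Fin 3))) (a₂ := (2 * i, 2 * j, 2 * k))
    (Subtype.ext h2))
  refine ⟨i, k, ?_⟩
  rw [e, h3.1, E.ab.inv_right.mul_pow, inv_pow, hinv3 E.b3, hmod E.b3]

lemma form_split (i k : ℕ) : (a * b⁻¹) ^ i * c ^ k = a ^ i * b ^ (2 * i) * c ^ k := by
  rw [E.ab.inv_right.mul_pow, inv_pow, show (b ^ i)⁻¹ = b ^ (2 * i) from inv_eq_of_mul_eq_one_left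
    (by rw [← pow_add, show 2 * i + i = 3 * i by ring, pow_mul, E.b3, one_pow])]

lemma form_injective : Function.Injective fun p : Fin 3 × Fin 3 => (a * b⁻¹) ^ p.1.val * c ^ p.2.val := by
  rintro ⟨i, k⟩ ⟨i', k'⟩ e
  beta_reduce at e
  rw [E.form_split, E.form_split] at e
  have hmod : ∀ m : Fin 3, b ^ (2 * m.val) = b ^ ((2 * m : Fin 3)).val := fun m => by
    rw [Fin.val_mul, show ((2 : Fin 3) : ℕ) = 2 from rfl]
    conv_lhs => rw [← Nat.mod_add_div (2 * m.val) 3, pow_add, pow_mul, E.b3, one_pow, mul_one]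
  rw [hmod, hmod] at e
  have h3 := E.abc_injective (a₁ := (i, 2 * i, k)) (a₂ := (i', 2 * i', k')) (Subtype.ext e)
  simp only [Prod.mk.injEq] at h3
  rw [h3.1, h3.2.2]

lemma form_facts (i k : ℕ) : Commute ((a * b⁻¹) ^ i * c ^ k) z ∧ Commute ((a * b⁻¹) ^ i * c ^ k) a ∧
    Commute ((a * b⁻¹) ^ i * c ^ k) b ∧ ((a * b⁻¹) ^ i * c ^ k) ^ 3 = 1 ∧
    y * ((a * b⁻¹) ^ i * c ^ k) * y⁻¹ = ((a * b⁻¹) ^ i * c ^ k)⁻¹ := by
  have hd : Commute (a * b⁻¹) c := E.ac.mul_left E.bc.inv_left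
  refine ⟨((E.az.mul_left E.bz.inv_left).pow_left i).mul_left (E.cz.pow_left k),
    (((Commute.refl a).mul_left E.ab.symm.inv_left).pow_left i).mul_left (E.ac.symm.pow_left k),
    ((E.ab.mul_left (Commute.refl b).inv_left).pow_left i).mul_left (E.bc.symm.pow_left k), ?_, ?_⟩
  · rw [(hd.pow_pow i k).mul_pow, ← pow_mul, mul_comm i, pow_mul, E.ab.inv_right.mul_pow, inv_pow, E.a3, E.b3,
      ← pow_mul, mul_comm k, pow_mul, E.c3]
    simp
  · rw [show y * ((a * b⁻¹) ^ i * c ^ k) * y⁻¹ = (y * (a * b⁻¹) * y⁻¹) ^ i * (y * c * y⁻¹) ^ k by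
      rw [conj_pow, conj_pow]; group, show y * (a * b⁻¹) * y⁻¹ = y * a * y⁻¹ * (y * b * y⁻¹)⁻¹ by group,
      E.yab, E.yba, E.yc, mul_inv_rev, ← inv_pow, ← inv_pow, mul_inv_rev, inv_inv]
    exact ((E.bc.mul_left E.ac.inv_left).inv_right.pow_pow i k).eq

lemma Jzy_inv {v : G} (hv : v ∈ E.Jfix (z * y)) : y * v * y⁻¹ = v⁻¹ := by
  obtain ⟨hvJ, hvy⟩ := (E.mem_Jfix).1 hv
  have e1 : z * y * v * (z * y)⁻¹ = v := by rw [← hvy.eq, mul_inv_cancel_right]
  rw [← hvJ.2.2]
  conv_rhs => rw [← e1]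
  rw [show z * (z * y * v * (z * y)⁻¹) * z⁻¹ = (z * z) * y * v * ((z * z) * y)⁻¹ by group, F.zz, one_mul]

variable (hk : Nat.card (E.Jfix y) = 3) (h9 : n = 9) {h : G} (hh : h * z * h⁻¹ = y) (hhx : Commute h x)
  (hy' : h⁻¹ * z * h = z * y)
include hk h9 hh hhx hy'

/-- A generator of the part fixed by `y` transports to a normalised element. -/
theorem exists_normal : ∃ d0 ∈ E.Jfix y, d0 ≠ 1 ∧
    (h⁻¹ * d0 * h = c ∨ ∃ c', (c' = c ∨ c' = c⁻¹) ∧ h⁻¹ * d0 * h = a * b⁻¹ * c') := by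
  obtain ⟨⟨d, hd⟩, hd1⟩ : ∃ d : E.Jfix y, d ≠ 1 := by
    haveI : Nontrivial (E.Jfix y) := Finite.one_lt_card_iff_nontrivial.1 (by rw [hk]; norm_num)
    exact exists_ne 1
  have hd1' : d ≠ 1 := fun e => hd1 (Subtype.ext e)
  obtain ⟨htz, hta, htb, ht3, hinv, -⟩ := E.hy_facts hh hhx (Or.inr hy') hd
  obtain ⟨i, k, e⟩ := E.inv_form h9 htz hta htb ht3 hinv
  have hk0 : k ≠ 0 := by
    intro k0
    subst k0
    rw [show ((0 : Fin 3) : ℕ) = 0 from rfl, pow_zero, mul_one] at e
    have hi0 : i ≠ 0 := fun i0 => hd1' (by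
      subst i0
      rw [show ((0 : Fin 3) : ℕ) = 0 from rfl, pow_zero] at e
      rw [show d = h * (h⁻¹ * d * h) * h⁻¹ by group, e, mul_one, mul_inv_cancel])
    -- the nine transports back
    set g : Fin 3 × Fin 3 → G := fun p => h⁻¹ * ((a * b⁻¹) ^ p.1.val * c ^ p.2.val) * h with hg
    have hmem : ∀ p, g p ∈ E.Jfix (z * y) := by
      intro p
      obtain ⟨fz, fa, fb, f3, fy⟩ := E.form_facts p.1.val p.2.val
      set P := (a * b⁻¹) ^ p.1.val * c ^ p.2.val with hP
      have hconj : ∀ {u v : G}, Commute u v → Commute (h⁻¹ * u * h) (h⁻¹ * v * h) := fun huv => by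
        have := commute_conj huv h⁻¹
        rwa [inv_inv] at this
      have hgx : Commute (g p) x := by
        have := hconj (show Commute P x from E.xab ▸ fa.mul_right fb)
        rwa [show h⁻¹ * x * h = x by rw [mul_assoc, ← hhx.eq, ← mul_assoc, inv_mul_cancel, one_mul]] at this
      have hgd : Commute (g p) (a * b⁻¹) := by
        have h1 := hconj (show Commute P d from by
          obtain ⟨hdJ, -⟩ := (E.mem_Jfix).1 hd
          exact (((((E.J_ab hdJ).1.symm).mul_left (E.J_ab hdJ).2.symm.inv_left).pow_left _).mul_left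
            ((E.c_J hk d hdJ).pow_left _)))
        rw [e] at h1
        have h2 := h1.pow_right i.val
        rwa [← pow_mul, show i.val * i.val = 3 * (i.val * i.val / 3) + 1 by
          fin_cases i <;> first | exact absurd rfl hi0 | rfl, pow_succ, pow_mul,
          E.ab.inv_right.mul_pow, inv_pow, E.a3, E.b3, inv_one, mul_one, one_pow, one_mul] at h2
      have hga : Commute (g p) a := by
        have h1 := (hgx.mul_right hgd).pow_right 2
        rwa [E.xab, show a * b * (a * b⁻¹) = a ^ 2 by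
          rw [pow_two, mul_assoc, ← mul_assoc b, E.ab.symm.eq, mul_assoc a b, mul_inv_cancel, mul_one],
          ← pow_mul, show 2 * 2 = 3 + 1 by norm_num, pow_succ, E.a3, one_mul] at h1
      have hgb : Commute (g p) b := by
        have h1 := hga.inv_right.mul_right hgx
        rwa [E.xab, inv_mul_cancel_left] at h1
      refine (E.mem_Jfix).2 ⟨E.mem_J ?_ hga hgb ?_, ?_⟩
      · rw [hg]
        show Odd (orderOf (h⁻¹ * P * h))
        rw [show h⁻¹ * P * h = h⁻¹ * P * h⁻¹⁻¹ by rw [inv_inv], orderOf_conj']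
        exact odd_of_pow_three f3
      · show z * (h⁻¹ * P * h) * z⁻¹ = (h⁻¹ * P * h)⁻¹
        rw [show (h⁻¹ * P * h)⁻¹ = h⁻¹ * P⁻¹ * h by group, ← fy, ← hh]
        group
      · have := hconj fz
        rwa [hy'] at this
    have hinj : Function.Injective fun p => (⟨g p, hmem p⟩ : E.Jfix (z * y)) := fun p q e => by
      exact E.form_injective (mul_left_cancel (mul_right_cancel (congrArg Subtype.val e)))
    have := Nat.card_le_card_of_injective _ hinj
    rw [E.card_Jfix_zy, hk] at this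
    simp at this
  have hk12 : k = 1 ∨ k = 2 := by omega
  have hinvd : h⁻¹ * d⁻¹ * h = ((a * b⁻¹) ^ i.val * c ^ k.val)⁻¹ := by rw [← e]; group
  have hd' : d⁻¹ ∈ E.Jfix y := inv_mem hd
  have hd1'' : d⁻¹ ≠ 1 := inv_ne_one.2 hd1'
  have hc2 : c ^ 2 = c⁻¹ := eq_inv_of_mul_eq_one_left (by rw [← pow_succ, E.c3])
  have hd2 : (a * b⁻¹) ^ 2 = (a * b⁻¹)⁻¹ := eq_inv_of_mul_eq_one_left (by
    rw [← pow_succ, E.ab.inv_right.mul_pow, inv_pow, E.a3, E.b3, inv_one, mul_one])
  have hcd : Commute (a * b⁻¹) c := E.ac.mul_left E.bc.inv_left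
  have hi3 : i = 0 ∨ i = 1 ∨ i = 2 := by omega
  rcases hi3 with rfl | rfl | rfl
  · rw [show ((0 : Fin 3) : ℕ) = 0 from rfl, pow_zero, one_mul] at e hinvd
    rcases hk12 with rfl | rfl
    · exact ⟨d, hd, hd1', Or.inl (e.trans (pow_one c))⟩
    · refine ⟨d⁻¹, hd', hd1'', Or.inl ?_⟩
      rw [hinvd, show ((2 : Fin 3) : ℕ) = 2 from rfl, hc2, inv_inv]
  · rw [show ((1 : Fin 3) : ℕ) = 1 from rfl, pow_one] at e
    refine ⟨d, hd, hd1', Or.inr ⟨c ^ k.val, ?_, e⟩⟩
    rcases hk12 with rfl | rfl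
    exacts [Or.inl (pow_one c), Or.inr hc2]
  · refine ⟨d⁻¹, hd', hd1'', Or.inr ⟨(c ^ k.val)⁻¹, ?_, ?_⟩⟩
    · rcases hk12 with rfl | rfl
      · exact Or.inr (by rw [show ((1 : Fin 3) : ℕ) = 1 from rfl, pow_one])
      · exact Or.inl (by rw [show ((2 : Fin 3) : ℕ) = 2 from rfl, hc2, inv_inv])
    · rw [hinvd, show ((2 : Fin 3) : ℕ) = 2 from rfl, hd2, mul_inv_rev, inv_inv, (hcd.pow_right _).inv_right.eq]

omit hk hh hhx hy'

/-- The product of `x` with the third cycle, and the triple product, move nine points. -/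
theorem triple_supports {c' : G} (hc : c' = c ∨ c' = c⁻¹) :
    (F.p (x * c)).support.card = 9 ∧ (F.p (a * b⁻¹ * c')).support.card = 9 ∧
      (F.p (x * (a * b⁻¹ * c'))).support.card = 6 := by
  subst h9
  have hcz : Commute c' z := by rcases hc with rfl | rfl; exacts [E.cz, E.cz.inv_left]
  have hpc : F.p c' = qC (le_refl 9) ∨ F.p c' = (qC (le_refl 9))⁻¹ := by
    rcases hc with rfl | rfl
    exacts [Or.inl E.pc, Or.inr (by rw [F.p_inv E.cz, E.pc])]
  have e2 : F.p (a * b⁻¹ * c') = ext8 S.le8 (qA * qB⁻¹) * F.p c' := by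
    rw [F.p_mul (E.az.mul_left E.bz.inv_left) hcz, F.p_mul E.az E.bz.inv_left, F.p_inv E.bz, E.pa, E.pb,
      map_mul, map_inv]
  refine ⟨?_, ?_, ?_⟩
  · rw [F.p_mul E.xz E.cz, E.px, E.pc]
    exact (show (ext8 (show 8 ≤ 9 by norm_num) qX * qC (le_refl 9)).support.card = 9 by decide +kernel)
  · rcases hpc with e | e <;> rw [e2, e]
    · exact (show (ext8 (show 8 ≤ 9 by norm_num) (qA * qB⁻¹) * qC (le_refl 9)).support.card = 9 by decide +kernel)
    · exact (show (ext8 (show 8 ≤ 9 by norm_num) (qA * qB⁻¹) * (qC (le_refl 9))⁻¹).support.card = 9 by decide +kernel)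
  · rw [F.p_mul E.xz ((E.az.mul_left E.bz.inv_left).mul_left hcz), E.px, e2]
    rcases hpc with e | e <;> rw [e]
    · exact (show (ext8 (show 8 ≤ 9 by norm_num) qX * (ext8 (show 8 ≤ 9 by norm_num) (qA * qB⁻¹) *
        qC (le_refl 9))).support.card = 6 by decide +kernel)
    · exact (show (ext8 (show 8 ≤ 9 by norm_num) qX * (ext8 (show 8 ≤ 9 by norm_num) (qA * qB⁻¹) *
        (qC (le_refl 9))⁻¹)).support.card = 6 by decide +kernel)

omit h9

lemma not_four_of_card {v : G} (hvz : Commute v z) (h3 : v ^ 3 = 1) (hs : (F.p v).support.card = 9) :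
    ¬ Four v := fun hF => by
  have h1 : v ≠ 1 := fun e => by rw [e, F.p_one, support_one] at hs; simp at hs
  rw [F.four_card S.hi hvz h3 h1 hF] at hs
  omega

lemma four_of_card {v : G} (hvz : Commute v z) (h3 : v ^ 3 = 1) (hs : (F.p v).support.card = 6) : Four v := by
  obtain ⟨k, -, hk⟩ := S.conj_of_six E.xz E.px E.x3 hvz h3 hs
  exact (hk ▸ E.x_four : Four (k * v * k⁻¹)).of_conj

/-- Every element centralising a fixed point free element of order three has twice odd order. -/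
theorem odd_power (h9 : n = 9) {e : G} (hez : Commute e z) (he3 : e ^ 3 = 1) (hes : (F.p e).support.card = 9)
    {g : G} (hge : Commute g e) : ∃ m, Odd m ∧ g ^ (2 * m) = 1 := by
  have hq3 : F.p e ^ 3 = 1 := by rw [← F.p_pow hez, he3, F.p_one]
  have hu : ∀ w : G, orderOf w = 2 → Commute w e → Commute w z → w = z := fun w h2 h4 h5 =>
    F.unique_of_odd_support S.hi hez hq3 (by rw [hes]; decide) h2 h4 h5
  set s := z * g * z⁻¹ * g⁻¹ with hs'
  have hsm : s ∈ oddCent e := F.unique_zStar hez.symm hu hge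
  have hzs : z * s * z⁻¹ = s⁻¹ := by
    rw [hs', F.z_inv, show z * (z * g * z * g⁻¹) * z = z * z * g * z * g⁻¹ * z by group, F.zz, one_mul,
      mul_inv_rev, mul_inv_rev, mul_inv_rev, inv_inv, F.z_inv]
    simp only [mul_assoc]
  obtain ⟨l, hl⟩ := oddCent_odd hsm
  set r := s ^ (l + 1) with hr
  have hrr : r * r = s := by
    rw [hr, ← pow_add, show l + 1 + (l + 1) = orderOf s + 1 by omega, pow_succ, pow_orderOf_eq_one, one_mul]
  set k := r * g with hkdef
  have hkz : Commute k z := (mul_inv_eq_iff_eq_mul.1 (by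
    have hzr : z * r * z⁻¹ = r⁻¹ := by rw [hr, ← conj_pow, hzs, inv_pow]
    calc z * (r * g) * z⁻¹ = (z * r * z⁻¹) * (z * g * z⁻¹ * g⁻¹) * g := by group
      _ = r * g := by rw [hzr, ← hs', ← hrr, inv_mul_cancel_left])).symm
  have hrm : r ∈ oddCent e := pow_mem hsm _
  have hke : Commute k e := (oddCent_le hrm).mul_left hge
  -- the image has odd order
  set p := F.p k with hp
  have hpodd : Odd (orderOf p) := by
    by_contra hev
    rw [Nat.not_odd_iff_even] at hev
    obtain ⟨j, hj⟩ := hev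
    set σ := p ^ j with hσ
    have hpos := orderOf_pos p
    have hσ1 : σ ≠ 1 := fun e => by
      have := Nat.le_of_dvd (by omega) (orderOf_dvd_of_pow_eq_one e)
      omega
    have hσ2 : σ * σ = 1 := by rw [hσ, ← pow_add, ← hj, pow_orderOf_eq_one]
    have hσs : sign σ = 1 := by rw [hσ, map_pow, hp, F.sign_p, one_pow]
    haveI : Fact (Nat.Prime 2) := ⟨Nat.prime_two⟩
    have hct := cycleType_of_pow_prime_eq_one (p := 2) (σ := σ) (by rw [pow_two, hσ2])
    have hsum := sum_cycleType σ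
    rw [hct, Multiset.sum_replicate, smul_eq_mul] at hsum
    rw [sign_of_cycleType, hct, Multiset.sum_replicate, Multiset.card_replicate, smul_eq_mul] at hσs
    set m := Multiset.card σ.cycleType with hm
    have hm0 : m ≠ 0 := fun e => hσ1 (card_cycleType_eq_zero.1 e)
    have hle := (Finset.card_le_univ σ.support).trans_eq (Fintype.card_fin n)
    have hmev : Even m := by
      by_contra ho
      rw [Nat.not_even_iff_odd] at ho
      rw [((even_two.mul_left m).add_odd ho).neg_one_pow] at hσs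
      exact absurd hσs (by decide)
    set q := F.p e with hq
    have hc : Commute σ q := by
      have h1 := congrArg F.p hke.eq
      rw [F.p_mul hkz hez, F.p_mul hez hkz] at h1
      exact (show Commute p q from h1).pow_left j
    have hmem : ∀ t, q t ∈ σ.supportᶜ ↔ t ∈ σ.supportᶜ := fun t => by
      rw [Finset.mem_compl, Finset.mem_compl, Perm.mem_support, Perm.mem_support, commute_app hc,
        q.injective.ne_iff]
    set ρ : Perm {t // t ∈ σ.supportᶜ} := q.subtypePerm hmem with hρ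
    have hρ3 : ρ ^ 3 = 1 := by
      rw [hρ, subtypePerm_pow]
      ext t
      simp [hq3]
    have hfull : ρ.support = Finset.univ := Finset.eq_univ_iff_forall.2 fun t => Perm.mem_support.2 fun e => by
      have : q (t : Fin n) = t := congrArg Subtype.val e
      exact Perm.mem_support.1 ((Finset.eq_univ_iff_forall.1 (Finset.eq_univ_of_card _
        (by rw [hes, Fintype.card_fin, h9]))) (t : Fin n)) this
    haveI : Fact (Nat.Prime 3) := ⟨Nat.prime_three⟩
    have hsum3 := sum_cycleType ρ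
    rw [cycleType_of_pow_prime_eq_one hρ3, Multiset.sum_replicate, smul_eq_mul, hfull, Finset.card_univ,
      Fintype.card_coe, Finset.card_compl, Fintype.card_fin] at hsum3
    obtain ⟨r, hr⟩ := hmev
    omega
  set m := orderOf p with hm
  have hk2 : k ^ (2 * m) = 1 := by
    have h1 : F.p (k ^ m) = 1 := by rw [F.p_pow hkz, ← hp, hm, pow_orderOf_eq_one]
    rw [mul_comm, pow_mul]
    rcases (F.ker (hkz.pow_left m)).1 h1 with e | e <;> rw [e]
    · exact one_pow 2
    · rw [pow_two, F.zz]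
  have hmemO : g ^ (2 * m) ∈ oddCent e := by
    have h : ∀ i : ℕ, g ^ i * (k ^ i)⁻¹ ∈ oddCent e := by
      intro i
      induction i with
      | zero => simp
      | succ i ih =>
        rw [show g ^ (i + 1) * (k ^ (i + 1))⁻¹ = g ^ i * (k ^ i)⁻¹ * (k ^ i * (g * k⁻¹) * (k ^ i)⁻¹) by
          rw [pow_succ, pow_succ]; group]
        refine mul_mem ih (oddCent_norm (hke.pow_left i) ?_)
        rw [hkdef, show g * (r * g)⁻¹ = r⁻¹ by group]
        exact inv_mem hrm
    have := h (2 * m)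
    rwa [hk2, inv_one, mul_one] at this
  refine ⟨m * orderOf (g ^ (2 * m)), hpodd.mul (oddCent_odd hmemO), ?_⟩
  rw [← mul_assoc, pow_mul, pow_orderOf_eq_one]

end Elts

end Cfsg.Agent.AltDoubleCent
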