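import Cfsg.Agent.Lib.AltDoubleCent.Invol
import Cfsg.Agent.Lib.ZStar.Unique
import Cfsg.Agent.Lib.ZStar.Apply

/-!
# A double cover of an alternating group as an involution centraliser

Main results: `Frame` with its lift lemmas, `Frame.unique_conj`, `Frame.unique_zStar`.
-/

set_option autoImplicit false

namespace Cfsg.Agent.AltDoubleCent

open Equiv Equiv.Perm
open scoped commutatorElement

universe u

/-- The centraliser of `z` is a double cover of the alternating group of degree `n`. -/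
structure Frame (G : Type u) [Group G] (n : ℕ) (z : G) where
  π : Subgroup.centralizer ({z} : Set G) →* Perm (Fin n)
  dc : DC π (⟨z, Subgroup.mem_centralizer_singleton_iff.2 rfl⟩ : Subgroup.centralizer ({z} : Set G))

namespace Frame

variable {G : Type u} [Group G] {n : ℕ} {z : G} (F : Frame G n z)

open scoped Classical in
/-- The image of an element, trivial off the centraliser. -/
noncomputable def p (g : G) : Perm (Fin n) :=
  if h : g * z = z * g then F.π ⟨g, Subgroup.mem_centralizer_singleton_iff.2 h⟩ else 1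

lemma p_eq {g : G} (h : Commute g z) : F.p g = F.π ⟨g, Subgroup.mem_centralizer_singleton_iff.2 h.eq⟩ :=
  dif_pos h.eq

lemma p_coe (g : Subgroup.centralizer ({z} : Set G)) : F.p (g : G) = F.π g :=
  F.p_eq (Subgroup.mem_centralizer_singleton_iff.1 g.2)

include F in
lemma orderOf_z : orderOf z = 2 := (Subgroup.orderOf_mk z _).symm.trans F.dc.ord

include F in
lemma zz : z * z = 1 := by rw [← pow_two, ← F.orderOf_z, pow_orderOf_eq_one]

include F in
lemma z_ne : z ≠ 1 := fun e => by
  have := F.orderOf_z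
  rw [e, orderOf_one] at this
  omega

include F in
lemma z_inv : z⁻¹ = z := inv_eq_of_mul_eq_one_right F.zz

lemma p_one : F.p 1 = 1 := by rw [F.p_eq (Commute.one_left z)]; exact map_one F.π

lemma p_z : F.p z = 1 := by rw [F.p_eq (Commute.refl z)]; exact F.dc.map_z

lemma p_mul {g k : G} (hg : Commute g z) (hk : Commute k z) : F.p (g * k) = F.p g * F.p k := by
  rw [F.p_eq hg, F.p_eq hk, F.p_eq (hg.mul_left hk), ← map_mul]; rfl

lemma p_inv {g : G} (hg : Commute g z) : F.p g⁻¹ = (F.p g)⁻¹ := by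
  rw [F.p_eq hg, F.p_eq hg.inv_left, ← map_inv]; rfl

lemma p_pow {g : G} (hg : Commute g z) (m : ℕ) : F.p (g ^ m) = F.p g ^ m := by
  rw [F.p_eq hg, F.p_eq (hg.pow_left m), ← map_pow]; rfl

lemma p_conj {g k : G} (hg : Commute g z) (hk : Commute k z) :
    F.p (g * k * g⁻¹) = F.p g * F.p k * (F.p g)⁻¹ := by
  rw [F.p_mul (hg.mul_left hk) hg.inv_left, F.p_mul hg hk, F.p_inv hg]

lemma sign_p (g : G) : sign (F.p g) = 1 := by
  unfold p
  split_ifs with h
  · exact F.dc.even _
  · exact map_one _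

lemma ker {g : G} (hg : Commute g z) : F.p g = 1 ↔ g = 1 ∨ g = z := by
  rw [F.p_eq hg, F.dc.ker]
  simp only [Subtype.ext_iff, OneMemClass.coe_one]

lemma eq_or {g k : G} (hg : Commute g z) (hk : Commute k z) (e : F.p g = F.p k) : g = k ∨ g = z * k := by
  rw [F.p_eq hg, F.p_eq hk] at e
  rcases F.dc.eq_or e with e' | e'
  · exact Or.inl (congrArg Subtype.val e')
  · exact Or.inr (congrArg Subtype.val e')

lemma eq_of_odd {g k : G} (hg : Commute g z) (hk : Commute k z) (og : Odd (orderOf g)) (ok : Odd (orderOf k))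
    (e : F.p g = F.p k) : g = k := by
  rw [F.p_eq hg, F.p_eq hk] at e
  exact congrArg Subtype.val (F.dc.eq_of_odd (by rwa [Subgroup.orderOf_mk]) (by rwa [Subgroup.orderOf_mk]) e)

lemma exists_lift {σ : Perm (Fin n)} (hs : sign σ = 1) : ∃ g, Commute g z ∧ F.p g = σ := by
  obtain ⟨g, hg⟩ := F.dc.surj σ hs
  exact ⟨g, Subgroup.mem_centralizer_singleton_iff.1 g.2, by rw [F.p_coe, hg]⟩

lemma exists_odd_lift {σ : Perm (Fin n)} (hs : sign σ = 1) (ho : Odd (orderOf σ)) :
    ∃ g, Commute g z ∧ F.p g = σ ∧ Odd (orderOf g) ∧ g ^ orderOf σ = 1 := by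
  obtain ⟨g, hg, hgo, hgp⟩ := F.dc.exists_odd_lift hs ho
  exact ⟨g, Subgroup.mem_centralizer_singleton_iff.1 g.2, by rw [F.p_coe, hg], by rwa [Subgroup.orderOf_coe],
    by rw [← Subgroup.coe_pow, hgp, OneMemClass.coe_one]⟩

lemma commute_of_odd {g k : G} (hg : Commute g z) (hk : Commute k z) (og : Odd (orderOf g))
    (e : Commute (F.p g) (F.p k)) : Commute k g := by
  rw [F.p_eq hg, F.p_eq hk] at e
  exact congrArg Subtype.val (F.dc.commute_of_odd (by rwa [Subgroup.orderOf_mk]) e).eq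

lemma comm_or {g k : G} (hg : Commute g z) (hk : Commute k z) (e : Commute (F.p g) (F.p k)) :
    g * k = k * g ∨ g * k = z * (k * g) := by
  rw [F.p_eq hg, F.p_eq hk] at e
  rcases F.dc.comm_or e with e' | e'
  · exact Or.inl (congrArg Subtype.val e')
  · exact Or.inr (congrArg Subtype.val e')

lemma sq_double {g : G} (hg : Commute g z) (e : Dbl (F.p g)) : g * g = z := by
  rw [F.p_eq hg] at e
  exact congrArg Subtype.val (F.dc.sq_double e)

lemma anti {u v : G} (hu : Commute u z) (hv : Commute v z) (du : Dbl (F.p u)) (dv : Dbl (F.p v))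
    (duv : Dbl (F.p u * F.p v)) : u * v = z * (v * u) := by
  rw [F.p_eq hu, F.p_eq hv] at duv
  rw [F.p_eq hu] at du
  rw [F.p_eq hv] at dv
  exact congrArg Subtype.val (F.dc.anti du dv duv)

lemma commute_disjoint {g v : G} (hg : Commute g z) (hv : Commute v z) (dv : Dbl (F.p v))
    (hd : Disjoint (F.p g) (F.p v)) : Commute g v := by
  rw [F.p_eq hg, F.p_eq hv] at hd
  rw [F.p_eq hv] at dv
  exact congrArg Subtype.val (F.dc.commute_disjoint dv hd).eq

lemma invol_support {g : G} (hg : Commute g z) (h2 : orderOf g = 2) (hne : g ≠ z) :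
    F.p g * F.p g = 1 ∧ 8 ∣ (F.p g).support.card ∧ 0 < (F.p g).support.card := by
  rw [F.p_eq hg]
  exact F.dc.invol_support (by rwa [Subgroup.orderOf_mk]) fun e => hne (congrArg Subtype.val e)

/-- Relabelling the points. -/
noncomputable def relabel (τ : Perm (Fin n)) : Frame G n z :=
  ⟨(MulAut.conj τ).toMonoidHom.comp F.π, F.dc.relabel τ⟩

lemma relabel_p (τ : Perm (Fin n)) {g : G} (hg : Commute g z) :
    (F.relabel τ).p g = τ * F.p g * τ⁻¹ := by
  rw [p_eq _ hg, F.p_eq hg]; rfl

include F in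
/-- If `z` is the only involution of `C(g) ∩ C(z)` then all involutions of `C(g)` are conjugate to `z`
there. -/
theorem unique_conj [Finite G] {g : G} (hzg : Commute z g)
    (hu : ∀ w : G, orderOf w = 2 → Commute w g → Commute w z → w = z) :
    ∀ w : G, orderOf w = 2 → Commute w g → ∃ k, Commute k g ∧ k * z * k⁻¹ = w := by
  haveI : Fact (Nat.Prime 2) := ⟨Nat.prime_two⟩
  set H := Subgroup.centralizer ({g} : Set G) with hH
  have hord : ∀ {w : H}, orderOf w = 2 → orderOf (w : G) = 2 := fun h => by rw [Subgroup.orderOf_coe, h]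
  have hcm : ∀ w : H, Commute (w : G) g := fun w => Subgroup.mem_centralizer_singleton_iff.1 w.2
  set zH : H := ⟨z, Subgroup.mem_centralizer_singleton_iff.2 hzg.eq⟩ with hzH
  have hz2 : orderOf zH = 2 := by rw [hzH, Subgroup.orderOf_mk, F.orderOf_z]
  obtain ⟨T, hT⟩ := (IsPGroup.of_card (p := 2) (n := 1)
    (by rw [Nat.card_zpowers, hz2, pow_one]) : IsPGroup 2 (Subgroup.zpowers zH)).exists_le_sylow
  have hzT : zH ∈ (T : Subgroup H) := hT (Subgroup.mem_zpowers zH)
  have : Nontrivial (T : Subgroup H) :=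
    ⟨⟨zH, hzT⟩, 1, fun e => F.z_ne (congrArg (fun a : (T : Subgroup H) => ((a : H) : G)) e)⟩
  have hcn : Nontrivial (Subgroup.center (T : Subgroup H)) := T.isPGroup'.center_nontrivial
  obtain ⟨c, hc⟩ := exists_prime_orderOf_dvd_card' (G := Subgroup.center (T : Subgroup H)) 2 (by
    obtain ⟨m, hm0, hm⟩ := ((T.isPGroup'.to_subgroup _).nontrivial_iff_card).1 hcn
    rw [hm]; exact dvd_pow_self 2 hm0.ne')
  have hct : ∀ t : (T : Subgroup H), ((c : (T : Subgroup H)) : H) * t = (t : H) * (c : (T : Subgroup H)) :=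
    fun t => congrArg Subtype.val (Subgroup.mem_center_iff.1 c.2 t).symm
  have hcz : (((c : (T : Subgroup H)) : H) : G) = z := by
    refine hu _ (hord ?_) (hcm _) (congrArg Subtype.val (hct ⟨zH, hzT⟩))
    rw [Subgroup.orderOf_coe, Subgroup.orderOf_coe, hc]
  have hT1 : ∀ w : H, w ∈ (T : Subgroup H) → orderOf w = 2 → w = zH := fun w hw hw2 => by
    refine Subtype.ext (hu _ (hord hw2) (hcm w) ?_)
    have := congrArg Subtype.val (hct ⟨w, hw⟩)
    rw [Subgroup.coe_mul, Subgroup.coe_mul, hcz] at this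
    exact this.symm
  intro w hw2 hwg
  set wH : H := ⟨w, Subgroup.mem_centralizer_singleton_iff.2 hwg.eq⟩ with hwH
  have hwH2 : orderOf wH = 2 := by rw [hwH, Subgroup.orderOf_mk, hw2]
  obtain ⟨T', hT'⟩ := (IsPGroup.of_card (p := 2) (n := 1)
    (by rw [Nat.card_zpowers, hwH2, pow_one]) : IsPGroup 2 (Subgroup.zpowers wH)).exists_le_sylow
  obtain ⟨k, hk⟩ := MulAction.exists_smul_eq H T' T
  have hmem : k * wH * k⁻¹ ∈ (T : Subgroup H) := by
    rw [← hk, Sylow.coe_subgroup_smul]
    exact ⟨wH, hT' (Subgroup.mem_zpowers wH), by simp [MulAut.conj_apply]⟩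
  have e := hT1 _ hmem (by rw [← (SemiconjBy.conj_mk k wH).orderOf_eq, hwH2])
  refine ⟨(k⁻¹ : H), hcm _, ?_⟩
  have e' : k⁻¹ * zH * k⁻¹⁻¹ = wH := by rw [← e]; group
  exact congrArg Subtype.val e'

include F in
/-- If `z` is the only involution of `C(g) ∩ C(z)` then two commuting involutions of `C(g)` are equal. -/
theorem unique_commute [Finite G] {g : G} (hzg : Commute z g)
    (hu : ∀ w : G, orderOf w = 2 → Commute w g → Commute w z → w = z)
    {u v : G} (hu2 : orderOf u = 2) (hv2 : orderOf v = 2) (hug : Commute u g) (hvg : Commute v g)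
    (huv : Commute u v) : u = v := by
  obtain ⟨k, hkg, hk⟩ := F.unique_conj hzg hu u hu2 hug
  have h1 : Commute (k⁻¹ * v * k) g := (hkg.inv_left.mul_left hvg).mul_left hkg
  have h2 : Commute (k⁻¹ * v * k) z := by
    have := huv.symm.map (MulAut.conj k⁻¹).toMonoidHom
    simp only [MulEquiv.coe_toMonoidHom, MulAut.conj_apply, inv_inv, ← hk] at this
    rwa [show k⁻¹ * (k * z * k⁻¹) * k = z by group] at this
  have h3 : k⁻¹ * v * k = z := hu _ (by
    rw [show k⁻¹ * v * k = k⁻¹ * v * k⁻¹⁻¹ by rw [inv_inv], ← (SemiconjBy.conj_mk k⁻¹ v).orderOf_eq, hv2]) h1 h2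
  rw [← hk, ← h3]; group

include F in
/-- If `z` is the only involution of `C(g) ∩ C(z)` then `z` is central modulo the odd core of `C(g)`. -/
theorem unique_zStar [Finite G] {g : G} (hzg : Commute z g)
    (hu : ∀ w : G, orderOf w = 2 → Commute w g → Commute w z → w = z) {x : G} (hx : Commute x g) :
    z * x * z⁻¹ * x⁻¹ ∈ (Cfsg.pPrimeCore 2 (Subgroup.centralizer ({g} : Set G))).map
      (Subgroup.centralizer ({g} : Set G)).subtype := by
  set H := Subgroup.centralizer ({g} : Set G) with hH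
  set zH : H := ⟨z, Subgroup.mem_centralizer_singleton_iff.2 hzg.eq⟩ with hzH
  have hz2 : orderOf zH = 2 := by rw [hzH, Subgroup.orderOf_mk, F.orderOf_z]
  have hiso : Cfsg.IsIsolatedInvolution zH := ⟨hz2, fun k hk => Subtype.ext (hu _
    (by rw [Subgroup.orderOf_coe, ← (SemiconjBy.conj_mk k zH).orderOf_eq, hz2])
    (Subgroup.mem_centralizer_singleton_iff.1 (k * zH * k⁻¹).2) (congrArg Subtype.val hk.symm.eq))⟩
  exact ⟨_, ZStar.zStar_of_brauerSuzuki ZStar.uniqueInvolution hiso
    ⟨x, Subgroup.mem_centralizer_singleton_iff.2 hx.eq⟩, rfl⟩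

end Frame

end Cfsg.Agent.AltDoubleCent
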