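import Cfsg.Agent.Lib.AltDoubleCent.Invol
import Cfsg.Agent.Lib.CharApp.Burnside
import Mathlib.GroupTheory.Perm.Centralizer
import Mathlib.GroupTheory.Solvable

/-!
# Fusion of the central involution for a large degree

Main result: `fusion_false` : for `n ∉ {8, …, 12}` the central involution is not conjugate
to another involution of its centraliser.
-/

set_option autoImplicit false
set_option linter.unusedSimpArgs false

namespace Cfsg.Agent.AltDoubleCent

open Equiv Equiv.Perm
open scoped commutatorElement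

variable {C : Type*} [Group C] {n : ℕ} {π : C →* Perm (Fin n)} {z : C}

/-- Some normal 2-subgroup has derived group generated by `u`. -/
def QP {K : Type*} [Group K] (u : K) : Prop :=
  ∃ N : Subgroup K, N.Normal ∧ IsPGroup 2 N ∧ ⁅N, N⁆ = Subgroup.zpowers u

lemma QP.map {K L : Type*} [Group K] [Group L] (e : K ≃* L) {u : K} (h : QP u) : QP (e u) := by
  obtain ⟨N, hN, hp, hd⟩ := h
  refine ⟨N.map e.toMonoidHom, hN.map _ e.surjective, hp.map _, ?_⟩
  rw [← Subgroup.map_commutator, hd, MonoidHom.map_zpowers]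
  rfl

lemma threeCycle_as_commutator {a b c d e : Fin n} (hab : a ≠ b) (hac : a ≠ c) (had : a ≠ d) (hae : a ≠ e)
    (hbc : b ≠ c) (hbd : b ≠ d) (hbe : b ≠ e) (hcd : c ≠ d) (hce : c ≠ e) (hde : d ≠ e) :
    ⁅swap a b * swap a d, swap b e * swap b c⁆ = swap a b * swap a c := by
  ext x
  simp only [commutatorElement_def, mul_inv_rev, swap_inv, Perm.mul_apply]
  by_cases ha : x = a
  · subst ha; simp [swap_apply_def, hab, hac, had, hae, hbc, hbd, hbe, hcd, hce, hde, hab.symm, hac.symm, had.symm, hae.symm, hbc.symm, hbd.symm, hbe.symm, hcd.symm, hce.symm, hde.symm]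
  by_cases hb : x = b
  · subst hb; simp [swap_apply_def, hab, hac, had, hae, hbc, hbd, hbe, hcd, hce, hde, hab.symm, hac.symm, had.symm, hae.symm, hbc.symm, hbd.symm, hbe.symm, hcd.symm, hce.symm, hde.symm]
  by_cases hc : x = c
  · subst hc; simp [swap_apply_def, hab, hac, had, hae, hbc, hbd, hbe, hcd, hce, hde, hab.symm, hac.symm, had.symm, hae.symm, hbc.symm, hbd.symm, hbe.symm, hcd.symm, hce.symm, hde.symm]
  by_cases hd : x = d
  · subst hd; simp [swap_apply_def, hab, hac, had, hae, hbc, hbd, hbe, hcd, hce, hde, hab.symm, hac.symm, had.symm, hae.symm, hbc.symm, hbd.symm, hbe.symm, hcd.symm, hce.symm, hde.symm]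
  by_cases he : x = e
  · subst he; simp [swap_apply_def, hab, hac, had, hae, hbc, hbd, hbe, hcd, hce, hde, hab.symm, hac.symm, had.symm, hae.symm, hbc.symm, hbd.symm, hbe.symm, hcd.symm, hce.symm, hde.symm]
  simp [swap_apply_def, ha, hb, hc, hd, he]

lemma apply_inv' (p : Perm (Fin n)) (x : Fin n) : p (p⁻¹ x) = x := by
  rw [← Perm.mul_apply, mul_inv_cancel, Perm.one_apply]

lemma exists_notMem {s : Finset (Fin n)} {t : Finset (Fin n)} (h : s.card < t.card) : ∃ x ∈ t, x ∉ s := by
  by_contra hcon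
  push Not at hcon
  exact absurd (Finset.card_le_card hcon) (not_le.2 h)

namespace DC

variable (h : DC π z)
include h

/-- Splitting off two transpositions of an involution. -/
lemma pair_lift {y : C} (hy : π y * π y = 1) {a c : Fin n} (ha : π y a ≠ a) (hc : π y c ≠ c)
    (hca : c ≠ a) (hcb : c ≠ π y a) :
    ∃ u, π u = swap a (π y a) * swap c (π y c) ∧ Dbl (π u) ∧ Commute u y := by
  set σ := π y with hσ
  have hinv : ∀ x, σ (σ x) = x := fun x => by rw [← Perm.mul_apply, hy, Perm.one_apply]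
  have hda : σ c ≠ a := fun e => hcb (by rw [← e, hinv])
  have hdb : σ c ≠ σ a := fun e => hca (σ.injective e)
  have hdbl : Dbl (swap a (σ a) * swap c (σ c)) :=
    ⟨_, _, _, _, ha.symm, hc.symm, hca.symm, hda.symm, hcb.symm, hdb.symm, rfl⟩
  obtain ⟨u, hu⟩ := h.surj _ (sign_dbl hdbl)
  obtain ⟨va, vb, vc, vd, vx⟩ := dbl_values ha.symm hc.symm hca.symm hda.symm hcb.symm hdb.symm
  have hu2 := dbl_mul_self hdbl
  refine ⟨u, hu, hu ▸ hdbl, ?_⟩
  have hd : Disjoint (π (u⁻¹ * y)) (π u) := fun x => by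
    rw [map_mul, map_inv, hu, inv_eq_of_mul_eq_one_right hu2, Perm.mul_apply, ← hσ]
    by_cases x1 : x = a
    · left; rw [x1, vb]
    by_cases x2 : x = σ a
    · left; rw [x2, hinv, va]
    by_cases x3 : x = c
    · left; rw [x3, vd]
    by_cases x4 : x = σ c
    · left; rw [x4, hinv, vc]
    exact Or.inr (vx x x1 x2 x3 x4)
  have hcm := h.commute_disjoint (g := u⁻¹ * y) (v := u) (hu ▸ hdbl) hd
  have := (Commute.refl u).mul_right hcm.symm
  rwa [mul_inv_cancel_left] at this

omit h in
lemma centralizer_image {y : C} (k : Subgroup.centralizer ({y} : Set C)) (x : Fin n) :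
    π (k : C) (π y x) = π y (π (k : C) x) := by
  rw [← Perm.mul_apply, ← map_mul, Subgroup.mem_centralizer_singleton_iff.1 k.2, map_mul, Perm.mul_apply]

/-- The central involution has property `QP`. -/
theorem qp_z {y : C} (hy : orderOf y = 2) (hyz : y ≠ z) :
    QP (⟨z, Subgroup.mem_centralizer_singleton_iff.2 (h.zc y).eq⟩ : Subgroup.centralizer ({y} : Set C)) := by
  obtain ⟨hσ, h8, hpos⟩ := h.invol_support hy hyz
  set σ := π y with hσd
  have hinv : ∀ x, σ (σ x) = x := fun x => by rw [← Perm.mul_apply, hσ, Perm.one_apply]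
  let N : Subgroup (Subgroup.centralizer ({y} : Set C)) :=
    { carrier := {g | ∀ x, π (g : C) x = x ∨ π (g : C) x = σ x}
      one_mem' := fun x => Or.inl (by simp)
      mul_mem' := fun {g k} hg hk x => by
        rw [Subgroup.coe_mul, map_mul, Perm.mul_apply]
        rcases hk x with e | e <;> rw [e]
        · exact hg x
        · rcases hg (σ x) with e' | e' <;> rw [e']
          · exact Or.inr rfl
          · exact Or.inl (hinv x)
      inv_mem' := fun {g} hg x => by
        rw [Subgroup.coe_inv, map_inv]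
        rcases hg ((π (g : C))⁻¹ x) with e | e <;> rw [apply_inv'] at e
        · exact Or.inl e.symm
        · right
          conv_rhs => rw [e, hinv] }
  have hNinv : ∀ g ∈ N, π (g : C) * π (g : C) = 1 := fun g hg => by
    ext x : 1
    rw [Perm.mul_apply, Perm.one_apply]
    rcases hg x with e | e
    · rw [e, e]
    · rw [e, centralizer_image, e, hinv]
  refine ⟨N, ⟨fun g hg k x => ?_⟩, fun g => ⟨2, Subtype.ext (Subtype.ext ?_)⟩, le_antisymm ?_ ?_⟩
  · rw [Subgroup.coe_mul, Subgroup.coe_mul, Subgroup.coe_inv, map_mul, map_mul, map_inv, Perm.mul_apply,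
      Perm.mul_apply]
    rcases hg ((π (k : C))⁻¹ x) with e | e <;> rw [e]
    · exact Or.inl (apply_inv' _ _)
    · right
      rw [centralizer_image, apply_inv']
  · have h1 : π ((g : Subgroup.centralizer ({y} : Set C)) : C) ^ 2 = 1 := by rw [pow_two]; exact hNinv _ g.2
    rw [← map_pow] at h1
    show ((g : Subgroup.centralizer ({y} : Set C)) : C) ^ 2 ^ 2 = 1
    rw [show (2 : ℕ) ^ 2 = 2 * 2 from rfl, pow_mul]
    rcases (h.ker _).1 h1 with e | e
    · rw [e, one_pow]
    · rw [e, pow_two z, h.zz]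
  · rw [Subgroup.commutator_le]
    intro p hp q hq
    have hc : π ((⁅p, q⁆ : Subgroup.centralizer ({y} : Set C)) : C) = 1 := by
      have hpq := hNinv _ (mul_mem hp hq)
      rw [Subgroup.coe_mul, map_mul] at hpq
      rw [commutatorElement_def, Subgroup.coe_mul, Subgroup.coe_mul, Subgroup.coe_mul, Subgroup.coe_inv,
        Subgroup.coe_inv, map_mul, map_mul, map_mul, map_inv, map_inv,
        inv_eq_of_mul_eq_one_right (hNinv p hp), inv_eq_of_mul_eq_one_right (hNinv q hq), mul_assoc (π (p : C) * π (q : C))]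
      exact hpq
    rcases (h.ker _).1 hc with e | e
    · exact (show ⁅p, q⁆ = 1 from Subtype.ext e) ▸ one_mem _
    · exact (show ⁅p, q⁆ = (⟨z, Subgroup.mem_centralizer_singleton_iff.2 (h.zc y).eq⟩ : Subgroup.centralizer ({y} : Set C)) from Subtype.ext e) ▸ Subgroup.mem_zpowers _
  · rw [Subgroup.zpowers_le]
    obtain ⟨a, ha⟩ := Finset.card_pos.1 hpos
    rw [Perm.mem_support] at ha
    obtain ⟨c, hc, hc'⟩ := exists_notMem (s := {a, σ a}) (t := σ.support) (by
      have := Finset.card_le_two (a := a) (b := σ a); omega)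
    obtain ⟨e, he, he'⟩ := exists_notMem (s := {a, σ a, c, σ c}) (t := σ.support) (by
      have := Finset.card_le_four (a := a) (b := σ a) (c := c) (d := σ c); omega)
    rw [Perm.mem_support] at hc he
    simp only [Finset.mem_insert, Finset.mem_singleton, not_or] at hc' he'
    obtain ⟨u, hu, hud, huy⟩ := h.pair_lift hσ ha hc hc'.1 hc'.2
    obtain ⟨v, hv, hvd, hvy⟩ := h.pair_lift hσ ha he he'.1 he'.2.1
    have hda : σ c ≠ a := fun e' => hc'.2 (by rw [← e', hinv])
    have hfa : σ e ≠ a := fun e' => he'.2.1 (by rw [← e', hinv])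
    have hfc : σ e ≠ c := fun e' => he'.2.2.2 (by rw [← e', hinv])
    have hdb : σ c ≠ σ a := fun e' => hc'.1 (σ.injective e')
    have hfb : σ e ≠ σ a := fun e' => he'.1 (σ.injective e')
    have hfd : σ e ≠ σ c := fun e' => he'.2.2.1 (σ.injective e')
    have hNmem : ∀ {g : C} {a c : Fin n}, σ a ≠ a → σ c ≠ c → c ≠ a → c ≠ σ a →
        π g = swap a (σ a) * swap c (σ c) → ∀ x, π g x = x ∨ π g x = σ x := by
      intro g a c ha hc hca hcb hg x
      obtain ⟨va, vb, vc, vd, vx⟩ := dbl_values ha.symm hc.symm hca.symm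
        (fun e' => hcb (by rw [e', hinv])) hcb.symm (fun e' => hca (σ.injective e').symm)
      rw [hg]
      by_cases x1 : x = a
      · exact Or.inr (by rw [x1, va])
      by_cases x2 : x = σ a
      · exact Or.inr (by rw [x2, vb, hinv])
      by_cases x3 : x = c
      · exact Or.inr (by rw [x3, vc])
      by_cases x4 : x = σ c
      · exact Or.inr (by rw [x4, vd, hinv])
      exact Or.inl (vx x x1 x2 x3 x4)
    have huv : Dbl (π u * π v) := by
      refine ⟨c, σ c, e, σ e, hc.symm, he.symm, fun e' => he'.2.2.1 e'.symm, hfc.symm,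
        fun e' => he'.2.2.2 e'.symm, hfd.symm, ?_⟩
      have hcm : Commute (swap a (σ a)) (swap c (σ c)) :=
        mul_inv_eq_iff_eq_mul.1 (by
          rw [← swap_apply_apply, swap_apply_of_ne_of_ne hc'.1 hc'.2, swap_apply_of_ne_of_ne hda hdb])
      rw [hu, hv, ← mul_assoc, mul_assoc (swap a (σ a)), ← hcm.eq, ← mul_assoc, swap_mul_self, one_mul]
    have hcomm : ⁅u, v⁆ = z := by
      rw [commutatorElement_def, h.anti hud hvd huv]; group
    refine (show (⟨z, _⟩ : Subgroup.centralizer ({y} : Set C)) =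
      ⁅(⟨u, Subgroup.mem_centralizer_singleton_iff.2 huy.eq⟩ : Subgroup.centralizer ({y} : Set C)),
        ⟨v, Subgroup.mem_centralizer_singleton_iff.2 hvy.eq⟩⁆ from Subtype.ext hcomm.symm) ▸
      Subgroup.commutator_mem_commutator (show ∀ x, π u x = x ∨ π u x = σ x from hNmem ha hc hc'.1 hc'.2 hu)
        (show ∀ x, π v x = x ∨ π v x = σ x from hNmem ha he he'.1 he'.2.1 hv)

/-- An involution moving at least sixteen points does not have property `QP`. -/
theorem not_qp_y {y : C} (hy : orderOf y = 2) (hyz : y ≠ z) (h16 : 16 ≤ (π y).support.card) :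
    ¬ QP (⟨y, Subgroup.mem_centralizer_singleton_iff.2 rfl⟩ : Subgroup.centralizer ({y} : Set C)) := by
  rintro ⟨N, hN, -, hd⟩
  obtain ⟨hσ, -, -⟩ := h.invol_support hy hyz
  set σ := π y with hσd
  have hinv : ∀ x, σ (σ x) = x := fun x => by rw [← Perm.mul_apply, hσ, Perm.one_apply]
  have hz' : ∀ p ∈ N, ∀ q ∈ N, (π (p : C) * π (q : C) = π (q : C) * π (p : C)) ∨
      (π (p : C) * π (q : C) = σ * (π (q : C) * π (p : C))) := by
    intro p hp q hq
    have hm : ⁅p, q⁆ ∈ Subgroup.zpowers (⟨y, _⟩ : Subgroup.centralizer ({y} : Set C)) :=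
      hd ▸ Subgroup.commutator_mem_commutator hp hq
    obtain ⟨i, hi⟩ := Subgroup.mem_zpowers_iff.1 hm
    have e : π (p : C) * π (q : C) = π (y ^ i) * (π (q : C) * π (p : C)) := by
      have := congrArg (fun w : Subgroup.centralizer ({y} : Set C) => π (w : C)) hi
      simp only [commutatorElement_def, Subgroup.coe_mul, Subgroup.coe_inv, SubgroupClass.coe_zpow, map_mul,
        map_inv, map_zpow] at this ⊢
      rw [this]; group
    rcases Int.even_or_odd i with ⟨j, rfl⟩ | ⟨j, rfl⟩
    · left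
      rw [e, map_zpow, ← hσd, ← two_mul, zpow_mul, zpow_two, hσ, one_zpow, one_mul]
    · right
      rw [e, map_zpow, ← hσd, zpow_add_one, zpow_mul, zpow_two, hσ, one_zpow, one_mul]
  -- blocks are fixed
  have hblock : ∀ p ∈ N, ∀ x, σ x ≠ x → π (p : C) x = x ∨ π (p : C) x = σ x := by
    intro p hp x0 hx0
    by_contra hcon
    simp only [not_or] at hcon
    set q := π (p : C) with hq
    have hqs : ∀ x, q (σ x) = σ (q x) := centralizer_image p
    set x2 := q x0 with hx2
    have hx2m : σ x2 ≠ x2 := by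
      rw [hx2, ← hqs]
      exact q.injective.ne hx0
    obtain ⟨x4, hx4, hx4'⟩ := exists_notMem (s := {x0, σ x0, x2, σ x2}) (t := σ.support) (by
      have := Finset.card_le_four (a := x0) (b := σ x0) (c := x2) (d := σ x2); omega)
    obtain ⟨x3, hx3, hx3'⟩ := exists_notMem
      (s := {x0, σ x0, x2, σ x2} ∪ {x4, σ x4, q x4, σ (q x4)}) (t := σ.support) (by
      have := Finset.card_union_le ({x0, σ x0, x2, σ x2} : Finset (Fin n)) {x4, σ x4, q x4, σ (q x4)}
      have := Finset.card_le_four (a := x0) (b := σ x0) (c := x2) (d := σ x2)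
      have := Finset.card_le_four (a := x4) (b := σ x4) (c := q x4) (d := σ (q x4))
      omega)
    rw [Perm.mem_support] at hx4 hx3
    simp only [Finset.mem_union, Finset.mem_insert, Finset.mem_singleton, not_or] at hx4' hx3'
    obtain ⟨a40, a40', a42, a42'⟩ := hx4'
    obtain ⟨⟨a30, a30', a32, a32'⟩, a34, a34', a3q, a3q'⟩ := hx3'
    have dual : ∀ {u v : Fin n}, u ≠ σ v → v ≠ σ u := fun huv e => huv (by rw [e, hinv])
    set t1 := swap x2 x4 * swap x2 x3 with ht1
    set t2 := swap (σ x2) (σ x4) * swap (σ x2) (σ x3) with ht2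
    have hd12 : Disjoint t1 t2 := fun x => by
      rw [ht1, ht2]
      by_cases hx : x = x2 ∨ x = x4 ∨ x = x3
      · right
        rcases hx with rfl | rfl | rfl <;>
          simp [Perm.mul_apply, swap_apply_def, hx2m.symm, hx4.symm, hx3.symm, a42', a32', a34',
            dual a42', dual a32', dual a34']
      · left
        simp only [not_or] at hx
        simp [Perm.mul_apply, swap_apply_def, hx.1, hx.2.1, hx.2.2]
    have hc1 := threeCycle_odd (Ne.symm a42) (Ne.symm a32) (fun e => a34 e.symm)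
    have hc2 := threeCycle_odd (σ.injective.ne (Ne.symm a42)) (σ.injective.ne (Ne.symm a32))
      (σ.injective.ne (fun e => a34 e.symm))
    have hodd : Odd (orderOf (t1 * t2)) := by
      refine Odd.of_dvd_nat ?_ (hd12.commute.orderOf_mul_dvd_lcm)
      exact Odd.of_dvd_nat (hc1.2.mul hc2.2) (Nat.lcm_dvd (dvd_mul_right _ _) (dvd_mul_left _ _))
    obtain ⟨t, ht, hto, -⟩ := h.exists_odd_lift (σ := t1 * t2) (by rw [map_mul, hc1.1, hc2.1, mul_one]) hodd
    have hcσ : Commute σ (t1 * t2) := by
      refine mul_inv_eq_iff_eq_mul.1 ?_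
      have e : ∀ a b c : Fin n, σ * (swap a b * swap a c) * σ⁻¹ = swap (σ a) (σ b) * swap (σ a) (σ c) :=
        fun a b c => by rw [swap_apply_apply σ a b, swap_apply_apply σ a c]; group
      rw [show σ * (t1 * t2) * σ⁻¹ = (σ * t1 * σ⁻¹) * (σ * t2 * σ⁻¹) by group, ht1, ht2, e, e, hinv, hinv,
        hinv, ← ht1, ← ht2]
      exact hd12.commute.symm.eq
    have hty : Commute y t := h.commute_of_odd hto (by rw [ht]; exact hcσ.symm)
    set T : Subgroup.centralizer ({y} : Set C) := ⟨t, Subgroup.mem_centralizer_singleton_iff.2 hty.symm.eq⟩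
    have hT : T * p * T⁻¹ ∈ N := hN.conj_mem p hp T
    -- values of `t`
    have tfix : ∀ w, w ≠ x2 → w ≠ x4 → w ≠ x3 → w ≠ σ x2 → w ≠ σ x4 → w ≠ σ x3 → (t1 * t2) w = w :=
      fun w w1 w2 w3 w4 w5 w6 => by
        simp [ht1, ht2, Perm.mul_apply, swap_apply_def, w1, w2, w3, w4, w5, w6]
    have tx2 : (t1 * t2) x2 = x3 := by
      rw [Perm.mul_apply, show t2 x2 = x2 from ?_]
      · simp [ht1, Perm.mul_apply, swap_apply_def, a32, a34]
      · simp [ht2, Perm.mul_apply, swap_apply_def, hx2m.symm, dual a42', dual a32']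
    have tx4 : (t1 * t2) x4 = x2 := by
      rw [Perm.mul_apply, show t2 x4 = x4 from ?_]
      · simp [ht1, Perm.mul_apply, swap_apply_def, a42, Ne.symm a34]
      · simp [ht2, Perm.mul_apply, swap_apply_def, hx4.symm, a42', dual a34']
    have tsx4 : (t1 * t2) (σ x4) = σ x2 := by
      rw [← Perm.mul_apply, hcσ.symm.eq, Perm.mul_apply, tx4]
    have hx02 : x0 ≠ x2 := fun e => hcon.1 e.symm
    have hx02' : x0 ≠ σ x2 := fun e => hcon.2 (by rw [e, hinv])
    have t0 : (t1 * t2) x0 = x0 := tfix x0 hx02 (Ne.symm a40) (Ne.symm a30) hx02' (dual a40') (dual a30')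
    -- compare
    set q' := π ((T * p * T⁻¹ : Subgroup.centralizer ({y} : Set C)) : C) with hq'
    have hq'e : q' = (t1 * t2) * q * (t1 * t2)⁻¹ := by
      rw [hq', Subgroup.coe_mul, Subgroup.coe_mul, Subgroup.coe_inv, map_mul, map_mul, map_inv, ht]
    have q'0 : q' x0 = x3 := by
      rw [hq'e, Perm.mul_apply, Perm.mul_apply, show (t1 * t2)⁻¹ x0 = x0 from Perm.inv_eq_iff_eq.2 t0.symm,
        ← hx2, tx2]
    have q'2 : q' x2 = (t1 * t2) (q x4) := by
      rw [hq'e, Perm.mul_apply, Perm.mul_apply, show (t1 * t2)⁻¹ x2 = x4 from Perm.inv_eq_iff_eq.2 tx4.symm]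
    have hmain : q x3 = (t1 * t2) (q x4) ∨ q x3 = σ ((t1 * t2) (q x4)) := by
      rcases hz' p hp _ hT with e | e
      · left
        have := congrArg (fun w : Perm (Fin n) => w x0) e
        simp only [Perm.mul_apply] at this
        rw [q'0, ← hx2, q'2] at this
        exact this
      · right
        have := congrArg (fun w : Perm (Fin n) => w x0) e
        simp only [Perm.mul_apply] at this
        rw [q'0, ← hx2, q'2] at this
        exact this
    by_cases e4 : q x4 = x4 ∨ q x4 = σ x4
    · have e5 : q x3 = x2 ∨ q x3 = σ x2 := by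
        rcases e4 with e4 | e4 <;> rw [e4] at hmain <;> simp only [tx4, tsx4, hinv] at hmain
        · exact hmain
        · exact hmain.symm
      rcases e5 with e5 | e5
      · exact a30 (q.injective e5)
      · exact a30' (q.injective (by rw [e5, hqs]))
    · simp only [not_or] at e4
      have e42 : q x4 ≠ x2 := fun e => a40 (q.injective e)
      have e42' : q x4 ≠ σ x2 := fun e => a40' (q.injective (by rw [e, hqs]))
      rw [tfix (q x4) e42 e4.1 (Ne.symm a3q) e42' e4.2 (dual a3q')] at hmain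
      rcases hmain with e | e
      · exact a34 (q.injective e)
      · exact a34' (q.injective (by rw [e, hqs]))
  -- the image of `N` is abelian
  have hab : ∀ p ∈ N, ∀ q ∈ N, π (p : C) * π (q : C) = π (q : C) * π (p : C) := by
    intro p hp q hq
    ext x : 1
    rw [Perm.mul_apply, Perm.mul_apply]
    by_cases hx : σ x = x
    · rcases hz' p hp q hq with e | e
      · exact congrArg (fun w : Perm (Fin n) => w x) e
      · have e' : π (p : C) (π (q : C) x) = σ (π (q : C) (π (p : C) x)) :=
          congrArg (fun w : Perm (Fin n) => w x) e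
        rw [e', ← centralizer_image q, ← centralizer_image p, hx]
    · rcases hblock p hp x hx with e1 | e1 <;> rcases hblock q hq x hx with e2 | e2 <;>
        simp only [e1, e2, centralizer_image, hσd]
  have hle : ⁅N, N⁆ ≤ ((π.comp (Subgroup.centralizer ({y} : Set C)).subtype)).ker := by
    rw [Subgroup.commutator_le]
    intro p hp q hq
    rw [MonoidHom.mem_ker, map_commutatorElement, commutatorElement_eq_one_iff_mul_comm]
    exact hab p hp q hq
  have hy1 : π y = 1 := by
    rw [hd, Subgroup.zpowers_le] at hle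
    exact hle
  rw [hσd, hy1, support_one] at h16
  simp at h16

/-- `z` lies in every derived subgroup of the centraliser of `y` when five points are fixed. -/
theorem z_mem_derived {y : C} (h5 : 5 ≤ n - (π y).support.card) (k : ℕ) :
    (⟨z, Subgroup.mem_centralizer_singleton_iff.2 (h.zc y).eq⟩ : Subgroup.centralizer ({y} : Set C)) ∈
      derivedSeries (Subgroup.centralizer ({y} : Set C)) k := by
  set σ := π y with hσ
  set F := (σ.support)ᶜ with hFd
  have hF : 5 ≤ F.card := by rw [hFd, Finset.card_compl, Fintype.card_fin]; exact h5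
  have hfix : ∀ a ∈ F, σ a = a := fun a ha => by
    rw [hFd, Finset.mem_compl, Perm.mem_support, not_not] at ha
    exact ha
  let gens : Set C := {g | Odd (orderOf g) ∧ ∃ a b c, a ∈ F ∧ b ∈ F ∧ c ∈ F ∧ a ≠ b ∧ a ≠ c ∧ b ≠ c ∧
    π g = swap a b * swap a c}
  set L := Subgroup.closure gens with hL
  have hLy : L ≤ Subgroup.centralizer ({y} : Set C) := by
    rw [hL, Subgroup.closure_le]
    rintro g ⟨hgo, a, b, c, ha, hb, hc, -, -, -, e⟩
    refine Subgroup.mem_centralizer_singleton_iff.2 (h.commute_of_odd hgo ?_).symm.eq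
    rw [e, ← hσ]
    refine mul_inv_eq_iff_eq_mul.1 ?_
    have e' : σ * (swap a b * swap a c) * σ⁻¹ = swap (σ a) (σ b) * swap (σ a) (σ c) := by
      rw [swap_apply_apply σ a b, swap_apply_apply σ a c]; group
    have := e'.trans (by rw [hfix a ha, hfix b hb, hfix c hc])
    rw [mul_inv_eq_iff_eq_mul] at this
    calc swap a b * swap a c * σ * (swap a b * swap a c)⁻¹
        = σ * (swap a b * swap a c) * (swap a b * swap a c)⁻¹ := by rw [this]
      _ = σ := by rw [mul_inv_cancel_right]
  have mk : ∀ a b c, a ∈ F → b ∈ F → c ∈ F → a ≠ b → a ≠ c → b ≠ c →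
      ∃ g ∈ L, π g = swap a b * swap a c ∧ Odd (orderOf g) := by
    intro a b c ha hb hc hab hac hbc
    obtain ⟨g, hg, hgo, -⟩ := h.exists_odd_lift (threeCycle_odd hab hac hbc).1 (threeCycle_odd hab hac hbc).2
    exact ⟨g, Subgroup.subset_closure ⟨hgo, a, b, c, ha, hb, hc, hab, hac, hbc, hg⟩, hg, hgo⟩
  have hzL : z ∈ ⁅L, L⁆ := by
    obtain ⟨a, ha⟩ := Finset.card_pos.1 (show 0 < F.card by omega)
    obtain ⟨b, hb, hb'⟩ := exists_notMem (s := {a}) (t := F) (by simp; omega)
    obtain ⟨c, hc, hc'⟩ := exists_notMem (s := {a, b}) (t := F) (by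
      have := Finset.card_le_two (a := a) (b := b); omega)
    obtain ⟨d, hd, hd'⟩ := exists_notMem (s := {a, b, c}) (t := F) (by
      have := Finset.card_le_three (a := a) (b := b) (c := c); omega)
    simp only [Finset.mem_insert, Finset.mem_singleton, not_or] at hb' hc' hd'
    obtain ⟨hda, hdb, hdc⟩ := hd'
    obtain ⟨p, hp, hp', -⟩ := mk a b c ha hb hc (Ne.symm hb') (Ne.symm hc'.1) (Ne.symm hc'.2)
    obtain ⟨q, hq, hq', -⟩ := mk a b d ha hb hd (Ne.symm hb') (Ne.symm hda) (Ne.symm hdb)
    obtain ⟨p', hp1, hp2, -⟩ := mk a c b ha hc hb (Ne.symm hc'.1) (Ne.symm hb') hc'.2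
    obtain ⟨q', hq1, hq2, -⟩ := mk a c d ha hc hd (Ne.symm hc'.1) (Ne.symm hda) (Ne.symm hdc)
    have e1 : π ⁅p, q⁆ = swap a b * swap c d := by
      rw [map_commutatorElement, hp', hq', dbl_eq_commutator (Ne.symm hb') (Ne.symm hdc) (Ne.symm hc'.1) (Ne.symm hda) (Ne.symm hc'.2) (Ne.symm hdb)]
    have e2 : π ⁅p', q'⁆ = swap a c * swap b d := by
      rw [map_commutatorElement, hp2, hq2, dbl_eq_commutator (Ne.symm hc'.1) (Ne.symm hdb) (Ne.symm hb') (Ne.symm hda) hc'.2 (Ne.symm hdc)]
    have hd1 : Dbl (swap a b * swap c d) := ⟨a, b, c, d, Ne.symm hb', (Ne.symm hdc), Ne.symm hc'.1, (Ne.symm hda), Ne.symm hc'.2, (Ne.symm hdb), rfl⟩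
    have hd2 : Dbl (swap a c * swap b d) := ⟨a, c, b, d, Ne.symm hc'.1, (Ne.symm hdb), Ne.symm hb', (Ne.symm hda), hc'.2, (Ne.symm hdc), rfl⟩
    have hd3 : Dbl (swap a b * swap c d * (swap a c * swap b d)) := by
      refine ⟨a, d, b, c, (Ne.symm hda), Ne.symm hc'.2, Ne.symm hb', Ne.symm hc'.1, hdb, hdc, ?_⟩
      ext x
      by_cases x1 : x = a
      · subst x1; simp [Perm.mul_apply, swap_apply_def, Ne.symm hb', Ne.symm hc'.1, (Ne.symm hda), Ne.symm hc'.2, (Ne.symm hdb), (Ne.symm hdc), hb', hc'.1, hc'.2, hda, hdb, hdc]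
      by_cases x2 : x = b
      · subst x2; simp [Perm.mul_apply, swap_apply_def, Ne.symm hb', Ne.symm hc'.1, (Ne.symm hda), Ne.symm hc'.2, (Ne.symm hdb), (Ne.symm hdc), hb', hc'.1, hc'.2, hda, hdb, hdc]
      by_cases x3 : x = c
      · subst x3; simp [Perm.mul_apply, swap_apply_def, Ne.symm hb', Ne.symm hc'.1, (Ne.symm hda), Ne.symm hc'.2, (Ne.symm hdb), (Ne.symm hdc), hb', hc'.1, hc'.2, hda, hdb, hdc]
      by_cases x4 : x = d
      · subst x4; simp [Perm.mul_apply, swap_apply_def, Ne.symm hb', Ne.symm hc'.1, (Ne.symm hda), Ne.symm hc'.2, (Ne.symm hdb), (Ne.symm hdc), hb', hc'.1, hc'.2, hda, hdb, hdc]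
      simp [Perm.mul_apply, swap_apply_def, x1, x2, x3, x4]
    have m1 : ⁅p, q⁆ ∈ L := by rw [commutatorElement_def]; exact mul_mem (mul_mem (mul_mem hp hq) (inv_mem hp)) (inv_mem hq)
    have m2 : ⁅p', q'⁆ ∈ L := by rw [commutatorElement_def]; exact mul_mem (mul_mem (mul_mem hp1 hq1) (inv_mem hp1)) (inv_mem hq1)
    have e3 : ⁅⁅p, q⁆, ⁅p', q'⁆⁆ = z := by
      have hanti := h.anti (u := ⁅p, q⁆) (v := ⁅p', q'⁆) (e1 ▸ hd1) (e2 ▸ hd2) (by rw [e1, e2]; exact hd3)
      rw [commutatorElement_def ⁅p, q⁆, hanti]; group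
    exact e3 ▸ Subgroup.commutator_mem_commutator m1 m2
  have hperf : L ≤ ⁅L, L⁆ := by
    conv_lhs => rw [hL]
    rw [Subgroup.closure_le]
    rintro g ⟨-, a, b, c, ha, hb, hc, hab, hac, hbc, e⟩
    obtain ⟨d, hd, hd'⟩ := exists_notMem (s := {a, b, c}) (t := F) (by
      have := Finset.card_le_three (a := a) (b := b) (c := c); omega)
    obtain ⟨f, hf, hf'⟩ := exists_notMem (s := {a, b, c, d}) (t := F) (by
      have := Finset.card_le_four (a := a) (b := b) (c := c) (d := d); omega)
    simp only [Finset.mem_insert, Finset.mem_singleton, not_or] at hd' hf'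
    obtain ⟨p, hp, hp', -⟩ := mk a b d ha hb hd hab (Ne.symm hd'.1) (Ne.symm hd'.2.1)
    obtain ⟨q, hq, hq', -⟩ := mk b f c hb hf hc (Ne.symm hf'.2.1) hbc hf'.2.2.1
    have e' : π ⁅p, q⁆ = π g := by
      rw [map_commutatorElement, hp', hq', e, threeCycle_as_commutator hab hac (Ne.symm hd'.1) (Ne.symm hf'.1) hbc
        (Ne.symm hd'.2.1) (Ne.symm hf'.2.1) (Ne.symm hd'.2.2) (Ne.symm hf'.2.2.1) (Ne.symm hf'.2.2.2)]
    rcases h.eq_or e'.symm with rfl | rfl
    · exact Subgroup.commutator_mem_commutator hp hq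
    · exact mul_mem hzL (Subgroup.commutator_mem_commutator hp hq)
  have hder : ∀ j, L ≤ (derivedSeries (Subgroup.centralizer ({y} : Set C)) j).map (Subgroup.centralizer ({y} : Set C)).subtype := by
    intro j
    induction j with
    | zero => rwa [derivedSeries_zero, ← MonoidHom.range_eq_map, Subgroup.range_subtype]
    | succ j ih =>
      rw [derivedSeries_succ, Subgroup.map_commutator]
      exact hperf.trans (Subgroup.commutator_mono ih ih)
  have hzL' : z ∈ L := Subgroup.commutator_le_self L hzL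
  obtain ⟨w, hw, hwe⟩ := hder k hzL'
  exact (show w = ⟨z, _⟩ from Subtype.ext hwe) ▸ hw

/-- An involution moving eight points avoids some derived subgroup of its centraliser. -/
theorem y_not_mem_derived {y : C} (hy : orderOf y = 2) (hyz : y ≠ z) (h8 : (π y).support.card = 8) :
    ∃ k, (⟨y, Subgroup.mem_centralizer_singleton_iff.2 rfl⟩ : Subgroup.centralizer ({y} : Set C)) ∉
      derivedSeries (Subgroup.centralizer ({y} : Set C)) k := by
  obtain ⟨hσ, -, -⟩ := h.invol_support hy hyz
  set σ := π y with hσd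
  have hst : ∀ k : Subgroup.centralizer ({y} : Set C), ∀ x, x ∈ σ.support ↔ π (k : C) x ∈ σ.support := by
    intro k x
    rw [Perm.mem_support, Perm.mem_support, hσd, ← centralizer_image k, (π (k : C)).injective.ne_iff]
  let ρ : Subgroup.centralizer ({y} : Set C) →* Perm {x // x ∈ σ.support} :=
    { toFun := fun k => (π (k : C)).subtypePerm fun x => (hst k x).symm
      map_one' := by ext x; simp
      map_mul' := fun k l => Equiv.ext fun x => Subtype.ext (by
        show π (((k * l : Subgroup.centralizer ({y} : Set C)) : C)) (x : Fin n) = π (k : C) (π (l : C) x)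
        rw [Subgroup.coe_mul, map_mul, Perm.mul_apply]) }
  set s := ρ ⟨y, Subgroup.mem_centralizer_singleton_iff.2 rfl⟩ with hs
  have hs2 : s * s = 1 := by
    rw [hs, ← map_mul, ← map_one ρ]
    congr 1
    exact Subtype.ext (by show y * y = 1; rw [← pow_two, ← hy, pow_orderOf_eq_one])
  have hfull : s.support.card = 8 := by
    rw [show s.support = Finset.univ from ?_, Finset.card_univ, Fintype.card_coe, h8]
    rw [Finset.eq_univ_iff_forall]
    intro x
    rw [Perm.mem_support]
    exact fun e => Perm.mem_support.1 x.2 (congrArg Subtype.val e)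
  have hne : s ≠ 1 := fun e => by
    rw [e, support_one] at hfull
    simp at hfull
  have hct : s.cycleType = Multiset.replicate 4 2 := by
    have : Fact (Nat.Prime 2) := ⟨Nat.prime_two⟩
    have e := cycleType_of_pow_prime_eq_one (show s ^ 2 = 1 by rw [pow_two, hs2])
    have hsum := sum_cycleType s
    rw [e, Multiset.sum_replicate, hfull, smul_eq_mul] at hsum
    rw [e, show Multiset.card s.cycleType = 4 by omega]
  have hcard : Nat.card (Subgroup.centralizer ({s} : Set (Perm {x // x ∈ σ.support}))) = 384 := by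
    rw [nat_card_centralizer, hct, Fintype.card_coe, h8]
    decide
  have hrange : ρ.range ≤ Subgroup.centralizer ({s} : Set (Perm {x // x ∈ σ.support})) := by
    rintro _ ⟨k, rfl⟩
    rw [Subgroup.mem_centralizer_singleton_iff, hs, ← map_mul, ← map_mul]
    congr 1
    exact Subtype.ext (Subgroup.mem_centralizer_singleton_iff.1 k.2)
  obtain ⟨a, ha, e⟩ : ∃ m, m ≤ 7 * 2 ∧ (∃ b, Nat.card ρ.range = 2 ^ m * 3 ^ b) := by
    have hd : Nat.card ρ.range ∣ 384 := hcard ▸ Subgroup.card_dvd_of_le hrange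
    rw [show (384 : ℕ) = 2 ^ 7 * 3 ^ 1 by norm_num] at hd
    obtain ⟨p, q, hp, hq, e⟩ := (Nat.dvd_mul.1 hd)
    obtain ⟨i, hi, rfl⟩ := (Nat.dvd_prime_pow Nat.prime_two).1 hp
    obtain ⟨j, -, rfl⟩ := (Nat.dvd_prime_pow Nat.prime_three).1 hq
    exact ⟨i, by omega, j, e.symm⟩
  obtain ⟨b, hb⟩ := e
  obtain ⟨k, hk⟩ := (Group.isSolvable_def _).1
    (CharApp.isSolvable_of_card_eq_prime_pow_mul 2 3 Nat.prime_two Nat.prime_three _ ρ.range rfl a b hb)
  refine ⟨k, fun hmem => hne ?_⟩
  have h1 := map_derivedSeries_le_derivedSeries ρ.rangeRestrict k (Subgroup.mem_map_of_mem _ hmem)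
  rw [hk, Subgroup.mem_bot] at h1
  exact congrArg Subtype.val h1

end DC

/-- Fusion of `z` to another involution of its centraliser needs degree between eight and twelve. -/
theorem fusion_false {G : Type*} [Group G] {z : G} {π : Subgroup.centralizer ({z} : Set G) →* Perm (Fin n)}
    (h : DC π (⟨z, Subgroup.mem_centralizer_singleton_iff.2 rfl⟩ : Subgroup.centralizer ({z} : Set G)))
    (hn : n < 8 ∨ 13 ≤ n) {y : Subgroup.centralizer ({z} : Set G)} (hyz : (y : G) ≠ z)
    (hconj : IsConj z (y : G)) : False := by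
  set zC : Subgroup.centralizer ({z} : Set G) := ⟨z, Subgroup.mem_centralizer_singleton_iff.2 rfl⟩ with hzC
  obtain ⟨g, hg⟩ := isConj_iff.1 hconj
  have hz2 : orderOf z = 2 := (Subgroup.orderOf_coe zC).trans h.ord
  have hy2 : orderOf y = 2 := by
    rw [← Subgroup.orderOf_coe, ← hg, (SemiconjBy.conj_mk g z).orderOf_eq.symm, hz2]
  have hyne : y ≠ zC := fun e => hyz (congrArg Subtype.val e)
  have hyc : Commute (y : G) z := Subgroup.mem_centralizer_singleton_iff.1 y.2
  have hy'c : Commute (g⁻¹ * z * g) z := by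
    have := hyc.symm.map (MulAut.conj g⁻¹).toMonoidHom
    simp only [MulEquiv.coe_toMonoidHom, MulAut.conj_apply, inv_inv, ← hg] at this
    rw [show g⁻¹ * (g * z * g⁻¹) * g = z by group] at this
    exact this
  set y' : Subgroup.centralizer ({z} : Set G) := ⟨g⁻¹ * z * g, Subgroup.mem_centralizer_singleton_iff.2 hy'c.eq⟩
  have hy'2 : orderOf y' = 2 := by
    rw [← Subgroup.orderOf_coe]
    show orderOf (g⁻¹ * z * g) = 2
    rw [← hz2, (SemiconjBy.conj_mk g⁻¹ z).orderOf_eq, inv_inv]
  have hy'ne : y' ≠ zC := fun e => hyz (by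
    have e' : g⁻¹ * z * g = z := congrArg Subtype.val e
    rw [← hg]
    calc g * z * g⁻¹ = g * (g⁻¹ * z * g) * g⁻¹ := by rw [e']
      _ = z := by group)
  have hmem : ∀ k : Subgroup.centralizer ({y'} : Set (Subgroup.centralizer ({z} : Set G))),
      g * ((k : Subgroup.centralizer ({z} : Set G)) : G) * g⁻¹ ∈ Subgroup.centralizer ({z} : Set G) := by
    intro k
    have hk : Commute ((k : Subgroup.centralizer ({z} : Set G)) : G) (g⁻¹ * z * g) :=
      congrArg Subtype.val (Subgroup.mem_centralizer_singleton_iff.1 k.2)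
    have := hk.map (MulAut.conj g).toMonoidHom
    simp only [MulEquiv.coe_toMonoidHom, MulAut.conj_apply] at this
    rw [show g * (g⁻¹ * z * g) * g⁻¹ = z by group] at this
    exact Subgroup.mem_centralizer_singleton_iff.2 this.eq
  have hmem' : ∀ k : Subgroup.centralizer ({y} : Set (Subgroup.centralizer ({z} : Set G))),
      g⁻¹ * ((k : Subgroup.centralizer ({z} : Set G)) : G) * g ∈ Subgroup.centralizer ({z} : Set G) := by
    intro k
    have hk : Commute ((k : Subgroup.centralizer ({z} : Set G)) : G) (y : G) :=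
      congrArg Subtype.val (Subgroup.mem_centralizer_singleton_iff.1 k.2)
    have := hk.map (MulAut.conj g⁻¹).toMonoidHom
    simp only [MulEquiv.coe_toMonoidHom, MulAut.conj_apply, inv_inv, ← hg] at this
    rw [show g⁻¹ * (g * z * g⁻¹) * g = z by group] at this
    exact Subgroup.mem_centralizer_singleton_iff.2 this.eq
  let φ : Subgroup.centralizer ({y'} : Set (Subgroup.centralizer ({z} : Set G))) ≃*
      Subgroup.centralizer ({y} : Set (Subgroup.centralizer ({z} : Set G))) :=
    { toFun := fun k => ⟨⟨_, hmem k⟩, Subgroup.mem_centralizer_singleton_iff.2 (Subtype.ext (by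
          show g * _ * g⁻¹ * (y : G) = (y : G) * (g * _ * g⁻¹)
          rw [← hg]
          have hk : Commute ((k : Subgroup.centralizer ({z} : Set G)) : G) z :=
            Subgroup.mem_centralizer_singleton_iff.1 (k : Subgroup.centralizer ({z} : Set G)).2
          exact (hk.map (MulAut.conj g).toMonoidHom).eq))⟩
      invFun := fun k => ⟨⟨_, hmem' k⟩, Subgroup.mem_centralizer_singleton_iff.2 (Subtype.ext (by
          show g⁻¹ * _ * g * (g⁻¹ * z * g) = g⁻¹ * z * g * (g⁻¹ * _ * g)
          have hk : Commute ((k : Subgroup.centralizer ({z} : Set G)) : G) z :=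
            Subgroup.mem_centralizer_singleton_iff.1 (k : Subgroup.centralizer ({z} : Set G)).2
          have := (hk.map (MulAut.conj g⁻¹).toMonoidHom).eq
          simpa [mul_assoc] using this))⟩
      left_inv := fun k => Subtype.ext (Subtype.ext (by
        show g⁻¹ * (g * _ * g⁻¹) * g = _
        group))
      right_inv := fun k => Subtype.ext (Subtype.ext (by
        show g * (g⁻¹ * _ * g) * g⁻¹ = _
        group))
      map_mul' := fun k l => Subtype.ext (Subtype.ext (by
        show g * (((k : Subgroup.centralizer ({z} : Set G)) : G) * ((l : Subgroup.centralizer ({z} : Set G)) : G)) * g⁻¹ =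
          g * _ * g⁻¹ * (g * _ * g⁻¹)
        group)) }
  have φz : φ ⟨zC, Subgroup.mem_centralizer_singleton_iff.2 (h.zc y').eq⟩ =
      ⟨y, Subgroup.mem_centralizer_singleton_iff.2 rfl⟩ := Subtype.ext (Subtype.ext hg)
  have φy : φ.symm ⟨zC, Subgroup.mem_centralizer_singleton_iff.2 (h.zc y).eq⟩ =
      ⟨y', Subgroup.mem_centralizer_singleton_iff.2 rfl⟩ := Subtype.ext (Subtype.ext rfl)
  obtain ⟨-, h8, hpos⟩ := h.invol_support hy2 hyne
  obtain ⟨-, h8', hpos'⟩ := h.invol_support hy'2 hy'ne
  have hle : (π y).support.card ≤ n := (Finset.card_le_univ _).trans_eq (Fintype.card_fin n)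
  have e8 : (π y).support.card = 8 := by
    by_contra hne
    exact h.not_qp_y hy2 hyne (by omega) (φz ▸ (h.qp_z hy'2 hy'ne).map φ)
  have e8' : (π y').support.card = 8 := by
    by_contra hne
    exact h.not_qp_y hy'2 hy'ne (by omega) (φy ▸ (h.qp_z hy2 hyne).map φ.symm)
  obtain ⟨k, hk⟩ := h.y_not_mem_derived hy2 hyne e8
  refine hk (φz ▸ ?_)
  exact map_derivedSeries_le_derivedSeries φ.toMonoidHom k
    (Subgroup.mem_map_of_mem _ (h.z_mem_derived (y := y') (by omega) k))

end Cfsg.Agent.AltDoubleCent
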