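import Cfsg.Agent.Lib.AltDoubleCent.Cover
import Mathlib.Tactic.Group

/-!
# Involutions of a double cover of an alternating group

Main results: `DC.commute_disjoint`, `DC.invol_support`, `isConj_of_invol`.
-/

set_option autoImplicit false
set_option linter.unusedSimpArgs false

namespace Cfsg.Agent.AltDoubleCent

open Equiv Equiv.Perm
open scoped commutatorElement

variable {C : Type*} [Group C] {n : ℕ} {π : C →* Perm (Fin n)} {z : C}

lemma threeCycle_odd {a b c : Fin n} (hab : a ≠ b) (hac : a ≠ c) (hbc : b ≠ c) :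
    sign (swap a b * swap a c) = 1 ∧ Odd (orderOf (swap a b * swap a c)) := by
  have h3 := isThreeCycle_swap_mul_swap_same hab hac hbc
  exact ⟨h3.sign, by rw [h3.orderOf]; decide⟩

/-- A double transposition is a commutator of two three-cycles. -/
lemma dbl_eq_commutator {a b c d : Fin n} (hab : a ≠ b) (hcd : c ≠ d) (hac : a ≠ c) (had : a ≠ d)
    (hbc : b ≠ c) (hbd : b ≠ d) :
    ⁅swap a b * swap a c, swap a b * swap a d⁆ = swap a b * swap c d := by
  ext x
  simp only [commutatorElement_def, mul_inv_rev, swap_inv, Perm.mul_apply]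
  by_cases ha : x = a
  · subst ha; simp [swap_apply_def, hab, hac, had, hbc, hbd, hcd, hab.symm, hac.symm, had.symm, hbc.symm, hbd.symm, hcd.symm]
  by_cases hb : x = b
  · subst hb; simp [swap_apply_def, hab, hac, had, hbc, hbd, hcd, hab.symm, hac.symm, had.symm, hbc.symm, hbd.symm, hcd.symm]
  by_cases hc : x = c
  · subst hc; simp [swap_apply_def, hab, hac, had, hbc, hbd, hcd, hab.symm, hac.symm, had.symm, hbc.symm, hbd.symm, hcd.symm]
  by_cases hd : x = d
  · subst hd; simp [swap_apply_def, hab, hac, had, hbc, hbd, hcd, hab.symm, hac.symm, had.symm, hbc.symm, hbd.symm, hcd.symm]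
  simp [swap_apply_def, ha, hb, hc, hd]

lemma Dbl.disjoint_points {a b c d : Fin n} {σ : Perm (Fin n)} (hab : a ≠ b) (hcd : c ≠ d) (hac : a ≠ c)
    (had : a ≠ d) (hbc : b ≠ c) (hbd : b ≠ d) (h : Disjoint σ (swap a b * swap c d)) :
    σ a = a ∧ σ b = b ∧ σ c = c ∧ σ d = d := by
  have e : ∀ x, (swap a b * swap c d) x ≠ x → σ x = x := fun x hx => (h x).resolve_right hx
  refine ⟨e a ?_, e b ?_, e c ?_, e d ?_⟩ <;>
    simp [Perm.mul_apply, swap_apply_def, hab, hac, had, hbc, hbd, hcd, hab.symm, hac.symm, had.symm, hbc.symm, hbd.symm, hcd.symm]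

lemma dbl_values {a b c d : Fin n} (hab : a ≠ b) (hcd : c ≠ d) (hac : a ≠ c) (had : a ≠ d)
    (hbc : b ≠ c) (hbd : b ≠ d) :
    let δ := swap a b * swap c d
    δ a = b ∧ δ b = a ∧ δ c = d ∧ δ d = c ∧ ∀ x, x ≠ a → x ≠ b → x ≠ c → x ≠ d → δ x = x := by
  refine ⟨?_, ?_, ?_, ?_, fun x x1 x2 x3 x4 => ?_⟩ <;>
    simp [Perm.mul_apply, swap_apply_def, hab, hac, had, hbc, hbd, hcd, hab.symm, hac.symm, had.symm, hbc.symm, hbd.symm, hcd.symm, *]

namespace DC

variable (h : DC π z)
include h

/-- A lift of a permutation commuting with a double transposition fixing its support commutes. -/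
theorem commute_disjoint {g v : C} (hv : Dbl (π v)) (hd : Disjoint (π g) (π v)) : Commute g v := by
  obtain ⟨a, b, c, d, hab, hcd, hac, had, hbc, hbd, e⟩ := hv
  rw [e] at hd
  obtain ⟨fa, fb, fc, fd⟩ := Dbl.disjoint_points hab hcd hac had hbc hbd hd
  obtain ⟨p, hp, hpo, -⟩ := h.exists_odd_lift (threeCycle_odd hab hac hbc).1 (threeCycle_odd hab hac hbc).2
  obtain ⟨q, hq, hqo, -⟩ := h.exists_odd_lift (threeCycle_odd hab had hbd).1 (threeCycle_odd hab had hbd).2
  have hfix : ∀ {x y : Fin n}, π g x = x → π g y = y → Commute (π g) (swap x y) := fun hx hy =>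
    mul_inv_eq_iff_eq_mul.1 (by rw [← swap_apply_apply, hx, hy])
  have hcp : Commute g p := h.commute_of_odd hpo (by
    rw [hp]; exact ((hfix fa fb).mul_right (hfix fa fc)).symm)
  have hcq : Commute g q := h.commute_of_odd hqo (by
    rw [hq]; exact ((hfix fa fb).mul_right (hfix fa fd)).symm)
  have hc : Commute g ⁅p, q⁆ := by
    rw [commutatorElement_def]
    exact ((hcp.mul_right hcq).mul_right hcp.inv_right).mul_right hcq.inv_right
  rcases h.eq_or (g := v) (k := ⁅p, q⁆) (by
    rw [map_commutatorElement, hp, hq, dbl_eq_commutator hab hcd hac had hbc hbd, e]) with e' | e'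
  · rw [e']; exact hc
  · rw [e']; exact (h.zc g).symm.mul_right hc

theorem invol_support_aux (s : ℕ) : ∀ g : C, π g * π g = 1 → (π g).support.card = s →
    ∃ k, s = 4 * k ∧ g * g = z ^ k := by
  induction s using Nat.strong_induction_on with
  | _ s ih =>
    intro g hg hs
    by_cases h1 : π g = 1
    · refine ⟨0, by rw [← hs, h1, support_one]; rfl, ?_⟩
      rw [pow_zero]
      rcases (h.ker g).1 h1 with rfl | rfl
      · exact one_mul 1
      · exact h.zz
    set σ := π g with hσ
    have hinv : ∀ x, σ (σ x) = x := fun x => by rw [← Perm.mul_apply, hg, Perm.one_apply]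
    obtain ⟨a, ha⟩ : ∃ a, σ a ≠ a := by
      by_contra hcon
      push Not at hcon
      exact h1 (Perm.ext hcon)
    set b := σ a with hb
    have hba : σ b = a := hinv a
    obtain ⟨c, hc, hca, hcb⟩ : ∃ c, σ c ≠ c ∧ c ≠ a ∧ c ≠ b := by
      by_contra hcon
      push Not at hcon
      have e : σ = swap a b := by
        ext x
        by_cases hxa : x = a
        · rw [hxa, swap_apply_left]
        by_cases hxb : x = b
        · rw [hxb, swap_apply_right, hba]
        rw [swap_apply_of_ne_of_ne hxa hxb]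
        by_contra hx
        exact hxb (hcon x (fun e => hx (by rw [e])) hxa)
      have := h.even g
      rw [← hσ, e, sign_swap ha.symm] at this
      exact absurd this (by decide)
    set d := σ c with hd
    have hdc : σ d = c := hinv c
    have hda : d ≠ a := fun e => hcb (by rw [← hdc, e])
    have hdb : d ≠ b := fun e => hca (σ.injective e)
    have hab : a ≠ b := ha.symm
    have hcd : c ≠ d := hc.symm
    set δ := swap a b * swap c d with hδ
    have hδdbl : Dbl δ := ⟨a, b, c, d, hab, hcd, hca.symm, hda.symm, hcb.symm, hdb.symm, rfl⟩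
    set σ' := δ * σ with hσ'
    have vals := dbl_values hab hcd hca.symm hda.symm hcb.symm hdb.symm
    obtain ⟨va, vb, vc, vd, vx⟩ := vals
    simp only [← hδ] at va vb vc vd vx
    have hfix : ∀ x, δ x ≠ x → σ x = δ x := by
      intro x hx
      by_cases x1 : x = a
      · rw [x1, va]
      by_cases x2 : x = b
      · rw [x2, vb, hba]
      by_cases x3 : x = c
      · rw [x3, vc]
      by_cases x4 : x = d
      · rw [x4, vd, hdc]
      exact absurd (vx x x1 x2 x3 x4) hx
    have hdd : δ * δ = 1 := dbl_mul_self hδdbl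
    have hdisj : Disjoint δ σ' := fun x => by
      by_cases hx : δ x = x
      · exact Or.inl hx
      · right
        show δ (σ x) = x
        rw [hfix x hx, ← Perm.mul_apply, hdd, Perm.one_apply]
    obtain ⟨u, hu⟩ := h.surj δ (sign_dbl hδdbl)
    set g' := u⁻¹ * g with hg'
    have hπg' : π g' = σ' := by
      rw [hg', map_mul, map_inv, hu, inv_eq_of_mul_eq_one_right hdd, ← hσ]
    have hσσ' : δ * σ' = σ := by rw [hσ', ← mul_assoc, hdd, one_mul]
    have hsq' : σ' * σ' = 1 := by
      have hc' := hdisj.commute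
      have e : δ * σ' * (δ * σ') = 1 := by rw [hσσ', hg]
      rwa [hc'.symm.mul_mul_mul_comm, hdd, one_mul] at e
    have hcard : s = 4 + σ'.support.card := by
      rw [← hs, ← hσσ', hdisj.card_support_mul, ← sum_cycleType δ, cycleType_dbl hδdbl]
      rfl
    obtain ⟨k, hk, hk2⟩ := ih σ'.support.card (by omega) g' (by rw [hπg', hsq']) (by rw [hπg'])
    refine ⟨k + 1, by omega, ?_⟩
    have hcu : Commute g' u := h.commute_disjoint (by rw [hu]; exact hδdbl) (by rw [hπg', hu]; exact hdisj.symm)
    have e : g = u * g' := by rw [hg', mul_inv_cancel_left]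
    rw [e, hcu.mul_mul_mul_comm, h.sq_double (by rw [hu]; exact hδdbl), hk2, pow_succ']

/-- An involution other than `z` moves a positive multiple of eight points. -/
theorem invol_support {g : C} (hg : orderOf g = 2) (hgz : g ≠ z) :
    π g * π g = 1 ∧ 8 ∣ (π g).support.card ∧ 0 < (π g).support.card := by
  have hgg : g * g = 1 := by rw [← pow_two, ← hg, pow_orderOf_eq_one]
  have hs : π g * π g = 1 := by rw [← map_mul, hgg, map_one]
  obtain ⟨k, hk, hk2⟩ := h.invol_support_aux _ g hs rfl
  rw [hgg] at hk2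
  have h2 : 2 ∣ k := by
    rw [← h.ord]; exact orderOf_dvd_of_pow_eq_one hk2.symm
  refine ⟨hs, by omega, Finset.card_pos.2 (Finset.nonempty_iff_ne_empty.2 fun e => ?_)⟩
  rcases (h.ker g).1 (support_eq_empty_iff.1 e) with e' | e'
  · rw [e', orderOf_one] at hg; omega
  · exact hgz e'

end DC

lemma cycleType_of_invol {σ : Perm (Fin n)} (h : σ * σ = 1) :
    σ.cycleType = Multiset.replicate (σ.support.card / 2) 2 := by
  have : Fact (Nat.Prime 2) := ⟨Nat.prime_two⟩
  have h2 : σ ^ 2 = 1 := by rw [pow_two, h]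
  have e := cycleType_of_pow_prime_eq_one h2
  have hs := sum_cycleType σ
  rw [e, Multiset.sum_replicate, smul_eq_mul] at hs
  rw [← hs, Nat.mul_div_cancel _ two_pos, e, Multiset.card_replicate]

lemma isConj_of_invol {σ ρ : Perm (Fin n)} (hσ : σ * σ = 1) (hρ : ρ * ρ = 1)
    (e : σ.support.card = ρ.support.card) : ∃ τ : Perm (Fin n), τ * σ * τ⁻¹ = ρ :=
  isConj_iff.1 (isConj_iff_cycleType_eq.2 (by rw [cycleType_of_invol hσ, cycleType_of_invol hρ, e]))

end Cfsg.Agent.AltDoubleCent
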