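import Cfsg.Agent.Lib.AltDoubleCent.SylowC

/-!
# An element of order three rotating a four-group

Main results: `Elts.exists_rot`, `Elts.not_all_four`.
-/

set_option autoImplicit false
set_option linter.style.haveILetI false

namespace Cfsg.Agent.AltDoubleCent

open Equiv Equiv.Perm

universe u

variable {G : Type u} [Group G] {n : ℕ} {z : G} {F : Frame G n z}

/-- An element of order nine does not have a cube moving six points. -/
lemma nine_false {q : Perm (Fin n)} (h9 : q ^ 9 = 1) (h6 : (q ^ 3).support.card = 6) : False := by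
  obtain ⟨u, hu⟩ := Finset.card_pos.1 (show 0 < (q ^ 3).support.card by omega)
  have hmem : ∀ i : ℕ, (q ^ i) u ∈ (q ^ 3).support := fun i => by
    rw [Perm.mem_support, ← Perm.mul_apply, ← pow_add, add_comm, pow_add, Perm.mul_apply,
      (q ^ i).injective.ne_iff]
    exact Perm.mem_support.1 hu
  have hinj : Function.Injective fun i : Fin 9 => (⟨(q ^ i.val) u, hmem i⟩ : (q ^ 3).support) := by
    intro i j e
    by_contra hne
    have e' : (q ^ i.val) u = (q ^ j.val) u := congrArg Subtype.val e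
    have h9' : ∀ m : ℕ, q ^ m = q ^ (m % 9) := fun m => by
      conv_lhs => rw [← Nat.mod_add_div m 9, pow_add, pow_mul, h9, one_pow, mul_one]
    have hd : (q ^ (i.val + (9 - j.val))) u = u := by
      rw [add_comm, pow_add, Perm.mul_apply, e', ← Perm.mul_apply, ← pow_add,
        show 9 - j.val + j.val = 9 by omega, h9, Perm.one_apply]
    obtain ⟨k, hk⟩ := (show ∀ i j : Fin 9, i ≠ j → ∃ k : Fin 9, ((i.val + (9 - j.val)) * k.val) % 9 = 3 by
      decide +kernel) i j hne
    refine Perm.mem_support.1 hu ?_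
    rw [← hk, ← h9', pow_mul, Equiv.Perm.pow_apply_eq_self_of_apply_eq_self hd]
  have := Fintype.card_le_of_injective _ hinj
  rw [Fintype.card_fin, Fintype.card_coe, h6] at this
  omega

/-- Two commuting permutations of order three on at most ten points: not all products move six points. -/
lemma not_all_six (hn : n ≤ 10) {P R : Perm (Fin n)} (hP : P ^ 3 = 1) (hR : R ^ 3 = 1) (hc : Commute P R)
    (h0 : P.support.card = 6) (h : ∀ i : Fin 3, (R * P ^ i.val).support.card = 6) : False := by
  have hP3 : ∀ w, P (P (P w)) = w := fun w => by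
    show (P ^ 3) w = w
    rw [hP, Perm.one_apply]
  have hR3 : ∀ w, R (R (R w)) = w := fun w => by
    show (R ^ 3) w = w
    rw [hR, Perm.one_apply]
  have hcw : ∀ w, R (P w) = P (R w) := fun w => congrArg (fun r : Perm (Fin n) => r w) hc.eq.symm
  have triple : ∀ {T : Perm (Fin n)}, (∀ w, T (T (T w)) = w) → ∀ w, T w ≠ w →
      ({w, T w, T (T w)} : Finset (Fin n)).card = 3 := fun {T} h3 w hw => by
    rw [Finset.card_insert_of_notMem, Finset.card_insert_of_notMem, Finset.card_singleton]
    · simpa using fun e => hw (T.injective e).symm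
    · simp only [Finset.mem_insert, Finset.mem_singleton, not_or]
      refine ⟨fun e => hw e.symm, fun e => hw ?_⟩
      conv_lhs => rw [e, h3]
  obtain ⟨u, hu⟩ := Finset.card_pos.1 (show 0 < P.support.card by omega)
  set A1 : Finset (Fin n) := {u, P u, P (P u)} with hA1
  have hA1s : A1 ⊆ P.support := by
    intro w hw
    simp only [hA1, Finset.mem_insert, Finset.mem_singleton] at hw
    rcases hw with rfl | rfl | rfl
    · exact hu
    · exact Perm.apply_mem_support.2 hu
    · exact Perm.apply_mem_support.2 (Perm.apply_mem_support.2 hu)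
  have hA1c := triple hP3 u (Perm.mem_support.1 hu)
  obtain ⟨v, hv, hv'⟩ : ∃ v ∈ P.support, v ∉ A1 := by
    by_contra hcon
    push Not at hcon
    have := Finset.card_le_card hcon
    rw [hA1c] at this
    omega
  set A2 : Finset (Fin n) := {v, P v, P (P v)} with hA2
  have hA1inv : ∀ w, P w ∈ A1 → w ∈ A1 := fun w hw => by
    simp only [hA1, Finset.mem_insert, Finset.mem_singleton] at hw ⊢
    rcases hw with e | e | e
    · right; right; rw [← e, hP3]
    · left; exact P.injective e
    · right; left; exact P.injective e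
  have hdis : _root_.Disjoint A1 A2 := Finset.disjoint_left.2 fun w hw hw' => by
    simp only [hA2, Finset.mem_insert, Finset.mem_singleton] at hw'
    rcases hw' with rfl | rfl | rfl
    exacts [hv' hw, hv' (hA1inv _ hw), hv' (hA1inv _ (hA1inv _ hw))]
  have hA2c := triple hP3 v (Perm.mem_support.1 hv)
  have hcover : A1 ∪ A2 = P.support := Finset.eq_of_subset_of_card_le (Finset.union_subset hA1s fun w hw => by
      simp only [hA2, Finset.mem_insert, Finset.mem_singleton] at hw
      rcases hw with rfl | rfl | rfl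
      · exact hv
      · exact Perm.apply_mem_support.2 hv
      · exact Perm.apply_mem_support.2 (Perm.apply_mem_support.2 hv))
    (by rw [Finset.card_union_of_disjoint hdis, hA1c, hA2c, h0])
  have hRP : ∀ w, w ∈ P.support → R w ∈ P.support := fun w hw => by
    rw [Perm.mem_support] at hw ⊢
    rw [← hcw, R.injective.ne_iff]; exact hw
  -- each cycle is invariant
  have cyc : ∀ w w', w ∈ P.support → w' ∈ P.support → P.support ⊆ {w, P w, P (P w)} ∪ {w', P w', P (P w')} →
      ∃ i : Fin 3, R w = (P ^ i.val) w := by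
    intro w w' hw hw' hsub
    have hR' : ∀ t, R ((P ^ (0 : ℕ)) t) = R t := fun t => rfl
    have := hsub (hRP w hw)
    simp only [Finset.mem_union, Finset.mem_insert, Finset.mem_singleton] at this
    rcases this with (e | e | e) | h'
    · exact ⟨0, e⟩
    · exact ⟨1, by rw [e]; rfl⟩
    · exact ⟨2, by rw [e]; rfl⟩
    · exfalso
      obtain ⟨m, hm⟩ : ∃ m : ℕ, R w = (P ^ m) w' := by
        rcases h' with e | e | e
        exacts [⟨0, e⟩, ⟨1, by rw [e]; rfl⟩, ⟨2, by rw [e]; rfl⟩]
      have cm : ∀ (k : ℕ) t, R ((P ^ k) t) = (P ^ k) (R t) := fun k t =>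
        congrArg (fun r : Perm (Fin n) => r t) ((hc.pow_left k).symm.eq)
      have h2 := hsub (hRP _ (hRP w hw))
      simp only [Finset.mem_union, Finset.mem_insert, Finset.mem_singleton] at h2
      rcases h2 with h2 | h2
      · obtain ⟨k, hk⟩ : ∃ k : ℕ, R (R w) = (P ^ k) w := by
          rcases h2 with e | e | e
          exacts [⟨0, e⟩, ⟨1, by rw [e]; rfl⟩, ⟨2, by rw [e]; rfl⟩]
        have h3 := hR3 w
        rw [hk, cm, hm, ← Perm.mul_apply, ← pow_add] at h3
        -- then `w` lies on the cycle of `w'`, so `P.support` is one cycle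
        have hin : w ∈ ({w', P w', P (P w')} : Finset (Fin n)) := by
          have hmod : P ^ (k + m) = P ^ ((k + m) % 3) := by
            conv_lhs => rw [← Nat.mod_add_div (k + m) 3, pow_add, pow_mul, hP, one_pow, mul_one]
          rw [hmod] at h3
          simp only [Finset.mem_insert, Finset.mem_singleton]
          have : (k + m) % 3 = 0 ∨ (k + m) % 3 = 1 ∨ (k + m) % 3 = 2 := by omega
          rcases this with e | e | e <;> rw [e] at h3
          exacts [Or.inl h3.symm, Or.inr (Or.inl h3.symm), Or.inr (Or.inr h3.symm)]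
        have hsub2 : P.support ⊆ {w', P w', P (P w')} := fun t ht => by
          have := hsub ht
          simp only [Finset.mem_union, Finset.mem_insert, Finset.mem_singleton] at this hin ⊢
          rcases this with (rfl | rfl | rfl) | h
          · exact hin
          · rcases hin with rfl | rfl | rfl
            exacts [Or.inr (Or.inl rfl), Or.inr (Or.inr rfl), Or.inl (hP3 _)]
          · rcases hin with rfl | rfl | rfl
            exacts [Or.inr (Or.inr rfl), Or.inl (hP3 _), Or.inr (Or.inl (congrArg P (hP3 _)))]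
          · exact h
        have := Finset.card_le_card hsub2
        rw [triple hP3 w' (Perm.mem_support.1 hw'), h0] at this
        omega
      · obtain ⟨k, hk⟩ : ∃ k : ℕ, R (R w) = (P ^ k) w' := by
          rcases h2 with e | e | e
          exacts [⟨0, e⟩, ⟨1, by rw [e]; rfl⟩, ⟨2, by rw [e]; rfl⟩]
        -- two images on the other cycle
        rw [hm, cm] at hk
        have hw'' : ∃ l : ℕ, R w' = (P ^ l) w' := ⟨2 * m + k, by
          apply (P ^ m).injective
          rw [hk, ← Perm.mul_apply, ← pow_add, show m + (2 * m + k) = k + 3 * m by ring, pow_add, pow_mul, hP,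
            one_pow, mul_one]⟩
        obtain ⟨l, hl⟩ := hw''
        have h3 := hR3 w
        replace h3 : (P ^ (m + l + l)) w' = w := by
          have h1 : R (R w) = (P ^ (m + l)) w' := by rw [hm, cm, hl, ← Perm.mul_apply, ← pow_add]
          refine Eq.trans ?_ (hR3 w)
          rw [h1, cm, hl, ← Perm.mul_apply, ← pow_add]
        have hsub2 : P.support ⊆ {w', P w', P (P w')} := by
          have hin : w ∈ ({w', P w', P (P w')} : Finset (Fin n)) := by
            have hmod : P ^ (m + l + l) = P ^ ((m + l + l) % 3) := by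
              conv_lhs => rw [← Nat.mod_add_div (m + l + l) 3, pow_add, pow_mul, hP, one_pow, mul_one]
            rw [hmod] at h3
            simp only [Finset.mem_insert, Finset.mem_singleton]
            have : (m + l + l) % 3 = 0 ∨ (m + l + l) % 3 = 1 ∨ (m + l + l) % 3 = 2 := by omega
            rcases this with e | e | e <;> rw [e] at h3
            exacts [Or.inl h3.symm, Or.inr (Or.inl h3.symm), Or.inr (Or.inr h3.symm)]
          intro t ht
          have := hsub ht
          simp only [Finset.mem_union, Finset.mem_insert, Finset.mem_singleton] at this hin ⊢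
          rcases this with (rfl | rfl | rfl) | h
          · exact hin
          · rcases hin with rfl | rfl | rfl
            exacts [Or.inr (Or.inl rfl), Or.inr (Or.inr rfl), Or.inl (hP3 _)]
          · rcases hin with rfl | rfl | rfl
            exacts [Or.inr (Or.inr rfl), Or.inl (hP3 _), Or.inr (Or.inl (congrArg P (hP3 _)))]
          · exact h
        have := Finset.card_le_card hsub2
        rw [triple hP3 w' (Perm.mem_support.1 hw'), h0] at this
        omega
  obtain ⟨i, hi⟩ := cyc u v hu hv hcover.ge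
  obtain ⟨j, hj⟩ := cyc v u hv hu (by rw [Finset.union_comm]; exact hcover.ge)
  have act : ∀ (k : ℕ) (w : Fin n) (l : ℕ), R w = (P ^ l) w → ∀ m : ℕ,
      (R * P ^ k) ((P ^ m) w) = (P ^ (l + k + m)) w := fun k w l hl m => by
    rw [Perm.mul_apply, ← Perm.mul_apply (P ^ k), ← pow_add,
      show R ((P ^ (k + m)) w) = (P ^ (k + m)) (R w) from congrArg (fun r : Perm (Fin n) => r w) ((hc.pow_left _).symm.eq),
      hl, ← Perm.mul_apply, ← pow_add, show k + m + l = l + k + m by ring]
  have fixed : ∀ (k : Fin 3) (w : Fin n) (l : Fin 3), R w = (P ^ l.val) w → (l.val + k.val) % 3 = 0 →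
      ∀ t ∈ ({w, P w, P (P w)} : Finset (Fin n)), (R * P ^ k.val) t = t := by
    intro k w l hl hkl t ht
    have e : ∀ m : ℕ, P ^ (l.val + k.val + m) = P ^ m := fun m => by
      rw [← Nat.mod_add_div (l.val + k.val) 3, hkl, zero_add, pow_add, pow_mul, hP, one_pow, one_mul]
    simp only [Finset.mem_insert, Finset.mem_singleton] at ht
    rcases ht with rfl | rfl | rfl
    · exact (act k t l hl 0).trans (by rw [e]; rfl)
    · exact (act k w l hl 1).trans (by rw [e]; rfl)
    · exact (act k w l hl 2).trans (by rw [e]; rfl)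
  have moved : ∀ (k : Fin 3) (w : Fin n) (l : Fin 3), P w ≠ w → R w = (P ^ l.val) w → (l.val + k.val) % 3 ≠ 0 →
      ∀ t ∈ ({w, P w, P (P w)} : Finset (Fin n)), (R * P ^ k.val) t ≠ t := by
    intro k w l hw hl hkl t ht
    have hne : ∀ m : ℕ, (P ^ (l.val + k.val + m)) w ≠ (P ^ m) w := fun m e => by
      rw [add_comm, pow_add, Perm.mul_apply] at e
      have e' := (P ^ m).injective e
      rw [← Nat.mod_add_div (l.val + k.val) 3, pow_add, pow_mul, hP, one_pow, mul_one] at e'
      have : (l.val + k.val) % 3 = 1 ∨ (l.val + k.val) % 3 = 2 := by omega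
      rcases this with d | d <;> rw [d] at e'
      · exact hw (by simpa using e')
      · exact hw (by
          have := congrArg P e'
          rw [pow_two, Perm.mul_apply, hP3] at this
          exact this.symm)
    simp only [Finset.mem_insert, Finset.mem_singleton] at ht
    rcases ht with rfl | rfl | rfl
    · exact fun e' => hne 0 ((act k t l hl 0).symm.trans e')
    · exact fun e' => hne 1 ((act k w l hl 1).symm.trans e')
    · exact fun e' => hne 2 ((act k w l hl 2).symm.trans e')
  obtain ⟨i', hi'⟩ := (show ∀ i : Fin 3, ∃ k : Fin 3, (i.val + k.val) % 3 = 0 by decide) i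
  set R' := R * P ^ i'.val with hR'
  have hfix1 : ∀ t ∈ A1, R' t = t := fixed i' u i hi hi'
  have hij : (j.val + i'.val) % 3 ≠ 0 := by
    intro e
    have hsub : R'.support ⊆ (A1 ∪ A2)ᶜ := fun t ht => by
      rw [Perm.mem_support] at ht
      rw [Finset.mem_compl, Finset.mem_union, not_or]
      exact ⟨fun m => ht (hfix1 t m), fun m => ht (fixed i' v j hj e t m)⟩
    have := Finset.card_le_card hsub
    rw [Finset.card_compl, Fintype.card_fin, Finset.card_union_of_disjoint hdis, hA1c, hA2c, h i'] at this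
    omega
  obtain ⟨w, hw, hwA⟩ : ∃ w ∈ R'.support, w ∉ A2 := by
    by_contra hcon
    push Not at hcon
    have := Finset.card_le_card hcon
    rw [hA2c, h i'] at this
    omega
  have hwP : P w = w := by
    rw [← Perm.notMem_support, ← hcover, Finset.mem_union, not_or]
    exact ⟨fun m => Perm.mem_support.1 hw (hfix1 w m), hwA⟩
  have hRw : R w ≠ w := fun e => Perm.mem_support.1 hw (by
    show R ((P ^ i'.val) w) = w
    rw [Equiv.Perm.pow_apply_eq_self_of_apply_eq_self hwP, e])
  obtain ⟨k, hk1, hk2⟩ := (show ∀ i j : Fin 3, ∃ k : Fin 3, (i.val + k.val) % 3 ≠ 0 ∧ (j.val + k.val) % 3 ≠ 0 by decide) i j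
  have hfixR : ∀ t, P t = t → P (R t) = R t := fun t ht => by rw [← hcw, ht]
  set A3 : Finset (Fin n) := {w, R w, R (R w)} with hA3
  have hA3P : ∀ t ∈ A3, P t = t := fun t ht => by
    simp only [hA3, Finset.mem_insert, Finset.mem_singleton] at ht
    rcases ht with rfl | rfl | rfl
    exacts [hwP, hfixR _ hwP, hfixR _ (hfixR _ hwP)]
  have hsub : A1 ∪ A2 ∪ A3 ⊆ (R * P ^ k.val).support := by
    intro t ht
    rw [Perm.mem_support]
    simp only [Finset.mem_union] at ht
    rcases ht with (m | m) | m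
    · exact moved k u i (Perm.mem_support.1 hu) hi hk1 t m
    · exact moved k v j (Perm.mem_support.1 hv) hj hk2 t m
    · show R ((P ^ k.val) t) ≠ t
      rw [Equiv.Perm.pow_apply_eq_self_of_apply_eq_self (hA3P t m)]
      simp only [hA3, Finset.mem_insert, Finset.mem_singleton] at m
      rcases m with rfl | rfl | rfl
      · exact hRw
      · exact R.injective.ne hRw
      · exact R.injective.ne (R.injective.ne hRw)
  have hd3 : _root_.Disjoint (A1 ∪ A2) A3 := Finset.disjoint_left.2 fun t m m' => by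
    rw [hcover, Perm.mem_support] at m
    exact m (hA3P t m')
  have := Finset.card_le_card hsub
  rw [Finset.card_union_of_disjoint hd3, Finset.card_union_of_disjoint hdis, hA1c, hA2c, triple hR3 w hRw,
    h k] at this
  omega

namespace Elts

variable {S : Setup F} {x y a b c : G} (E : Elts S x y a b c) [Finite G]
  (hJ : ∀ w, InJ z a b w → w = 1)
include E hJ

/-- An element of order three commuting with `x` and rotating `z`, `y`, `z * y`. -/
theorem exists_rot : ∃ s : G, Commute s x ∧ s ^ 3 = 1 ∧ s * z * s⁻¹ = y ∧ s * y * s⁻¹ = z * y := by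
  haveI : Fact (Nat.Prime 3) := ⟨Nat.prime_three⟩
  obtain ⟨hy2, -, hyo, hyne⟩ := S.y_facts E.py E.yz
  have hyy := sq_of_orderOf_two hyo
  have hzy := E.yz.symm
  have hwo : orderOf (z * y) = 2 := orderOf_two_of_sq (by rw [hzy.symm.mul_mul_mul_comm, F.zz, hyy, one_mul])
    fun e => hyne (by rw [eq_inv_of_mul_eq_one_right e, F.z_inv])
  have hwne : z * y ≠ z := fun e => by
    rw [mul_eq_left] at e
    rw [e, orderOf_one] at hyo
    omega
  have hzx : Commute z x := E.xz.symm
  have step : ∀ {w : G}, Commute w z → orderOf w = 2 → w ≠ z → Commute w x →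
      ∃ g, Commute g x ∧ g * z * g⁻¹ = w ∧ (g * y * g⁻¹ = z ∨ g * (z * y) * g⁻¹ = z) := by
    intro w hw hw2 hwne hwx
    obtain ⟨h, hh, hhx⟩ := S.exists_h E.xz E.px E.x3 hw hw2 hwne hwx
    obtain ⟨k, hk, hkx, -, hke⟩ := S.invol_in_cx E.xz E.px E.yz E.py E.x3 (w := h⁻¹ * z * h)
      (by
        have := commute_conj hw.symm h⁻¹
        rwa [inv_inv, show h⁻¹ * w * h = z by rw [← hh]; group] at this)
      ((hhx.inv_left.mul_left hzx).mul_left hhx)
      (by rw [show h⁻¹ * z * h = h⁻¹ * z * h⁻¹⁻¹ by rw [inv_inv], orderOf_conj', F.orderOf_z])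
      (fun e => hwne (by rw [← hh]; conv_lhs => rw [← e]
                         group))
    refine ⟨h * k⁻¹, hhx.mul_left hkx.inv_left, ?_, ?_⟩
    · rw [show h * k⁻¹ * z * (h * k⁻¹)⁻¹ = h * (k⁻¹ * z * k) * h⁻¹ by group, hk.inv_left.eq, mul_assoc z,
        inv_mul_cancel, mul_one, hh]
    · rcases hke with e | e
      · exact Or.inl (by rw [← e]; group)
      · exact Or.inr (by rw [← e]; group)
  obtain ⟨g, hgx, hgz, hgy⟩ : ∃ g, Commute g x ∧ g * z * g⁻¹ = y ∧ g * y * g⁻¹ = z * y := by
    obtain ⟨g1, g1x, g1z, h1⟩ := step E.yz hyo hyne E.xy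
    have cm : ∀ (g p q : G), g * (p * q) * g⁻¹ = g * p * g⁻¹ * (g * q * g⁻¹) := fun g p q => by group
    rcases h1 with h1 | h1
    swap
    · refine ⟨g1, g1x, g1z, ?_⟩
      rw [cm, g1z, mul_eq_one_iff_eq_inv.1 (show z * z = 1 from F.zz)] at h1
      have : g1 * y * g1⁻¹ = y⁻¹ * z⁻¹ := eq_inv_mul_of_mul_eq h1
      rw [this, ← mul_inv_rev, inv_eq_of_mul_eq_one_right (show z * y * (z * y) = 1 from sq_of_orderOf_two hwo)]
    obtain ⟨g2, g2x, g2z, h2⟩ := step (hzy.symm.mul_left (Commute.refl z) |> fun _ => (Commute.refl z).mul_left E.yz)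
      hwo hwne (hzx.mul_left E.xy)
    rcases h2 with h2 | h2
    · -- the square of a three-cycle
      refine ⟨g2 * g2, g2x.mul_left g2x, ?_, ?_⟩
      · rw [show g2 * g2 * z * (g2 * g2)⁻¹ = g2 * (g2 * z * g2⁻¹) * g2⁻¹ by group, g2z, cm, g2z, h2,
          mul_assoc, E.yz.eq, ← mul_assoc, F.zz, one_mul]
      · rw [show g2 * g2 * y * (g2 * g2)⁻¹ = g2 * (g2 * y * g2⁻¹) * g2⁻¹ by group, h2, g2z]
    · have g2y : g2 * y * g2⁻¹ = y := by
        rw [cm, g2z] at h2
        have : g2 * y * g2⁻¹ = (z * y)⁻¹ * z := eq_inv_mul_of_mul_eq h2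
        rw [this, inv_eq_of_mul_eq_one_right (sq_of_orderOf_two hwo), mul_assoc, E.yz.eq, ← mul_assoc, F.zz, one_mul]
      refine ⟨g2 * g1, g2x.mul_left g1x, ?_, ?_⟩
      · rw [show g2 * g1 * z * (g2 * g1)⁻¹ = g2 * (g1 * z * g1⁻¹) * g2⁻¹ by group, g1z, g2y]
      · rw [show g2 * g1 * y * (g2 * g1)⁻¹ = g2 * (g1 * y * g1⁻¹) * g2⁻¹ by group, h1, g2z]
  -- the part of three-power order
  obtain ⟨e, r, hr, hm⟩ := Nat.exists_eq_pow_mul_and_not_dvd (isOfFinOrder_of_finite g).orderOf_pos.ne' 3 (by norm_num)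
  set s := g ^ (r * r) with hs
  have hrot : ∀ k : ℕ, k % 3 = 1 → g ^ k * z * (g ^ k)⁻¹ = y ∧ g ^ k * y * (g ^ k)⁻¹ = z * y := by
    have hgzy : g * (z * y) * g⁻¹ = z := by
      rw [show g * (z * y) * g⁻¹ = g * z * g⁻¹ * (g * y * g⁻¹) by group, hgz, hgy, ← mul_assoc, E.yz.eq,
        mul_assoc, hyy, mul_one]
    have h3z : g ^ 3 * z * (g ^ 3)⁻¹ = z ∧ g ^ 3 * y * (g ^ 3)⁻¹ = y := by
      constructor
      · rw [pow_three', show g * g * g * z * (g * g * g)⁻¹ = g * (g * (g * z * g⁻¹) * g⁻¹) * g⁻¹ by group, hgz, hgy, hgzy]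
      · rw [pow_three', show g * g * g * y * (g * g * g)⁻¹ = g * (g * (g * y * g⁻¹) * g⁻¹) * g⁻¹ by group, hgy, hgzy, hgz]
    intro k hk
    have hp : ∀ j : ℕ, Commute ((g ^ 3) ^ j) z ∧ Commute ((g ^ 3) ^ j) y := fun j =>
      ⟨(show Commute (g ^ 3) z from mul_inv_eq_iff_eq_mul.1 h3z.1).pow_left j,
        (show Commute (g ^ 3) y from mul_inv_eq_iff_eq_mul.1 h3z.2).pow_left j⟩
    rw [← Nat.mod_add_div k 3, hk, pow_add, pow_one, pow_mul]
    constructor
    · rw [show g * (g ^ 3) ^ (k / 3) * z * (g * (g ^ 3) ^ (k / 3))⁻¹ =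
        g * ((g ^ 3) ^ (k / 3) * z * ((g ^ 3) ^ (k / 3))⁻¹) * g⁻¹ by group, (hp _).1.eq, mul_inv_cancel_right, hgz]
    · rw [show g * (g ^ 3) ^ (k / 3) * y * (g * (g ^ 3) ^ (k / 3))⁻¹ =
        g * ((g ^ 3) ^ (k / 3) * y * ((g ^ 3) ^ (k / 3))⁻¹) * g⁻¹ by group, (hp _).2.eq, mul_inv_cancel_right, hgy]
  obtain ⟨sz, sy⟩ := hrot (r * r) (by
    rw [Nat.mul_mod]
    have : r % 3 = 1 ∨ r % 3 = 2 := by
      have : r % 3 ≠ 0 := fun h => hr (Nat.dvd_of_mod_eq_zero h)
      omega
    rcases this with h | h <;> rw [h])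
  have hsx : Commute s x := hgx.pow_left _
  have hs3 : s ^ (3 ^ e) = 1 := by
    rw [hs, ← pow_mul, show r * r * 3 ^ e = 3 ^ e * r * r by ring, ← hm, pow_mul, pow_orderOf_eq_one, one_pow]
  have hso : Odd (orderOf (s ^ 3)) := Odd.of_dvd_nat (Odd.pow (by decide : Odd 3))
    ((orderOf_pow_dvd 3).trans (orderOf_dvd_of_pow_eq_one hs3))
  have h3z : s ^ 3 * z * (s ^ 3)⁻¹ = z := by
    have hszy : s * (z * y) * s⁻¹ = z := by
      rw [show s * (z * y) * s⁻¹ = s * z * s⁻¹ * (s * y * s⁻¹) by group, sz, sy, ← mul_assoc, E.yz.eq, mul_assoc,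
        hyy, mul_one]
    rw [pow_three', show s * s * s * z * (s * s * s)⁻¹ = s * (s * (s * z * s⁻¹) * s⁻¹) * s⁻¹ by group, sz, sy, hszy]
  have h3y : s ^ 3 * y * (s ^ 3)⁻¹ = y := by
    calc s ^ 3 * y * (s ^ 3)⁻¹ = s ^ 3 * (s * z * s⁻¹) * (s ^ 3)⁻¹ := by rw [sz]
      _ = s * (s ^ 3 * z * (s ^ 3)⁻¹) * s⁻¹ := by rw [pow_three']; group
      _ = y := by rw [h3z, sz]
  refine ⟨s, hsx, ?_, sz, sy⟩
  have hnine : ∀ {t : G}, t ^ 3 = x ∨ t ^ 3 = x * x → t ^ 9 = 1 → IsPGroup 3 (Subgroup.zpowers t) := by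
    intro t _ h9
    intro v
    obtain ⟨i, hi⟩ := Subgroup.mem_zpowers_iff.1 v.2
    refine ⟨2, Subtype.ext ?_⟩
    show (v : G) ^ 3 ^ 2 = 1
    rw [← hi, ← zpow_natCast (t ^ i), ← zpow_mul, mul_comm, zpow_mul, zpow_natCast,
      show (3 : ℕ) ^ 2 = 9 by norm_num, h9, one_zpow]
  rcases S.cent_Vx E.xz E.px E.yz E.py E.x3 (mul_inv_eq_iff_eq_mul.1 h3z) (mul_inv_eq_iff_eq_mul.1 h3y)
    (hsx.pow_left 3) hso with h | h | h
  · exact h
  all_goals
    exfalso
    have h9 : s ^ 9 = 1 := by
      rw [show 9 = 3 * 3 from rfl, pow_mul, h]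
      first
        | exact E.x3
        | rw [(Commute.refl x).mul_pow, E.x3, one_mul]
    obtain ⟨k, hk⟩ := E.three_in_C hJ _ (hnine (by first | exact Or.inl h | exact Or.inr h) h9)
    have hsC := hk s (Subgroup.mem_zpowers s)
    have hcube : (k * s * k⁻¹) ^ 3 = k * s ^ 3 * k⁻¹ := conj_pow
    have hx1 : x ≠ 1 := fun e => by
      have := S.x_support E.px
      rw [e, F.p_one, support_one] at this
      simp at this
    have hF : Four x := ⟨z, y, F.orderOf_z, hyo, hyne.symm, hzy, hzx, E.xy⟩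
    have hF' : Four (s ^ 3) := by
      rw [h]
      first
        | exact hF
        | exact (show x * x = x⁻¹ from eq_inv_of_mul_eq_one_left (by rw [← pow_three', E.x3])) ▸ hF.inv
    have hne : s ^ 3 ≠ 1 := by
      rw [h]
      first
        | exact hx1
        | exact fun e => hx1 (by
            have := E.x3
            rwa [pow_three', e, one_mul] at this)
    have h6 := F.four_card S.hi (hsC.pow_left 3)
      (by rw [← pow_mul, show 3 * 3 = 9 from rfl, conj_pow, h9, mul_one, mul_inv_cancel])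
      (by rw [hcube]; simpa [conj_eq_one_iff] using hne) (by rw [hcube]; exact hF'.conj k)
    rw [F.p_pow hsC] at h6
    exact nine_false (by rw [← F.p_pow hsC, conj_pow, h9, mul_one, mul_inv_cancel, F.p_one]) h6

/-- Not all elements `t * x ^ i` are Four. -/
theorem not_all_four {t : G} (ht : Commute t x) (ht3 : t ^ 3 = 1) (hmove : t * z * t⁻¹ = y)
    (h : ∀ i : Fin 3, Four (t * x ^ i.val)) : False := by
  obtain ⟨-, -, hyo, hyne⟩ := S.y_facts E.py E.yz
  set Q := Subgroup.closure ({t, x} : Set G) with hQ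
  have hmul3 : ∀ i j : ℕ, (t ^ i * x ^ j) ^ 3 = 1 := fun i j => by
    rw [(ht.pow_pow i j).mul_pow, ← pow_mul, ← pow_mul, mul_comm i, mul_comm j, pow_mul, pow_mul, ht3, E.x3,
      one_pow, one_pow, one_mul]
  have hQp : IsPGroup 3 Q := by
    intro v
    obtain ⟨i, j, hij⟩ : ∃ i j : ℕ, (v : G) = t ^ i * x ^ j := by
      obtain ⟨w, hw⟩ := v
      show ∃ i j : ℕ, w = t ^ i * x ^ j
      induction hw using Subgroup.closure_induction with
      | mem p hp =>
        simp only [Set.mem_insert_iff, Set.mem_singleton_iff] at hp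
        rcases hp with rfl | rfl
        · exact ⟨1, 0, by simp⟩
        · exact ⟨0, 1, by simp⟩
      | one => exact ⟨0, 0, by simp⟩
      | mul p q _ _ ihp ihq =>
        obtain ⟨i, j, rfl⟩ := ihp
        obtain ⟨i', j', rfl⟩ := ihq
        exact ⟨i + i', j + j', by rw [((ht.symm.pow_pow j i')).mul_mul_mul_comm, pow_add, pow_add]⟩
      | inv p _ ih =>
        obtain ⟨i, j, rfl⟩ := ih
        refine ⟨2 * i, 2 * j, inv_eq_of_mul_eq_one_right ?_⟩
        rw [(ht.symm.pow_pow j (2 * i)).mul_mul_mul_comm, ← pow_add, ← pow_add, show i + 2 * i = 3 * i by ring,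
          show j + 2 * j = 3 * j by ring, pow_mul, pow_mul, ht3, E.x3, one_pow, one_pow, one_mul]
    exact ⟨1, Subtype.ext (by show (v : G) ^ 3 ^ 1 = 1; rw [pow_one, hij, hmul3])⟩
  obtain ⟨k, hk⟩ := E.three_in_C hJ Q hQp
  have htC := hk t (Subgroup.subset_closure (by simp))
  have hxC := hk x (Subgroup.subset_closure (by simp))
  have hx1 : x ≠ 1 := fun e => by
    have := S.x_support E.px
    rw [e, F.p_one, support_one] at this
    simp at this
  have hs1 : ∀ i : Fin 3, t * x ^ i.val ≠ 1 := fun i e => hyne (by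
    have : Commute (t * x ^ i.val) z := e ▸ Commute.one_left z
    have h2 : Commute t z := by
      have := this.mul_left ((E.xz.pow_left i.val).inv_left)
      rwa [mul_inv_cancel_right] at this
    rw [← hmove, h2.eq, mul_inv_cancel_right])
  have c3 : ∀ {v : G}, v ^ 3 = 1 → (k * v * k⁻¹) ^ 3 = 1 := fun hv => by rw [conj_pow, hv, mul_one, mul_inv_cancel]
  refine not_all_six S.hi (P := F.p (k * x * k⁻¹)) (R := F.p (k * t * k⁻¹))
    (by rw [← F.p_pow hxC, c3 E.x3, F.p_one]) (by rw [← F.p_pow htC, c3 ht3, F.p_one]) ?_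
    (F.four_card S.hi hxC (c3 E.x3) (by simpa [conj_eq_one_iff] using hx1)
      (Four.conj ⟨z, y, F.orderOf_z, hyo, hyne.symm, E.yz.symm, E.xz.symm, E.xy⟩ k)) fun i => ?_
  · show F.p _ * F.p _ = F.p _ * F.p _
    rw [← F.p_mul hxC htC, ← F.p_mul htC hxC, (commute_conj ht.symm k).eq]
  · rw [← F.p_pow hxC, ← F.p_mul htC (hxC.pow_left _), conj_pow,
      show k * t * k⁻¹ * (k * x ^ i.val * k⁻¹) = k * (t * x ^ i.val) * k⁻¹ by group]
    exact F.four_card S.hi (by
        rw [show k * (t * x ^ i.val) * k⁻¹ = k * t * k⁻¹ * (k * x ^ i.val * k⁻¹) by group, ← conj_pow]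
        exact htC.mul_left (hxC.pow_left _))
      (c3 (by rw [← pow_one t]; exact hmul3 1 i.val)) (by simpa [conj_eq_one_iff] using hs1 i) ((h i).conj k)

end Elts

end Cfsg.Agent.AltDoubleCent
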