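import Cfsg.Agent.Lib.AltDoubleCent.Frame
import Mathlib.GroupTheory.Perm.Cycle.Type

/-!
# Involutions and elements of order three of a frame

Main results: `Four`, `Frame.invol_conj`, `Frame.all_conj`, `Frame.odd_conj`, `Frame.four_card`.
-/

set_option autoImplicit false

namespace Cfsg.Agent.AltDoubleCent

open Equiv Equiv.Perm

universe u

variable {G : Type u} [Group G] {n : ℕ} {z : G}

/-- Two commuting involutions centralise `g`. -/
def Four (g : G) : Prop :=
  ∃ u v : G, orderOf u = 2 ∧ orderOf v = 2 ∧ u ≠ v ∧ Commute u v ∧ Commute u g ∧ Commute v g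

lemma orderOf_conj' (g x : G) : orderOf (g * x * g⁻¹) = orderOf x :=
  (SemiconjBy.conj_mk g x).orderOf_eq.symm

lemma commute_conj {x y : G} (h : Commute x y) (g : G) : Commute (g * x * g⁻¹) (g * y * g⁻¹) :=
  h.map (MulAut.conj g).toMonoidHom

lemma commute_conj_iff (x y g : G) : Commute (g * x * g⁻¹) (g * y * g⁻¹) ↔ Commute x y := by
  refine ⟨fun h => ?_, fun h => commute_conj h g⟩
  have := commute_conj h g⁻¹
  rwa [show g⁻¹ * (g * x * g⁻¹) * g⁻¹⁻¹ = x by group, show g⁻¹ * (g * y * g⁻¹) * g⁻¹⁻¹ = y by group] at this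

lemma Four.conj {g : G} (h : Four g) (k : G) : Four (k * g * k⁻¹) := by
  obtain ⟨u, v, hu, hv, hne, huv, hug, hvg⟩ := h
  exact ⟨_, _, (orderOf_conj' k u).trans hu, (orderOf_conj' k v).trans hv,
    fun e => hne (mul_left_cancel (mul_right_cancel e)), commute_conj huv k, commute_conj hug k, commute_conj hvg k⟩

lemma Four.of_conj {g k : G} (h : Four (k * g * k⁻¹)) : Four g := by
  have := h.conj k⁻¹
  rwa [show k⁻¹ * (k * g * k⁻¹) * k⁻¹⁻¹ = g by group] at this

lemma Four.inv {g : G} (h : Four g) : Four g⁻¹ := by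
  obtain ⟨u, v, hu, hv, hne, huv, hug, hvg⟩ := h
  exact ⟨u, v, hu, hv, hne, huv, hug.inv_right, hvg.inv_right⟩

lemma orderOf_two_of_sq {g : G} (h : g * g = 1) (h1 : g ≠ 1) : orderOf g = 2 :=
  haveI : Fact (Nat.Prime 2) := ⟨Nat.prime_two⟩
  orderOf_eq_prime (by rw [pow_two, h]) h1

lemma sq_of_orderOf_two {g : G} (h : orderOf g = 2) : g * g = 1 := by
  rw [← pow_two, ← h, pow_orderOf_eq_one]

/-- A transposition inside a block of an involution commutes with it. -/
lemma commute_block_swap {σ : Perm (Fin n)} (h : σ * σ = 1) (a : Fin n) : Commute (swap a (σ a)) σ := by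
  have h2 : σ (σ a) = a := by rw [← Perm.mul_apply, h, Perm.one_apply]
  have e : σ * swap a (σ a) * σ⁻¹ = swap a (σ a) := by
    rw [← swap_apply_apply, h2, swap_comm]
  exact (mul_inv_eq_iff_eq_mul.1 e).symm

/-- Conjugate involutions are conjugate by an even permutation. -/
lemma exists_even_conj_invol {σ ρ : Perm (Fin n)} (hσ : σ * σ = 1) (hρ : ρ * ρ = 1)
    (e : σ.support.card = ρ.support.card) (hne : 0 < σ.support.card) :
    ∃ τ : Perm (Fin n), sign τ = 1 ∧ τ * σ * τ⁻¹ = ρ := by
  obtain ⟨τ, hτ⟩ := isConj_of_invol hσ hρ e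
  rcases Int.units_eq_one_or (sign τ) with ht | ht
  · exact ⟨τ, ht, hτ⟩
  · obtain ⟨a, ha⟩ := Finset.card_pos.1 hne
    rw [Perm.mem_support] at ha
    refine ⟨τ * swap a (σ a), by rw [map_mul, ht, sign_swap ha.symm]; decide, ?_⟩
    rw [mul_inv_rev, swap_inv]
    calc τ * swap a (σ a) * σ * (swap a (σ a) * τ⁻¹)
        = τ * (swap a (σ a) * σ * swap a (σ a)) * τ⁻¹ := by simp only [mul_assoc]
      _ = ρ := by rw [(commute_block_swap hσ a).eq, mul_assoc σ, swap_mul_self, mul_one, hτ]

namespace Frame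

variable (F : Frame G n z)

include F in
lemma zc {g : G} (hg : Commute g z) : Commute z g := hg.symm

lemma commute_z_of_comm_mul {g k : G} (hg : Commute g z) (hk : Commute k z) : Commute (g * k) z := hg.mul_left hk

include F in
lemma conj_z {g k : G} (hg : Commute g z) (hk : Commute k z) : Commute (g * k * g⁻¹) z :=
  (hg.mul_left hk).mul_left hg.inv_left

/-- An element whose image is an involution moving eight points is an involution. -/
lemma sq_eight {g : G} (hg : Commute g z) (h2 : F.p g * F.p g = 1) (h8 : (F.p g).support.card = 8) :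
    g * g = 1 := by
  rw [F.p_eq hg] at h2 h8
  obtain ⟨k, hk, hk2⟩ := F.dc.invol_support_aux _ _ h2 rfl
  have : k = 2 := by omega
  subst this
  rw [pow_two, F.dc.zz] at hk2
  exact congrArg Subtype.val hk2

lemma orderOf_eight {g : G} (hg : Commute g z) (h2 : F.p g * F.p g = 1) (h8 : (F.p g).support.card = 8) :
    orderOf g = 2 := by
  refine orderOf_two_of_sq (F.sq_eight hg h2 h8) fun e => ?_
  rw [e, F.p_one, support_one] at h8
  simp at h8

lemma ne_z_eight {g : G} (h8 : (F.p g).support.card = 8) : g ≠ z := fun e => by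
  rw [e, F.p_z, support_one] at h8
  simp at h8

/-- Lifts of two commuting eight point involutions with such a product commute. -/
lemma commute_eight {u v : G} (hu : Commute u z) (hv : Commute v z) (hu2 : F.p u * F.p u = 1)
    (hu8 : (F.p u).support.card = 8) (hv2 : F.p v * F.p v = 1) (hv8 : (F.p v).support.card = 8)
    (h2 : F.p u * F.p v * (F.p u * F.p v) = 1) (h8 : (F.p u * F.p v).support.card = 8) : Commute u v := by
  have h := F.sq_eight (hu.mul_left hv) (by rw [F.p_mul hu hv]; exact h2) (by rw [F.p_mul hu hv]; exact h8)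
  have eu := inv_eq_of_mul_eq_one_right (F.sq_eight hu hu2 hu8)
  have ev := inv_eq_of_mul_eq_one_right (F.sq_eight hv hv2 hv8)
  show u * v = v * u
  rw [eq_inv_of_mul_eq_one_left h, mul_inv_rev, eu, ev]

/-- A lift of a double transposition conjugates an involution to its product with `z` when their product
moves eight points. -/
lemma anti_eight {u k : G} (hu : Commute u z) (hk : Commute k z) (hu2 : F.p u * F.p u = 1)
    (hu8 : (F.p u).support.card = 8) (dk : Dbl (F.p k)) (hc : Commute (F.p u) (F.p k))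
    (h8 : (F.p u * F.p k).support.card = 8) : k * u * k⁻¹ = z * u := by
  rcases F.comm_or hk hu hc.symm with e | e
  · exfalso
    have h := F.sq_eight (hu.mul_left hk) (by
      rw [F.p_mul hu hk, hc.symm.mul_mul_mul_comm, hu2, dbl_mul_self dk, one_mul])
      (by rw [F.p_mul hu hk]; exact h8)
    rw [(show Commute k u from e).mul_mul_mul_comm, F.sq_eight hu hu2 hu8, F.sq_double hk dk, one_mul] at h
    exact F.z_ne h
  · rw [e, ← mul_assoc, mul_inv_cancel_right]

include F in
/-- All involutions of the centraliser other than `z` are conjugate there. -/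
theorem invol_conj (hn : n < 16) {y w : G} (hy : Commute y z) (hw : Commute w z) (hy2 : orderOf y = 2)
    (hw2 : orderOf w = 2) (hyz : y ≠ z) (hwz : w ≠ z) : ∃ g, Commute g z ∧ g * y * g⁻¹ = w := by
  obtain ⟨s1, d1, p1⟩ := F.invol_support hy hy2 hyz
  obtain ⟨s2, d2, p2⟩ := F.invol_support hw hw2 hwz
  have l1 := (Finset.card_le_univ (F.p y).support).trans_eq (Fintype.card_fin n)
  have l2 := (Finset.card_le_univ (F.p w).support).trans_eq (Fintype.card_fin n)
  obtain ⟨τ, hτ, e⟩ := exists_even_conj_invol s1 s2 (by omega) p1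
  obtain ⟨u, hu, hπu⟩ := F.exists_lift hτ
  rcases F.eq_or (F.conj_z hu hy) hw (by rw [F.p_conj hu hy, hπu, e]) with e' | e'
  · exact ⟨u, hu, e'⟩
  set σ := F.p w with hσ
  have hinv : ∀ x, σ (σ x) = x := fun x => by rw [← Perm.mul_apply, s2, Perm.one_apply]
  obtain ⟨a, ha⟩ := Finset.card_pos.1 p2
  rw [Perm.mem_support] at ha
  obtain ⟨c, hc, hc'⟩ := exists_notMem_support (σ := σ) (s := {a, σ a}) (by
    have := Finset.card_le_two (a := a) (b := σ a); omega)
  rw [Perm.mem_support] at hc
  simp only [Finset.mem_insert, Finset.mem_singleton, not_or] at hc'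
  obtain ⟨hca, hcb⟩ := hc'
  have hda : σ c ≠ a := fun e => hcb (by rw [← e, hinv])
  have hdb : σ c ≠ σ a := fun e => hca (σ.injective e)
  have hdbl : Dbl (swap a c * swap (σ a) (σ c)) :=
    ⟨a, c, σ a, σ c, Ne.symm hca, Ne.symm hdb, ha.symm, hda.symm, hcb, hc.symm, rfl⟩
  obtain ⟨k, hk, hπk⟩ := F.exists_lift (sign_dbl hdbl)
  obtain ⟨va, vb, vc, vd, vx⟩ := dbl_values (Ne.symm hca) (Ne.symm hdb) ha.symm hda.symm hcb hc.symm
  have hcomm : Commute σ (F.p k) := Equiv.ext fun x => by
    show σ (F.p k x) = F.p k (σ x)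
    rw [hπk]
    by_cases x1 : x = a
    · rw [x1, va, vc]
    by_cases x2 : x = c
    · rw [x2, vb, vd]
    by_cases x3 : x = σ a
    · rw [x3, vc, hinv, hinv, va]
    by_cases x4 : x = σ c
    · rw [x4, vd, hinv, hinv, vb]
    rw [vx x x1 x2 x3 x4, vx (σ x) (fun e => x3 (by rw [← e, hinv])) (fun e => x4 (by rw [← e, hinv]))
      (σ.injective.ne x1) (σ.injective.ne x2)]
  have h8 : (σ * F.p k).support = σ.support := by
    ext x
    rw [Perm.mem_support, Perm.mem_support, Perm.mul_apply, hπk]
    by_cases x1 : x = a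
    · simp only [x1, va]
      exact iff_of_true hda ha
    by_cases x2 : x = c
    · simp only [x2, vb]
      exact iff_of_true (fun e => hcb e.symm) hc
    by_cases x3 : x = σ a
    · simp only [x3, vc, hinv]
      exact iff_of_true hcb ha.symm
    by_cases x4 : x = σ c
    · simp only [x4, vd, hinv]
      exact iff_of_true hda.symm hc.symm
    rw [vx x x1 x2 x3 x4]
  refine ⟨k * u, hk.mul_left hu, ?_⟩
  have hk' := F.anti_eight hw hk s2 (by rw [← hσ]; omega) (hπk ▸ hdbl) hcomm (by rw [← hσ, h8]; omega)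
  calc k * u * y * (k * u)⁻¹ = k * (u * y * u⁻¹) * k⁻¹ := by group
    _ = (k * z * k⁻¹) * (k * w * k⁻¹) := by rw [e']; group
    _ = w := by rw [hk.eq, mul_inv_cancel_right, hk', ← mul_assoc, F.zz, one_mul]
where
  exists_notMem_support {σ : Perm (Fin n)} {s : Finset (Fin n)} (h : s.card < σ.support.card) :
      ∃ x ∈ σ.support, x ∉ s := by
    by_contra hcon
    push Not at hcon
    exact absurd (Finset.card_le_card hcon) (not_le.2 h)

include F in
/-- With one fusion every involution of the centraliser is conjugate to `z`. -/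
theorem all_conj (hn : n < 16) {y : G} (hy : Commute y z) (hyz : y ≠ z) (hc : IsConj z y) {w : G}
    (hw : Commute w z) (hw2 : orderOf w = 2) : IsConj z w := by
  by_cases e : w = z
  · rw [e]
  obtain ⟨g, hg⟩ := isConj_iff.1 hc
  obtain ⟨k, -, hk⟩ := F.invol_conj hn hy hw (by rw [← hg, orderOf_conj', F.orderOf_z]) hw2 hyz e
  exact hc.trans (isConj_iff.2 ⟨k, hk⟩)

/-- Odd elements with conjugate images are conjugate in the centraliser if two points are fixed. -/
theorem odd_conj {g k : G} (hg : Commute g z) (hk : Commute k z) (og : Odd (orderOf g)) (ok : Odd (orderOf k))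
    (e : (F.p g).cycleType = (F.p k).cycleType) (hfix : (F.p g).support.card + 2 ≤ n) :
    ∃ c, Commute c z ∧ c * g * c⁻¹ = k := by
  obtain ⟨τ, hτ⟩ := isConj_iff.1 (isConj_iff_cycleType_eq.2 e)
  obtain ⟨τ', hτ', hτe⟩ : ∃ τ' : Perm (Fin n), sign τ' = 1 ∧ τ' * F.p g * τ'⁻¹ = F.p k := by
    rcases Int.units_eq_one_or (sign τ) with ht | ht
    · exact ⟨τ, ht, hτ⟩
    · obtain ⟨a, ha, b, hb, hab⟩ := Finset.one_lt_card.1 (show 1 < (F.p g).supportᶜ.card by
        rw [Finset.card_compl, Fintype.card_fin]; omega)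
      rw [Finset.mem_compl, Perm.mem_support, not_not] at ha hb
      refine ⟨τ * swap a b, by rw [map_mul, ht, sign_swap hab]; decide, ?_⟩
      have hc : Commute (F.p g) (swap a b) :=
        mul_inv_eq_iff_eq_mul.1 (by rw [← swap_apply_apply, ha, hb])
      rw [mul_inv_rev, swap_inv]
      calc τ * swap a b * F.p g * (swap a b * τ⁻¹)
          = τ * (swap a b * F.p g * swap a b) * τ⁻¹ := by simp only [mul_assoc]
        _ = F.p k := by rw [← hc.eq, mul_assoc (F.p g), swap_mul_self, mul_one, hτ]
  obtain ⟨c, hc, hπc⟩ := F.exists_lift hτ'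
  exact ⟨c, hc, F.eq_of_odd (F.conj_z hc hg) hk (by rwa [orderOf_conj']) ok (by rw [F.p_conj hc hg, hπc, hτe])⟩

/-- An element moving an odd number of points by three-cycles commutes with no other involution. -/
theorem unique_of_odd_support (hn : n ≤ 10) {g : G} (hg : Commute g z) (h3 : F.p g ^ 3 = 1)
    (hodd : Odd (F.p g).support.card) {w : G} (hw2 : orderOf w = 2) (hwg : Commute w g) (hwz : Commute w z) :
    w = z := by
  by_contra hne
  obtain ⟨hs, h8, hpos⟩ := F.invol_support hwz hw2 hne
  set σ := F.p w with hσ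
  set ρ := F.p g with hρ
  have hc : ∀ x, σ (ρ x) = ρ (σ x) := fun x => by
    have e := congrArg F.p hwg.eq
    rw [F.p_mul hwz hg, F.p_mul hg hwz] at e
    exact congrArg (fun q : Perm (Fin n) => q x) e
  have hmem : ∀ x, σ x ∈ ρ.support ↔ x ∈ ρ.support := fun x => by
    rw [Perm.mem_support, Perm.mem_support, ← hc, σ.injective.ne_iff]
  haveI : Fact (Nat.Prime 2) := ⟨Nat.prime_two⟩
  obtain ⟨⟨x, hx⟩, hfx⟩ := exists_fixed_point_of_prime (p := 2) (n := 1)
    (σ := σ.subtypePerm hmem) (by rw [Fintype.card_coe]; exact hodd.not_two_dvd_nat) (Equiv.ext fun a => Subtype.ext (by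
      show σ (σ a) = a
      rw [← Perm.mul_apply, hs, Perm.one_apply]))
  have hfx' : σ x = x := congrArg Subtype.val hfx
  rw [Perm.mem_support] at hx
  have hρρ : ρ (ρ x) ≠ x := fun e => hx (by
    calc ρ x = ρ (ρ (ρ x)) := by rw [e]
      _ = (ρ ^ 3) x := rfl
      _ = x := by rw [h3, Perm.one_apply])
  have hsub : σ.support ⊆ ({x, ρ x, ρ (ρ x)} : Finset (Fin n))ᶜ := by
    intro a ha
    rw [Perm.mem_support] at ha
    simp only [Finset.mem_compl, Finset.mem_insert, Finset.mem_singleton, not_or]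
    exact ⟨fun e => ha (by rw [e, hfx']), fun e => ha (by rw [e, hc, hfx']),
      fun e => ha (by rw [e, hc, hc, hfx'])⟩
  have hl := Finset.card_le_card hsub
  rw [Finset.card_compl, Fintype.card_fin] at hl
  have h3' : ({x, ρ x, ρ (ρ x)} : Finset (Fin n)).card = 3 := by
    rw [Finset.card_insert_of_notMem, Finset.card_insert_of_notMem, Finset.card_singleton]
    · simpa using fun e => hx (ρ.injective e).symm
    · simp only [Finset.mem_insert, Finset.mem_singleton, not_or]
      exact ⟨fun e => hx e.symm, fun e => hρρ e.symm⟩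
  omega

include F in
/-- A Four element of order three moves six points. -/
theorem four_card [Finite G] (hn : n ≤ 10) {g : G} (hg : Commute g z) (h3 : g ^ 3 = 1) (h1 : g ≠ 1)
    (hF : Four g) : (F.p g).support.card = 6 := by
  have h3' : F.p g ^ 3 = 1 := by rw [← F.p_pow hg, h3, F.p_one]
  by_contra hne
  have hodd : Odd (F.p g).support.card := by
    haveI : Fact (Nat.Prime 3) := ⟨Nat.prime_three⟩
    have e := cycleType_of_pow_prime_eq_one h3'
    have hs := sum_cycleType (F.p g)
    rw [e, Multiset.sum_replicate, smul_eq_mul] at hs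
    have hle := (Finset.card_le_univ (F.p g).support).trans_eq (Fintype.card_fin n)
    have hpos : (F.p g).support.card ≠ 0 := fun e0 => by
      rw [Finset.card_eq_zero, support_eq_empty_iff] at e0
      rcases (F.ker hg).1 e0 with e' | e'
      · exact h1 e'
      · rw [e', pow_succ, pow_two, F.zz, one_mul] at h3
        exact F.z_ne h3
    rw [← hs] at hne hpos hle ⊢
    have hlt : Multiset.card (F.p g).cycleType < 4 := by omega
    interval_cases (Multiset.card (F.p g).cycleType) <;> first | omega | decide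
  obtain ⟨u, v, hu, hv, huv, hc, hug, hvg⟩ := hF
  exact huv (F.unique_commute hg.symm (fun w h2 h3 h4 => F.unique_of_odd_support hn hg h3' hodd h2 h3 h4)
    hu hv hug hvg hc)

end Frame

end Cfsg.Agent.AltDoubleCent
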