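import Mathlib.GroupTheory.Perm.Sign
import Mathlib.GroupTheory.Perm.Support
import Mathlib.Data.Fin.VecNotation
import Mathlib.Tactic.FinCases

/-!
# Finite computations for four commuting involutions

Main results: `ext8`, `cand_of_conds`, `phi`, `lin`, `pair_case`, `bad_signs`.
-/

set_option autoImplicit false

namespace Cfsg.Agent.AltDoubleCent

open Equiv Equiv.Perm

/-- The extension to more points. -/
def ext8fun {n : ℕ} (h : 8 ≤ n) (p : Perm (Fin 8)) (k : Fin n) : Fin n :=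
  if hk : k.val < 8 then Fin.castLE h (p ⟨k.val, hk⟩) else k

lemma ext8fun_mul {n : ℕ} (h : 8 ≤ n) (p q : Perm (Fin 8)) (k : Fin n) :
    ext8fun h p (ext8fun h q k) = ext8fun h (p * q) k := by
  by_cases hk : k.val < 8 <;> simp [ext8fun, hk]

lemma ext8fun_one {n : ℕ} (h : 8 ≤ n) (k : Fin n) : ext8fun h 1 k = k := by
  by_cases hk : k.val < 8 <;> simp [ext8fun, hk]

/-- Permutations of eight points act on the first eight of `n` points. -/
def ext8 {n : ℕ} (h : 8 ≤ n) : Perm (Fin 8) →* Perm (Fin n) where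
  toFun p :=
    { toFun := ext8fun h p
      invFun := ext8fun h p⁻¹
      left_inv := fun k => by rw [ext8fun_mul, inv_mul_cancel, ext8fun_one]
      right_inv := fun k => by rw [ext8fun_mul, mul_inv_cancel, ext8fun_one] }
  map_one' := Equiv.ext (ext8fun_one h)
  map_mul' p q := Equiv.ext fun k => (ext8fun_mul h p q k).symm

lemma ext8_apply {n : ℕ} (h : 8 ≤ n) (p : Perm (Fin 8)) (k : Fin 8) :
    ext8 h p (Fin.castLE h k) = Fin.castLE h (p k) := by
  show ext8fun h p _ = _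
  simp [ext8fun]

lemma ext8_apply_ge {n : ℕ} (h : 8 ≤ n) (p : Perm (Fin 8)) (k : Fin n) (hk : 8 ≤ k.val) : ext8 h p k = k :=
  dif_neg (by omega)

lemma ext8_injective {n : ℕ} (h : 8 ≤ n) : Function.Injective (ext8 h) := fun p q e =>
  Equiv.ext fun k => Fin.castLE_injective h (by rw [← ext8_apply h p k, e, ext8_apply])

lemma ext8_swap {n : ℕ} (h : 8 ≤ n) (a b : Fin 8) :
    ext8 h (swap a b) = swap (Fin.castLE h a) (Fin.castLE h b) := Equiv.ext fun k => by
  by_cases hk : k.val < 8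
  · obtain ⟨j, rfl⟩ : ∃ j, Fin.castLE h j = k := ⟨⟨k.val, hk⟩, rfl⟩
    rw [ext8_apply]
    exact (Fin.castLE_injective h).swap_apply a b j |>.symm
  · rw [ext8_apply_ge h _ k (by omega), swap_apply_of_ne_of_ne]
    · exact fun e => hk (by rw [e]; exact a.isLt)
    · exact fun e => hk (by rw [e]; exact b.isLt)

lemma sign_ext8 {n : ℕ} (h : 8 ≤ n) (p : Perm (Fin 8)) : sign (ext8 h p) = sign p := by
  refine swap_induction_on p (by simp) fun f x y hxy ih => ?_
  rw [map_mul, map_mul, map_mul, ih, ext8_swap, sign_swap hxy,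
    sign_swap ((Fin.castLE_injective h).ne hxy)]

lemma support_ext8 {n : ℕ} (h : 8 ≤ n) (p : Perm (Fin 8)) :
    (ext8 h p).support.card = p.support.card := by
  rw [← Finset.card_map (Fin.castLEEmb h) (s := p.support)]
  congr 1
  ext k
  rw [Perm.mem_support, Finset.mem_map]
  constructor
  · intro hk
    have hk8 : k.val < 8 := by
      by_contra hc
      exact hk (ext8_apply_ge h p k (by omega))
    obtain ⟨j, rfl⟩ : ∃ j, Fin.castLE h j = k := ⟨⟨k.val, hk8⟩, rfl⟩
    exact ⟨j, Perm.mem_support.2 fun e => hk (by rw [ext8_apply, e]), rfl⟩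
  · rintro ⟨j, hj, rfl⟩
    rw [Fin.castLEEmb_apply, ext8_apply]
    exact fun e => Perm.mem_support.1 hj (Fin.castLE_injective h e)

/-- A permutation of `n` points fixing all points from the eighth on is an extension. -/
lemma exists_ext8 {n : ℕ} (h : 8 ≤ n) (p : Perm (Fin n)) (hp : ∀ k : Fin n, 8 ≤ k.val → p k = k) :
    ∃ q : Perm (Fin 8), p = ext8 h q := by
  have hlt : ∀ j : Fin 8, (p (Fin.castLE h j)).val < 8 := fun j => by
    by_contra hc
    have e := p.injective (hp _ (not_lt.1 hc))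
    rw [e] at hc
    exact hc j.isLt
  let f : Fin 8 → Fin 8 := fun j => ⟨_, hlt j⟩
  have hf : Function.Bijective f := Finite.injective_iff_bijective.1 fun a b e => by
    have e' : (p (Fin.castLE h a)).val = (p (Fin.castLE h b)).val := congrArg (fun j : Fin 8 => j.val) e
    exact Fin.castLE_injective h (p.injective (Fin.ext e'))
  refine ⟨Equiv.ofBijective f hf, Equiv.ext fun k => ?_⟩
  by_cases hk : k.val < 8
  · obtain ⟨j, rfl⟩ : ∃ j, Fin.castLE h j = k := ⟨⟨k.val, hk⟩, rfl⟩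
    rw [ext8_apply]
    rfl
  · rw [hp k (by omega), ext8_apply_ge h _ k (by omega)]

/-- `(012)(345)`. -/
def qX : Perm (Fin 8) where
  toFun := ![1, 2, 0, 4, 5, 3, 6, 7]
  invFun := ![2, 0, 1, 5, 3, 4, 6, 7]
  left_inv := by decide +kernel
  right_inv := by decide +kernel

/-- An involution from its table. -/
def invPerm (f : Fin 8 → Fin 8) (h : ∀ k, f (f k) = k := by decide +kernel) : Perm (Fin 8) :=
  ⟨f, f, h, h⟩

/-- `(03)(14)(25)(67)`. -/
def qS : Perm (Fin 8) := invPerm ![3, 4, 5, 0, 1, 2, 7, 6]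

/-- `(01)(34)(26)(57)`. -/
def qV : Perm (Fin 8) := invPerm ![1, 0, 6, 4, 3, 7, 2, 5]

/-- `(01)(34)(27)(56)`. -/
def qW : Perm (Fin 8) := invPerm ![1, 0, 7, 4, 3, 6, 5, 2]

/-- `(26)(57)`. -/
def qT : Perm (Fin 8) := invPerm ![0, 1, 6, 3, 4, 7, 2, 5]

/-- `(34)(57)`. -/
def qT2 : Perm (Fin 8) := invPerm ![0, 1, 2, 4, 3, 7, 6, 5]

/-- `(25)(67)`. -/
def qT3 : Perm (Fin 8) := invPerm ![0, 1, 5, 3, 4, 2, 7, 6]

/-- The table of a permutation commuting with `qS`. -/
def tblS (a b c d : Fin 8) (k : Fin 8) : Fin 8 := ![a, b, c, qS a, qS b, qS c, d, qS d] k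

/-- The number of moved points. -/
def moved (f : Fin 8 → Fin 8) : ℕ := (List.finRange 8).countP fun k => f k != k

lemma moved_eq (p : Perm (Fin 8)) : moved p = p.support.card := by
  have : moved p = ((List.finRange 8).filter fun k => p k != k).length := List.countP_eq_length_filter
  rw [this, ← List.toFinset_card_of_nodup ((List.nodup_finRange 8).filter _)]
  congr 1
  ext k
  simp [Perm.mem_support]

/-- The conjugate of a table by `qX`. -/
def cjX (f : Fin 8 → Fin 8) (k : Fin 8) : Fin 8 := qX (f (qX⁻¹ k))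

theorem cand_table : ∀ a b c d : Fin 8,
    (∀ k, tblS a b c d (tblS a b c d k) = k) → moved (tblS a b c d) = 8 →
      (∀ k, tblS a b c d (cjX (tblS a b c d) (cjX (cjX (tblS a b c d)) k)) = k) →
      moved (fun k => tblS a b c d (cjX (tblS a b c d) k)) = 8 →
      moved (fun k => qS (tblS a b c d k)) = 8 →
    (a, b, c, d) ∈ [(1, 0, 6, 2), (1, 0, 7, 5), (2, 6, 0, 1), (2, 7, 0, 4), (6, 2, 1, 0), (7, 2, 1, 3)] := by
  decide +kernel

/-- The involutions that may span an invariant elementary subgroup with `qS`. -/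
theorem cand_of_conds (p : Perm (Fin 8)) (h2 : p * p = 1) (hc : Commute p qS) (h8 : p.support.card = 8)
    (hx : p * (qX * p * qX⁻¹) * (qX * (qX * p * qX⁻¹) * qX⁻¹) = 1)
    (hx8 : (p * (qX * p * qX⁻¹)).support.card = 8) (hs8 : (qS * p).support.card = 8) :
    p ∈ [qV, qX * qV * qX⁻¹, qX * (qX * qV * qX⁻¹) * qX⁻¹, qW, qX * qW * qX⁻¹,
      qX * (qX * qW * qX⁻¹) * qX⁻¹] := by
  have e : (p : Fin 8 → Fin 8) = tblS (p 0) (p 1) (p 2) (p 6) := by
    funext k
    have hk : ∀ j, p (qS j) = qS (p j) := fun j => congrArg (fun q : Perm (Fin 8) => q j) hc.eq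
    fin_cases k <;> (first | rfl | exact hk 0 | exact hk 1 | exact hk 2 | exact hk 6)
  have hmul : ∀ q r : Perm (Fin 8), moved (fun k => q (r k)) = (q * r).support.card := fun q r =>
    moved_eq (q * r)
  have := cand_table (p 0) (p 1) (p 2) (p 6)
    (fun k => by rw [← e]; exact congrArg (fun q : Perm (Fin 8) => q k) h2)
    (by rw [← e, moved_eq, h8])
    (fun k => by rw [← e]; exact congrArg (fun q : Perm (Fin 8) => q k) hx)
    (by rw [← e]; exact (hmul p (qX * p * qX⁻¹)).trans hx8)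
    (by rw [← e]; exact (hmul qS p).trans hs8)
  have ext' : ∀ q : Perm (Fin 8), (∀ k, tblS (p 0) (p 1) (p 2) (p 6) k = q k) → p = q := fun q h =>
    Equiv.ext fun k => by rw [← h k, ← e]
  simp only [List.mem_cons, Prod.mk.injEq, List.not_mem_nil, or_false] at this ⊢
  rcases this with ⟨a, b, c, d⟩ | ⟨a, b, c, d⟩ | ⟨a, b, c, d⟩ | ⟨a, b, c, d⟩ | ⟨a, b, c, d⟩ | ⟨a, b, c, d⟩ <;>
    rw [a, b, c, d] at ext'
  · exact Or.inl (ext' _ (by decide +kernel))
  · exact Or.inr (Or.inr (Or.inr (Or.inl (ext' _ (by decide +kernel)))))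
  · first
    | exact Or.inr (Or.inl (ext' _ (by decide +kernel)))
    | exact Or.inr (Or.inr (Or.inl (ext' _ (by decide +kernel))))
  · first
    | exact Or.inr (Or.inr (Or.inr (Or.inr (Or.inl (ext' _ (by decide +kernel))))))
    | exact Or.inr (Or.inr (Or.inr (Or.inr (Or.inr (ext' _ (by decide +kernel))))))
  · first
    | exact Or.inr (Or.inl (ext' _ (by decide +kernel)))
    | exact Or.inr (Or.inr (Or.inl (ext' _ (by decide +kernel))))
  · first
    | exact Or.inr (Or.inr (Or.inr (Or.inr (Or.inl (ext' _ (by decide +kernel))))))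
    | exact Or.inr (Or.inr (Or.inr (Or.inr (Or.inr (ext' _ (by decide +kernel))))))

section phi

variable {M : Type*} [Monoid M]

/-- The product of the members of a quadruple selected by the bits of `k`. -/
def phi (v : Fin 4 → M) (k : Fin 16) : M :=
  v 0 ^ (k.val % 2) * v 1 ^ (k.val / 2 % 2) * v 2 ^ (k.val / 4 % 2) * v 3 ^ (k.val / 8 % 2)

lemma map_phi {N : Type*} [Monoid N] (f : M →* N) (v : Fin 4 → M) (k : Fin 16) :
    f (phi v k) = phi (fun i => f (v i)) k := by
  simp only [phi, map_mul, map_pow]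

lemma bit_xor : ∀ k l : Fin 16, (k ^^^ l).val % 2 = (k.val % 2 + l.val % 2) % 2 ∧
    (k ^^^ l).val / 2 % 2 = (k.val / 2 % 2 + l.val / 2 % 2) % 2 ∧
    (k ^^^ l).val / 4 % 2 = (k.val / 4 % 2 + l.val / 4 % 2) % 2 ∧
    (k ^^^ l).val / 8 % 2 = (k.val / 8 % 2 + l.val / 8 % 2) % 2 := by decide +kernel

/-- `phi` is a homomorphism on commuting involutions. -/
lemma phi_xor {v : Fin 4 → M} (h2 : ∀ i, v i * v i = 1) (hc : ∀ i j, Commute (v i) (v j)) (k l : Fin 16) :
    phi v (k ^^^ l) = phi v k * phi v l := by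
  have hp : ∀ i (a b : ℕ), v i ^ ((a + b) % 2) = v i ^ a * v i ^ b := fun i a b => by
    rw [← pow_add]
    conv_rhs => rw [← Nat.mod_add_div (a + b) 2, pow_add, pow_mul, pow_two, h2, one_pow, mul_one]
  obtain ⟨b0, b1, b2, b3⟩ := bit_xor k l
  have hcp : ∀ i j (a b : ℕ), Commute (v i ^ a) (v j ^ b) := fun i j a b => (hc i j).pow_pow a b
  simp only [phi, b0, b1, b2, b3, hp]
  have e1 : ∀ A B : M, ∀ C D : M, Commute B C → A * B * (C * D) = A * C * (B * D) := fun A B C D h =>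
    h.mul_mul_mul_comm A D
  rw [(hcp 0 1 _ _).mul_mul_mul_comm]
  rw [(Commute.mul_left (hcp 0 2 _ _) (hcp 1 2 _ _)).mul_mul_mul_comm]
  rw [(Commute.mul_left (Commute.mul_left (hcp 0 3 _ _) (hcp 1 3 _ _)) (hcp 2 3 _ _)).mul_mul_mul_comm]

/-- A linear map from the images of the four generators. -/
def lin (f : Fin 4 → Fin 16) (k : Fin 16) : Fin 16 :=
  (if k.val % 2 = 1 then f 0 else 0) ^^^ (if k.val / 2 % 2 = 1 then f 1 else 0) ^^^
    (if k.val / 4 % 2 = 1 then f 2 else 0) ^^^ (if k.val / 8 % 2 = 1 then f 3 else 0)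

end phi

lemma conj_phi {G : Type*} [Group G] {v : Fin 4 → G} (h2 : ∀ i, v i * v i = 1)
    (hc : ∀ i j, Commute (v i) (v j)) {g : G} {f : Fin 4 → Fin 16}
    (hg : ∀ i, g * v i * g⁻¹ = phi v (f i)) (k : Fin 16) : g * phi v k * g⁻¹ = phi v (lin f k) := by
  have h0 : phi v 0 = 1 := by simp [phi]
  have e : ∀ i (b : Prop) [Decidable b] (m : ℕ), (m = if b then 1 else 0) →
      (g * v i * g⁻¹) ^ m = phi v (if b then f i else 0) := by
    intro i b _ m hm
    subst hm
    split_ifs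
    · rw [pow_one, hg]
    · rw [pow_zero, h0]
  have hb : ∀ m : ℕ, m % 2 = if m % 2 = 1 then 1 else 0 := fun m => by split_ifs <;> omega
  calc g * phi v k * g⁻¹ = phi (fun i => g * v i * g⁻¹) k := map_phi (MulAut.conj g).toMonoidHom v k
    _ = phi v (lin f k) := by
      unfold lin
      rw [phi_xor h2 hc, phi_xor h2 hc, phi_xor h2 hc, ← e 0 _ _ (hb _), ← e 1 _ _ (hb _),
        ← e 2 _ _ (hb _), ← e 3 _ _ (hb _)]
      rfl

/-- The generators of the model. -/
def gens (b f i : Bool) : Fin 5 → Fin 4 → Fin 16 :=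
  ![![1, 2, 8, 12], ![2, 3, 4, 8], ![1, 3, 4, if b then 13 else 12],
    ![1, if f then 7 else 6, 4, 9], ![1, 2, 5, if i then 11 else 10]]

/-- Evaluation of a word. -/
def evm (M : Fin 5 → Fin 4 → Fin 16) (w : List (Fin 5)) (k : Fin 16) : Fin 16 :=
  w.foldr (fun g r => lin (M g) r) k

theorem bad_signs (b f i : Bool) (h1 : ∀ k, evm (gens b f i) [0, 2, 0, 2] k = k)
    (h2 : ∀ k, evm (gens b f i) [2, 3, 4, 3, 4] k = k) : b = false ∧ f = true := by
  revert b f i
  decide +kernel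

/-- The words of two commuting involutions centralising a fixed point free element. -/
def words : Bool → Bool → List (Fin 5) × List (Fin 5)
  | false, false => ([4], [0, 0, 4, 0])
  | false, true => ([1, 3, 1, 4, 0, 0, 3, 0], [1, 0, 3, 1, 4, 0, 0, 3])
  | true, false => ([1, 3, 1, 4, 0, 3, 0, 0], [0, 3, 1, 4, 0, 3, 1, 0])
  | true, true => ([4], [0, 0, 4, 0])

theorem pair_case : ∀ i j : Bool,
    let M := gens false true i
    let S : List (Fin 5) := if j then [1, 0, 0] else [1, 0]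
    let u := (words i j).1
    let v := (words i j).2
    (∀ k, evm M (u ++ u) k = k) ∧ (∀ k, evm M (v ++ v) k = k) ∧ (∀ k, evm M (u ++ v) k = evm M (v ++ u) k) ∧
      (∀ k, evm M (u ++ S) k = evm M (S ++ u) k) ∧ (∀ k, evm M (v ++ S) k = evm M (S ++ v) k) ∧
      (∀ k, evm M S k = k → k = 0) ∧ (∀ k, ∃ m, m ^^^ evm M S m = k) ∧
      (∃ k, evm M u k ≠ k) ∧ (∃ k, evm M v k ≠ k) ∧ (∃ k, evm M u k ≠ evm M v k) := by
  decide +kernel

theorem fix_U : ∀ k : Fin 16, k ^^^ lin ![1, 2, 8, 12] k ^^^ lin ![1, 2, 8, 12] (lin ![1, 2, 8, 12] k) = 0 →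
    k ≠ 0 → k = 4 ∨ lin ![1, 2, 8, 12] k = 4 ∨ lin ![1, 2, 8, 12] (lin ![1, 2, 8, 12] k) = 4 := by
  decide +kernel

end Cfsg.Agent.AltDoubleCent
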