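import Cfsg.Agent.Lib.AltDoubleCent.Cases

/-!
# Degree twelve

Main results: `commuting_triple_false`, `Frame.quotient`, `Frame.twelve_false`.
-/

set_option autoImplicit false
set_option linter.style.haveILetI false
set_option maxHeartbeats 1000000

namespace Cfsg.Agent.AltDoubleCent

open Equiv Equiv.Perm

universe u

variable {G : Type u} [Group G] {n : ℕ} {z : G}

/-- An eight point involution centralising a six, nine or twelve point element of order three among twelve
points is odd on the latter's support. -/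
lemma odd_on_support {σ ρ : Perm (Fin 12)} (hσ : σ * σ = 1) (h8 : σ.support.card = 8) (hρ : ρ ^ 3 = 1)
    (hs : 6 ≤ ρ.support.card) (hc : Commute σ ρ) (hmem : ∀ k, σ k ∈ ρ.support ↔ k ∈ ρ.support) :
    sign (σ.subtypePerm hmem) = -1 := by
  classical
  set W := ρ.support with hW
  set τ : Perm {k // k ∈ W} := σ.subtypePerm hmem with hτ
  have hτ2 : τ ^ 2 = 1 := by
    rw [hτ, subtypePerm_pow]
    ext k
    simp [pow_two, hσ]
  haveI : Fact (Nat.Prime 2) := ⟨Nat.prime_two⟩
  have hct := cycleType_of_pow_prime_eq_one hτ2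
  have hsum := sum_cycleType τ
  rw [hct, Multiset.sum_replicate, smul_eq_mul] at hsum
  set A := σ.support ∩ W with hA
  have hAτ : τ.support.card = A.card := by
    rw [← Finset.card_map (Function.Embedding.subtype _)]
    congr 1
    ext k
    simp only [Finset.mem_map, Perm.mem_support, Function.Embedding.coe_subtype, hA, Finset.mem_inter]
    constructor
    · rintro ⟨j, hj, rfl⟩
      exact ⟨fun e => hj (Subtype.ext e), j.2⟩
    · rintro ⟨h1, h2⟩
      exact ⟨⟨k, h2⟩, fun e => h1 (congrArg Subtype.val e), rfl⟩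
  -- the moved part is invariant under `ρ`
  have hmemA : ∀ k, ρ k ∈ A ↔ k ∈ A := fun k => by
    rw [hA, Finset.mem_inter, Finset.mem_inter]
    refine and_congr ?_ Perm.apply_mem_support
    rw [Perm.mem_support, Perm.mem_support,
      show σ (ρ k) = ρ (σ k) from congrArg (fun e : Perm (Fin 12) => e k) hc.eq, ρ.injective.ne_iff]
  set ρ' : Perm {k // k ∈ A} := ρ.subtypePerm hmemA with hρ'
  have hρ3 : ρ' ^ 3 = 1 := by
    rw [hρ', subtypePerm_pow]
    ext k
    simp [hρ]
  have hfull : ρ'.support = Finset.univ := Finset.eq_univ_iff_forall.2 fun k => Perm.mem_support.2 fun e =>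
    Perm.mem_support.1 (Finset.mem_inter.1 k.2).2 (congrArg Subtype.val e)
  haveI : Fact (Nat.Prime 3) := ⟨Nat.prime_three⟩
  have hsum3 := sum_cycleType ρ'
  rw [cycleType_of_pow_prime_eq_one hρ3, Multiset.sum_replicate, smul_eq_mul, hfull, Finset.card_univ,
    Fintype.card_coe] at hsum3
  have hout : σ.support.card ≤ A.card + (12 - W.card) := by
    have h1 : σ.support ⊆ A ∪ Wᶜ := fun k hk => by
      rw [hA, Finset.mem_union, Finset.mem_inter, Finset.mem_compl]
      tauto
    have h2 := (Finset.card_le_card h1).trans (Finset.card_union_le _ _)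
    rwa [Finset.card_compl, Fintype.card_fin] at h2
  have hle : A.card ≤ σ.support.card := Finset.card_le_card Finset.inter_subset_left
  have h6 : A.card = 6 := by omega
  have hm : Multiset.card τ.cycleType = 3 := by omega
  rw [sign_of_cycleType, hct, hm]
  rfl

/-- Three commuting eight point involutions with product one do not centralise such an element. -/
theorem commuting_triple_false {σ₁ σ₂ ρ : Perm (Fin 12)} (h₁ : σ₁ * σ₁ = 1) (h₂ : σ₂ * σ₂ = 1)
    (h₃ : σ₁ * σ₂ * (σ₁ * σ₂) = 1) (k₁ : σ₁.support.card = 8) (k₂ : σ₂.support.card = 8)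
    (k₃ : (σ₁ * σ₂).support.card = 8) (hρ : ρ ^ 3 = 1) (hs : 6 ≤ ρ.support.card) (c₁ : Commute σ₁ ρ)
    (c₂ : Commute σ₂ ρ) : False := by
  classical
  have hm : ∀ {σ : Perm (Fin 12)}, Commute σ ρ → ∀ k, σ k ∈ ρ.support ↔ k ∈ ρ.support := fun {σ} hc k => by
    rw [Perm.mem_support, Perm.mem_support,
      ← (show σ (ρ k) = ρ (σ k) from congrArg (fun e : Perm (Fin 12) => e k) hc.eq), σ.injective.ne_iff]
  have e : (σ₁ * σ₂).subtypePerm (hm (c₁.mul_left c₂)) =
      σ₁.subtypePerm (hm c₁) * σ₂.subtypePerm (hm c₂) := by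
    ext k; rfl
  have := congrArg sign e
  rw [map_mul, odd_on_support h₁ k₁ hρ hs c₁, odd_on_support h₂ k₂ hρ hs c₂,
    odd_on_support h₃ k₃ hρ hs (c₁.mul_left c₂)] at this
  exact absurd this (by decide)

namespace Frame

/-- The centraliser of a three-cycle modulo the cycle carries a smaller frame. -/
theorem quotient [Finite G] (F : Frame G n z) {m : ℕ} (hm : 4 ≤ m) {a : G} (ha : Commute a z) (h3 : a ^ 3 = 1)
    (h1 : a ≠ 1) (hs : (F.p a).support.card = 3) (hn : n = m + 3)
    [((Subgroup.zpowers a).subgroupOf (Subgroup.centralizer ({a} : Set G))).Normal] :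
    Nonempty (Frame (Subgroup.centralizer ({a} : Set G) ⧸
      (Subgroup.zpowers a).subgroupOf (Subgroup.centralizer ({a} : Set G))) m
      (QuotientGroup.mk (⟨z, Subgroup.mem_centralizer_singleton_iff.2 ha.symm.eq⟩ :
        Subgroup.centralizer ({a} : Set G)))) := by
  classical
  set H := Subgroup.centralizer ({a} : Set G) with hH
  set N := (Subgroup.zpowers a).subgroupOf H with hN
  set q := F.p a with hq
  set zH : H := ⟨z, Subgroup.mem_centralizer_singleton_iff.2 ha.symm.eq⟩ with hzH
  have hcm : ∀ g : H, Commute (g : G) a := fun g => Subgroup.mem_centralizer_singleton_iff.1 g.2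
  let M : Subgroup H := (Subgroup.centralizer ({z} : Set G)).subgroupOf H
  have hMz : ∀ g : M, Commute ((g : H) : G) z := fun g =>
    Subgroup.mem_centralizer_singleton_iff.1 (Subgroup.mem_subgroupOf.1 g.2)
  have hpc : ∀ g : M, Commute (F.p ((g : H) : G)) q := fun g => by
    have e := congrArg F.p (hcm g).eq
    rw [F.p_mul (hMz g) ha, F.p_mul ha (hMz g)] at e
    exact e
  have hmem : ∀ (g : M) (k : Fin n), F.p ((g : H) : G) k ∉ q.support ↔ k ∉ q.support := fun g k => by
    rw [Perm.mem_support, Perm.mem_support,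
      show q (F.p ((g : H) : G) k) = F.p ((g : H) : G) (q k) from
        (congrArg (fun e : Perm (Fin n) => e k) (hpc g).eq).symm, (F.p _).injective.ne_iff]
  have hT : Fintype.card {k : Fin n // k ∉ q.support} = m := by
    rw [Fintype.card_subtype_compl, Fintype.card_fin, Fintype.card_coe, hs]
    omega
  set eT := Fintype.equivFinOfCardEq hT with heT
  let θ : M →* Perm (Fin m) := MonoidHom.mk'
    (fun g => eT.permCongr ((F.p ((g : H) : G)).subtypePerm (hmem g))) fun g k => by
      refine Equiv.ext fun t => ?_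
      simp only [Equiv.permCongr_apply, Perm.mul_apply, Equiv.symm_apply_apply]
      refine congrArg eT (Subtype.ext ?_)
      show F.p (((g : H) : G) * ((k : H) : G)) _ = F.p ((g : H) : G) (F.p ((k : H) : G) _)
      rw [F.p_mul (hMz g) (hMz k), Perm.mul_apply]
  have hmk : ∀ g : M, (QuotientGroup.mk (g : H) : H ⧸ N) ∈
      Subgroup.centralizer ({QuotientGroup.mk zH} : Set (H ⧸ N)) := fun g => by
    refine Subgroup.mem_centralizer_singleton_iff.2 ?_
    rw [← QuotientGroup.mk_mul, ← QuotientGroup.mk_mul]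
    exact congrArg _ (Subtype.ext (hMz g).eq)
  let f : M →* Subgroup.centralizer ({QuotientGroup.mk zH} : Set (H ⧸ N)) :=
    MonoidHom.mk' (fun g => ⟨_, hmk g⟩) fun g k => Subtype.ext (by
      show ((((g * k : M) : H)) : H ⧸ N) = _
      rw [Subgroup.coe_mul, QuotientGroup.mk_mul]
      rfl)
  have hf : Function.Surjective f := by
    rintro ⟨w, hw⟩
    induction w using QuotientGroup.induction_on with
    | _ g =>
      rw [Subgroup.mem_centralizer_singleton_iff, ← QuotientGroup.mk_mul, ← QuotientGroup.mk_mul,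
        QuotientGroup.eq, hN, Subgroup.mem_subgroupOf] at hw
      obtain ⟨i, hi⟩ := pick3 h3 hw
      rw [Subgroup.coe_mul, Subgroup.coe_inv, Subgroup.coe_mul, Subgroup.coe_mul, hzH] at hi
      change ((g : G) * z)⁻¹ * (z * (g : G)) = a ^ i.val at hi
      rw [inv_mul_eq_iff_eq_mul] at hi
      -- twice by `z`
      have e1 : z * (g : G) * z⁻¹ = g * a ^ i.val := by
        rw [hi, mul_assoc (g : G), (ha.pow_left i.val).symm.eq, ← mul_assoc, mul_inv_cancel_right]
      have e2 : a ^ i.val = 1 := by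
        have e := congrArg (fun v => z * v * z⁻¹) e1
        beta_reduce at e
        rw [show z * (z * (g : G) * z⁻¹) * z⁻¹ = z * z * g * (z * z)⁻¹ by group, F.zz, one_mul, inv_one, mul_one,
          show z * ((g : G) * a ^ i.val) * z⁻¹ = z * g * z⁻¹ * (z * a ^ i.val * z⁻¹) by group, e1,
          (ha.pow_left i.val).symm.eq, mul_inv_cancel_right, mul_assoc, left_eq_mul, ← pow_add] at e
        have e3 : (a ^ i.val) ^ 3 = 1 := by rw [← pow_mul, mul_comm, pow_mul, h3, one_pow]
        rw [← two_mul, mul_comm 2, pow_mul] at e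
        rwa [pow_succ, e, one_mul] at e3
      rw [e2, mul_one, mul_inv_eq_iff_eq_mul] at e1
      exact ⟨⟨g, Subgroup.mem_subgroupOf.2 (Subgroup.mem_centralizer_singleton_iff.2 e1.symm)⟩, rfl⟩
  have htriv : ∀ g : M, θ g = 1 ↔ F.p ((g : H) : G) ∈ Subgroup.zpowers q := by
    intro g
    constructor
    · intro e
      have hfix : ∀ t, t ∉ q.support → F.p ((g : H) : G) t = t := fun t ht => by
        have h1 := congrArg (fun v : Perm (Fin m) => v (eT ⟨t, ht⟩)) e
        simp only [θ, MonoidHom.mk'_apply, Equiv.permCongr_apply, Equiv.symm_apply_apply, Perm.one_apply,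
          EmbeddingLike.apply_eq_iff_eq] at h1
        exact congrArg Subtype.val h1
      obtain ⟨hc', hmz⟩ := (card_support_eq_three_iff.1 hs).isCycle.commute_iff.1 (hpc g)
      convert hmz using 1
      refine Equiv.ext fun t => ?_
      by_cases ht : t ∈ q.support
      · exact (ofSubtype_apply_of_mem ((F.p ((g : H) : G)).subtypePerm hc') ht).symm
      · rw [ofSubtype_apply_of_not_mem _ ht]
        exact hfix t ht
    · rintro ⟨i, hi⟩
      refine Equiv.ext fun t => ?_
      simp only [θ, MonoidHom.mk'_apply, Equiv.permCongr_apply, Perm.one_apply]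
      rw [← Equiv.apply_symm_apply eT t]
      refine congrArg eT (Subtype.ext ?_)
      show F.p ((g : H) : G) _ = _
      rw [← show q ^ i = F.p ((g : H) : G) from hi]
      simp only [Equiv.symm_apply_apply]
      exact zpow_apply_eq_self_of_apply_eq_self (Perm.notMem_support.1 (eT.symm t).2) i
  have hker : f.ker ≤ θ.ker := fun g hg => by
    rw [MonoidHom.mem_ker, htriv]
    have h' := (QuotientGroup.eq_one_iff (g : H)).1 (congrArg Subtype.val hg)
    rw [hN, Subgroup.mem_subgroupOf] at h'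
    obtain ⟨i, hi⟩ := pick3 h3 h'
    rw [hi, F.p_pow ha]
    exact pow_mem (Subgroup.mem_zpowers q) _
  let π := f.liftOfSurjective hf ⟨θ, hker⟩
  have hπ : ∀ g, π (f g) = θ g := fun g => MonoidHom.liftOfRightInverse_comp_apply _ _ _ ⟨θ, hker⟩ g
  -- lifting an even permutation of the other points
  have hlift : ∀ σ : Perm (Fin m), sign σ = 1 → ∃ g : M, θ g = σ ∧
      F.p ((g : H) : G) = ofSubtype (eT.symm.permCongr σ) := by
    intro σ hσ
    obtain ⟨g, hg, hpg⟩ := F.exists_lift (show sign (ofSubtype (eT.symm.permCongr σ)) = 1 by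
      rw [sign_ofSubtype, sign_permCongr, hσ])
    have hga : Commute g a := F.commute_of_odd ha hg (odd_of_pow_three h3) (by
      rw [hpg]
      refine Disjoint.commute fun j => ?_
      by_cases hj : j ∈ q.support
      · exact Or.inr (ofSubtype_apply_of_not_mem _ (fun h => h hj))
      · exact Or.inl (Perm.notMem_support.1 hj))
    refine ⟨⟨⟨g, Subgroup.mem_centralizer_singleton_iff.2 hga.eq⟩,
      Subgroup.mem_subgroupOf.2 (Subgroup.mem_centralizer_singleton_iff.2 hg.eq)⟩, ?_, hpg⟩
    refine Equiv.ext fun t => ?_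
    simp only [θ, MonoidHom.mk'_apply, Equiv.permCongr_apply]
    rw [← Equiv.apply_symm_apply eT (σ t)]
    refine congrArg eT (Subtype.ext ?_)
    show F.p g _ = _
    rw [hpg, ofSubtype_apply_coe]
    simp
  set zM : M := ⟨zH, Subgroup.mem_subgroupOf.2 (Subgroup.mem_centralizer_singleton_iff.2 rfl)⟩ with hzM
  have hzbar : f zM = ⟨QuotientGroup.mk zH, Subgroup.mem_centralizer_singleton_iff.2 rfl⟩ := rfl
  refine ⟨⟨π, ⟨?_, fun w => ?_, fun w => ?_, fun σ hσ => ?_, fun L hL => ?_⟩⟩⟩
  · refine orderOf_two_of_sq (Subtype.ext ?_) fun e => ?_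
    · show (QuotientGroup.mk zH : H ⧸ N) * QuotientGroup.mk zH = 1
      rw [← QuotientGroup.mk_mul, show zH * zH = 1 from Subtype.ext F.zz]
      rfl
    · have h' := (QuotientGroup.eq_one_iff zH).1 (congrArg Subtype.val e)
      replace h' := Subgroup.mem_subgroupOf.1 h'
      obtain ⟨i, hi⟩ := pick3 h3 h'
      have h5 : (zH : G) ^ 3 = 1 := by rw [hi, ← pow_mul, mul_comm, pow_mul, h3, one_pow]
      rw [hzH] at h5
      change z ^ 3 = 1 at h5
      rw [pow_succ, pow_two, F.zz, one_mul] at h5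
      exact F.z_ne h5
  · obtain ⟨g, rfl⟩ := hf w
    rw [hπ, htriv]
    constructor
    · intro hmz
      obtain ⟨i, hi⟩ := (isOfFinOrder_of_finite q).mem_powers_iff_mem_zpowers.2 hmz
      have hai : (⟨a, Subgroup.mem_centralizer_singleton_iff.2 rfl⟩ : H) ^ i ∈ N := by
        rw [hN, Subgroup.mem_subgroupOf, Subgroup.coe_pow]
        exact pow_mem (Subgroup.mem_zpowers a) i
      rcases F.eq_or (hMz g) (ha.pow_left i) (by rw [F.p_pow ha]; exact hi.symm) with e | e
      · left
        refine Subtype.ext ((QuotientGroup.eq_one_iff _).2 ?_)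
        rw [hN, Subgroup.mem_subgroupOf, e]
        exact pow_mem (Subgroup.mem_zpowers a) i
      · right
        refine Subtype.ext ?_
        show (QuotientGroup.mk (g : H) : H ⧸ N) = QuotientGroup.mk zH
        rw [show (g : H) = zH * ⟨a, Subgroup.mem_centralizer_singleton_iff.2 rfl⟩ ^ i from Subtype.ext e,
          QuotientGroup.mk_mul, (QuotientGroup.eq_one_iff _).2 hai, mul_one]
    · intro hg
      have hone : ∀ k : M, f g = f k → F.p ((k : H) : G) = 1 → F.p ((g : H) : G) ∈ Subgroup.zpowers q := by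
        intro k e hk
        have h1 : θ g = θ k := by rw [← hπ, ← hπ, e]
        exact (htriv g).1 (h1.trans ((htriv k).2 (by rw [hk]; exact one_mem _)))
      rcases hg with e | e
      · exact hone 1 (e.trans (map_one f).symm) F.p_one
      · exact hone zM (e.trans hzbar.symm) F.p_z
  · obtain ⟨g, rfl⟩ := hf w
    rw [hπ]
    simp only [θ, MonoidHom.mk'_apply, sign_permCongr]
    set π₀ := F.p ((g : H) : G) with hπ₀
    obtain ⟨hc', hmz⟩ := (card_support_eq_three_iff.1 hs).isCycle.commute_iff.1 (hpc g)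
    have hcyc := (card_support_eq_three_iff.1 hs).isCycle
    have h1' : π₀ = ofSubtype (π₀.subtypePerm hc') *
        ofSubtype (π₀.subtypePerm (p := fun t => t ∉ q.support) (hmem g)) := by
      refine Equiv.ext fun t => ?_
      rw [Perm.mul_apply]
      by_cases ht : t ∈ q.support
      · rw [ofSubtype_apply_of_not_mem (π₀.subtypePerm (p := fun t => t ∉ q.support) (hmem g)) (not_not.2 ht)]
        exact (ofSubtype_apply_of_mem (π₀.subtypePerm hc') ht).symm
      · rw [ofSubtype_apply_of_mem (π₀.subtypePerm (p := fun t => t ∉ q.support) (hmem g)) ht]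
        exact (ofSubtype_apply_of_not_mem (π₀.subtypePerm hc') ((hc' _).not.2 ht)).symm
    obtain ⟨i, hi⟩ := Subgroup.mem_zpowers_iff.1 hmz
    have h2 : sign (ofSubtype (π₀.subtypePerm hc')) = 1 := by
      rw [← hi, map_zpow, hcyc.sign, hs, show (-(-1 : ℤˣ) ^ 3) = 1 by decide, one_zpow]
    have h3' := congrArg sign h1'
    rw [map_mul, h2, one_mul, sign_ofSubtype, show sign π₀ = 1 from F.sign_p _] at h3'
    exact h3'.symm
  · obtain ⟨g, hg, -⟩ := hlift σ hσ
    exact ⟨f g, by rw [hπ, hg]⟩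
  · -- the square of a lift of a double transposition
    set σ : Perm (Fin m) := swap ⟨0, by omega⟩ ⟨1, by omega⟩ * swap ⟨2, by omega⟩ ⟨3, by omega⟩ with hσ
    have hd : Dbl σ := ⟨_, _, _, _, by simp [Fin.ext_iff], by simp [Fin.ext_iff], by simp [Fin.ext_iff],
      by simp [Fin.ext_iff], by simp [Fin.ext_iff], by simp [Fin.ext_iff], rfl⟩
    obtain ⟨g, hgσ, hgp⟩ := hlift σ (sign_dbl hd)
    obtain ⟨w, hw, hwσ⟩ := hL σ (sign_dbl hd)
    obtain ⟨g', rfl⟩ := hf w
    rw [hπ, ← hgσ] at hwσ
    have hdbl : Dbl (F.p ((g : H) : G)) := by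
      rw [hgp]
      have hinj : Function.Injective fun t : Fin m => ((eT.symm t : {k : Fin n // k ∉ q.support}) : Fin n) :=
        Subtype.val_injective.comp eT.symm.injective
      refine ⟨(eT.symm ⟨0, by omega⟩ : Fin n), (eT.symm ⟨1, by omega⟩ : Fin n), (eT.symm ⟨2, by omega⟩ : Fin n),
        (eT.symm ⟨3, by omega⟩ : Fin n), hinj.ne (by simp [Fin.ext_iff]), hinj.ne (by simp [Fin.ext_iff]),
        hinj.ne (by simp [Fin.ext_iff]), hinj.ne (by simp [Fin.ext_iff]), hinj.ne (by simp [Fin.ext_iff]),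
        hinj.ne (by simp [Fin.ext_iff]), ?_⟩
      rw [hσ, show eT.symm.permCongr (swap (⟨0, by omega⟩ : Fin m) ⟨1, by omega⟩ * swap ⟨2, by omega⟩ ⟨3, by omega⟩)
        = swap (eT.symm ⟨0, by omega⟩) (eT.symm ⟨1, by omega⟩) * swap (eT.symm ⟨2, by omega⟩) (eT.symm ⟨3, by omega⟩)
          by ext t; simp [Equiv.permCongr_apply, eT.symm.injective.map_swap],
        map_mul, ofSubtype_swap_eq, ofSubtype_swap_eq]
    have hsq : f g * f g = f zM := by
      rw [← map_mul]
      exact congrArg f (Subtype.ext (Subtype.ext (F.sq_double (hMz g) hdbl)))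
    obtain ⟨j, hj⟩ := (isOfFinOrder_of_finite q).mem_powers_iff_mem_zpowers.2
      ((htriv (g' * g⁻¹)).1 (by rw [map_mul, map_inv, hwσ, mul_inv_cancel]))
    have hfg : f g' = f g ∨ f g' = f zM * f g := by
      have hk := hMz (g' * g⁻¹)
      rcases F.eq_or hk (ha.pow_left j) (by rw [F.p_pow ha]; exact hj.symm) with e | e
      · left
        refine Subtype.ext (QuotientGroup.eq.2 ?_)
        rw [hN, Subgroup.mem_subgroupOf]
        show ((g' : H) : G)⁻¹ * ((g : H) : G) ∈ _
        have e' : ((g' : H) : G) = a ^ j * ((g : H) : G) := by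
          rw [← e]; simp [mul_assoc]
        rw [e', show (a ^ j * ((g : H) : G))⁻¹ * ((g : H) : G) =
          ((g : H) : G)⁻¹ * (a ^ j)⁻¹ * ((g : H) : G) by group,
          ((hcm g).inv_left.pow_right j).inv_right.eq, inv_mul_cancel_right]
        exact inv_mem (pow_mem (Subgroup.mem_zpowers a) j)
      · right
        rw [← map_mul]
        refine Subtype.ext (QuotientGroup.eq.2 ?_)
        rw [hN, Subgroup.mem_subgroupOf]
        show ((g' : H) : G)⁻¹ * (z * ((g : H) : G)) ∈ _
        have e' : ((g' : H) : G) = z * a ^ j * ((g : H) : G) := by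
          rw [← e]; simp [mul_assoc]
        rw [e', show (z * a ^ j * ((g : H) : G))⁻¹ * (z * ((g : H) : G)) =
          ((g : H) : G)⁻¹ * (a ^ j)⁻¹ * ((g : H) : G) by group,
          ((hcm g).inv_left.pow_right j).inv_right.eq, inv_mul_cancel_right]
        exact inv_mem (pow_mem (Subgroup.mem_zpowers a) j)
    have := mul_mem hw hw
    have hcz : Commute (f g) (f zM) := by rw [← hsq]; exact (Commute.refl _).mul_right (Commute.refl _)
    have hzz : f zM * f zM = 1 := by
      rw [← map_mul, show zM * zM = 1 from Subtype.ext (Subtype.ext F.zz), map_one]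
    rcases hfg with e | e <;> rw [e] at this
    · rwa [hsq, hzbar] at this
    · rw [hcz.mul_mul_mul_comm, hzz, one_mul, hsq, hzbar] at this
      exact this

include z in
/-- Degree twelve reduces to degree nine. -/
theorem twelve_false [Finite G] (F : Frame G 12 z) {w : G} (hwz : Commute w z) (hw : w ≠ z)
    (hconj : IsConj z w) : False := by
  obtain ⟨y, hy, hpy⟩ := F.exists_lift (show sign (ext8 (show 8 ≤ 12 by norm_num) qS) = 1 by
    rw [sign_ext8]; decide +kernel)
  obtain ⟨v, hv, hpv⟩ := F.exists_lift (show sign (ext8 (show 8 ≤ 12 by norm_num) qV) = 1 by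
    rw [sign_ext8]; decide +kernel)
  have hqS : qS * qS = 1 ∧ qV * qV = 1 ∧ qS * qV * (qS * qV) = 1 ∧ qS.support.card = 8 ∧ qV.support.card = 8 ∧
      (qS * qV).support.card = 8 := by decide +kernel
  obtain ⟨s2, v2, sv2, s8, v8, sv8⟩ := hqS
  have hy2 : F.p y * F.p y = 1 := by rw [hpy, ← map_mul, s2, map_one]
  have hy8 : (F.p y).support.card = 8 := by rw [hpy, support_ext8, s8]
  have hv2 : F.p v * F.p v = 1 := by rw [hpv, ← map_mul, v2, map_one]
  have hv8 : (F.p v).support.card = 8 := by rw [hpv, support_ext8, v8]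
  have hyv : Commute y v := F.commute_eight hy hv hy2 hy8 hv2 hv8
    (by rw [hpy, hpv, ← map_mul, ← map_mul, sv2, map_one]) (by rw [hpy, hpv, ← map_mul, support_ext8, sv8])
  have hyo := F.orderOf_eight hy hy2 hy8
  have hyz := F.ne_z_eight hy8
  have hvo := F.orderOf_eight hv hv2 hv8
  obtain ⟨h, hh⟩ := isConj_iff.1 (F.all_conj (by norm_num) hwz hw hconj hy hyo)
  set σc : Perm (Fin 12) := swap 8 9 * swap 9 10 with hσc
  have hσf : sign σc = 1 ∧ σc ^ 3 = 1 ∧ σc ≠ 1 ∧ σc.support.card = 3 := by decide +kernel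
  have hσo : orderOf σc = 3 := by
    haveI : Fact (Nat.Prime 3) := ⟨Nat.prime_three⟩
    exact orderOf_eq_prime hσf.2.1 hσf.2.2.1
  obtain ⟨a, ha, hpa, -, ha3⟩ := F.exists_odd_lift hσf.1 (by rw [hσo]; decide)
  rw [hσo] at ha3
  have ha1 : a ≠ 1 := fun e => hσf.2.2.1 (by rw [← hpa, e, F.p_one])
  have hay : Commute y a := F.commute_of_odd ha hy (odd_of_pow_three ha3) (by
    rw [hpa, hpy]
    exact (show σc * ext8 (show 8 ≤ 12 by norm_num) qS = ext8 (show 8 ≤ 12 by norm_num) qS * σc by decide +kernel))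
  have hav : Commute v a := F.commute_of_odd ha hv (odd_of_pow_three ha3) (by
    rw [hpa, hpv]
    exact (show σc * ext8 (show 8 ≤ 12 by norm_num) qV = ext8 (show 8 ≤ 12 by norm_num) qV * σc by decide +kernel))
  have hconjh : ∀ {u t : G}, Commute u t → Commute (h⁻¹ * u * h) (h⁻¹ * t * h) := fun hut => by
    have := commute_conj hut h⁻¹
    rwa [inv_inv] at this
  have hyh : h⁻¹ * y * h = z := by rw [← hh]; group
  set r := h⁻¹ * a * h with hr
  have hrz : Commute r z := hyh ▸ hconjh hay.symm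
  have hr3 : r ^ 3 = 1 := by
    rw [hr, show h⁻¹ * a * h = h⁻¹ * a * h⁻¹⁻¹ by rw [inv_inv], conj_pow, conj_eq_one_iff, ha3]
  have hr1 : r ≠ 1 := fun e => ha1 (by rw [show a = h * r * h⁻¹ by rw [hr]; group, e]; group)
  have hq3 : F.p r ^ 3 = 1 := by rw [← F.p_pow hrz, hr3, F.p_one]
  haveI : Fact (Nat.Prime 3) := ⟨Nat.prime_three⟩
  have hsum := sum_cycleType (F.p r)
  rw [cycleType_of_pow_prime_eq_one hq3, Multiset.sum_replicate, smul_eq_mul] at hsum
  have hr0 : (F.p r).support.card ≠ 0 := fun e0 => by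
    rw [Finset.card_eq_zero, support_eq_empty_iff] at e0
    exact hr1 (F.eq_of_odd hrz (Commute.one_left z) (odd_of_pow_three hr3) (by simp) (by rw [e0, F.p_one]))
  -- the transported four-group forces a three-cycle
  have h3 : (F.p r).support.card = 3 := by
    by_contra hne
    set u₁ := h⁻¹ * z * h with hu₁
    set u₂ := h⁻¹ * v * h with hu₂
    have c₁ : Commute u₁ z := hyh ▸ hconjh hy.symm
    have c₂ : Commute u₂ z := hyh ▸ hconjh hyv.symm
    have hord : ∀ t : G, orderOf (h⁻¹ * t * h) = orderOf t := fun t => by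
      rw [show h⁻¹ * t * h = h⁻¹ * t * h⁻¹⁻¹ by rw [inv_inv], orderOf_conj']
    have hback : ∀ {t : G}, h⁻¹ * t * h = z → t = y := fun {t} e => by
      rw [← hh, ← e]; group
    have e12 : u₁ * u₂ = h⁻¹ * (z * v) * h := by rw [hu₁, hu₂]; group
    have hzv2 : orderOf (z * v) = 2 := by
      refine orderOf_two_of_sq ?_ fun e => ?_
      · rw [hv.mul_mul_mul_comm, F.zz, sq_of_orderOf_two hvo, one_mul]
      · rw [mul_eq_one_iff_eq_inv, ← inv_eq_iff_eq_inv, F.z_inv] at e
        exact F.ne_z_eight hv8 e.symm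
    have hpyv : F.p v ≠ F.p y := fun e => by
      rw [hpy, hpv] at e
      exact (show qV ≠ qS by decide +kernel) (ext8_injective _ e)
    have hn : ∀ {t : G}, Commute t z → orderOf t = 2 → t ≠ z →
        F.p t * F.p t = 1 ∧ (F.p t).support.card = 8 := fun {t} htz ht2 htne => by
      obtain ⟨h1, h2, h3⟩ := F.invol_support htz ht2 htne
      have := (Finset.card_le_univ (F.p t).support).trans_eq (Fintype.card_fin 12)
      exact ⟨h1, by omega⟩
    obtain ⟨q1, k1⟩ := hn c₁ ((hord z).trans F.orderOf_z) fun e => hyz (hback e).symm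
    obtain ⟨q2, k2⟩ := hn c₂ ((hord v).trans hvo) fun e => hpyv (by rw [hback e])
    obtain ⟨q3, k3⟩ := hn (c₁.mul_left c₂) (by rw [e12, hord, hzv2]) fun e => hpyv (by
      have := congrArg F.p (hback (e12 ▸ e))
      rwa [F.p_mul (Commute.refl z) hv, F.p_z, one_mul] at this)
    rw [F.p_mul c₁ c₂] at q3 k3
    have hcr : ∀ {t : G}, Commute t a → Commute (h⁻¹ * t * h) z → Commute (F.p (h⁻¹ * t * h)) (F.p r) :=
      fun {t} hta htz => by
        have e := congrArg F.p (hconjh hta).eq
        rw [F.p_mul htz hrz, F.p_mul hrz htz] at e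
        exact e
    exact commuting_triple_false q1 q2 q3 k1 k2 k3 hq3 (by omega) (hcr ha.symm c₁) (hcr hav c₂)
  obtain ⟨k, hkz, hk⟩ := F.odd_conj ha hrz (odd_of_pow_three ha3) (odd_of_pow_three hr3)
    (by
      rw [(card_support_eq_three_iff.1 (hpa ▸ hσf.2.2.2 : (F.p a).support.card = 3)).cycleType,
        (card_support_eq_three_iff.1 h3).cycleType])
    (by rw [hpa, hσf.2.2.2]; norm_num)
  set g := h * k with hg
  have hgz : g * z * g⁻¹ = y := by
    rw [hg, show h * k * z * (h * k)⁻¹ = h * (k * z * k⁻¹) * h⁻¹ by group, hkz.eq, mul_inv_cancel_right, hh]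
  have hga : Commute g a := mul_inv_eq_iff_eq_mul.1 (by
    rw [hg, show h * k * a * (h * k)⁻¹ = h * (k * a * k⁻¹) * h⁻¹ by group, hk, hr]; group)
  haveI : ((Subgroup.zpowers a).subgroupOf (Subgroup.centralizer ({a} : Set G))).Normal := ⟨fun w hw g => by
    rw [Subgroup.mem_subgroupOf] at hw ⊢
    obtain ⟨i, hi⟩ := Subgroup.mem_zpowers_iff.1 hw
    rw [Subgroup.coe_mul, Subgroup.coe_mul, Subgroup.coe_inv, ← hi,
      (show Commute (g : G) a from Subgroup.mem_centralizer_singleton_iff.1 g.2).zpow_right i |>.eq,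
      mul_inv_cancel_right]
    exact zpow_mem (Subgroup.mem_zpowers a) i⟩
  obtain ⟨F'⟩ := F.quotient (m := 9) (by norm_num) ha ha3 ha1 (hpa ▸ hσf.2.2.2) rfl
  set H := Subgroup.centralizer ({a} : Set G) with hH
  set N := (Subgroup.zpowers a).subgroupOf H with hN
  set yH : H := ⟨y, Subgroup.mem_centralizer_singleton_iff.2 hay.eq⟩ with hyH
  set zH : H := ⟨z, Subgroup.mem_centralizer_singleton_iff.2 ha.symm.eq⟩ with hzH
  have hc : Commute (QuotientGroup.mk yH : H ⧸ N) (QuotientGroup.mk zH) :=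
    (show Commute yH zH from Subtype.ext hy.eq).map (QuotientGroup.mk' N)
  have hne : (QuotientGroup.mk yH : H ⧸ N) ≠ QuotientGroup.mk zH := by
    intro e
    have h' := QuotientGroup.eq.1 e
    rw [hN, Subgroup.mem_subgroupOf] at h'
    obtain ⟨i, hi⟩ := pick3 ha3 h'
    change y⁻¹ * z = a ^ i.val at hi
    have h2 : (a ^ i.val) ^ 3 = 1 := by rw [← pow_mul, mul_comm, pow_mul, ha3, one_pow]
    rw [← hi, pow_succ, pow_two, hy.inv_left.symm.mul_mul_mul_comm, F.zz, mul_one, ← mul_inv_rev,
      sq_of_orderOf_two hyo, inv_one, one_mul, inv_mul_eq_one] at h2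
    exact hyz h2
  have hcj : IsConj (QuotientGroup.mk zH : H ⧸ N) (QuotientGroup.mk yH) :=
    isConj_iff.2 ⟨QuotientGroup.mk (⟨g, Subgroup.mem_centralizer_singleton_iff.2 hga.eq⟩ : H), by
      rw [← QuotientGroup.mk_inv, ← QuotientGroup.mk_mul, ← QuotientGroup.mk_mul]
      exact congrArg _ (Subtype.ext hgz)⟩
  exact Setup.setup_false (F := F') ⟨le_refl 9, by norm_num, fun w hw hw2 =>
    F'.all_conj (by norm_num) hc hne hcj hw hw2⟩

end Frame

end Cfsg.Agent.AltDoubleCent
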