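import Cfsg.Agent.Lib.AltDoubleCent.Lifts
import Cfsg.Agent.Lib.AltDoubleCent.Model

/-!
# Degree nine and ten: labelled elements

Main results: `Setup`, `Setup.invol_in_cx`, `Setup.conj_x`, `Setup.exists_h`, `Setup.cent_three`,
`Setup.cent_Vx`.
-/

set_option autoImplicit false
set_option linter.style.haveILetI false

namespace Cfsg.Agent.AltDoubleCent

open Equiv Equiv.Perm

universe u

variable {G : Type u} [Group G] {n : ℕ} {z : G}

/-- The point with the given label. -/
def pt (h : 9 ≤ n) (i : Fin 9) : Fin n := Fin.castLE h i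

/-- `(012)`. -/
def qA : Perm (Fin 8) := swap 0 1 * swap 1 2

/-- `(345)`. -/
def qB : Perm (Fin 8) := swap 3 4 * swap 4 5

lemma qX_eq : qX = qA * qB := by decide +kernel

/-- The standing hypotheses in degree nine or ten. -/
structure Setup (F : Frame G n z) : Prop where
  lo : 9 ≤ n
  hi : n ≤ 10
  fus : ∀ w : G, Commute w z → orderOf w = 2 → IsConj z w

lemma sq_root_of_odd {g : G} (h : Odd (orderOf g)) : ∃ k, (g ^ k) * (g ^ k) = g := by
  obtain ⟨m, hm⟩ := h
  exact ⟨m + 1, by rw [← pow_add, show m + 1 + (m + 1) = orderOf g + 1 by omega, pow_succ, pow_orderOf_eq_one,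
    one_mul]⟩

lemma odd_of_pow_three {g : G} (h : g ^ 3 = 1) : Odd (orderOf g) :=
  Odd.of_dvd_nat (by decide) (orderOf_dvd_of_pow_eq_one h)

/-- An element of order three with two three-cycles. -/
lemma cycleType_six {q : Perm (Fin n)} (h3 : q ^ 3 = 1) (h6 : q.support.card = 6) :
    q.cycleType = {3, 3} := by
  haveI : Fact (Nat.Prime 3) := ⟨Nat.prime_three⟩
  have e := cycleType_of_pow_prime_eq_one h3
  have hs := sum_cycleType q
  rw [e, Multiset.sum_replicate, smul_eq_mul, h6] at hs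
  rw [e, show Multiset.card q.cycleType = 2 by omega]
  rfl

lemma commute_app {p q : Perm (Fin n)} (h : Commute p q) (x : Fin n) : p (q x) = q (p x) :=
  congrArg (fun r : Perm (Fin n) => r x) h.eq

namespace Setup

variable {F : Frame G n z} (S : Setup F)
include S

lemma le8 : 8 ≤ n := le_trans (by norm_num) S.lo

/-- Lifts of the basic labelled elements. -/
theorem exists_base : ∃ x y : G, Commute x z ∧ F.p x = ext8 S.le8 qX ∧ x ^ 3 = 1 ∧
    Commute y z ∧ F.p y = ext8 S.le8 qS ∧ orderOf y = 2 ∧ y ≠ z ∧ Commute y x := by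
  have hX : sign (ext8 S.le8 qX) = 1 := by rw [sign_ext8]; decide +kernel
  have hX3 : orderOf (ext8 S.le8 qX) = 3 := by
    rw [orderOf_injective (ext8 S.le8) (ext8_injective _)]
    haveI : Fact (Nat.Prime 3) := ⟨Nat.prime_three⟩
    exact orderOf_eq_prime (by decide +kernel) (by decide +kernel)
  obtain ⟨x, hx, hpx, hxo, hx3⟩ := F.exists_odd_lift hX (by rw [hX3]; decide)
  obtain ⟨y, hy, hpy⟩ := F.exists_lift (show sign (ext8 S.le8 qS) = 1 by rw [sign_ext8]; decide +kernel)
  have h2 : F.p y * F.p y = 1 := by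
    rw [hpy, ← map_mul, show qS * qS = 1 by decide +kernel, map_one]
  have h8 : (F.p y).support.card = 8 := by rw [hpy, support_ext8]; decide +kernel
  refine ⟨x, y, hx, hpx, hX3 ▸ hx3, hy, hpy, F.orderOf_eight hy h2 h8, F.ne_z_eight h8,
    F.commute_of_odd hx hy hxo ?_⟩
  rw [hpx, hpy]
  exact (show Commute qX qS by show qX * qS = qS * qX; decide +kernel).map (ext8 S.le8)

variable {x y : G} (hxz : Commute x z) (hpx : F.p x = ext8 S.le8 qX) (hx3 : x ^ 3 = 1)
  (hyz : Commute y z) (hpy : F.p y = ext8 S.le8 qS)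

include hpy in
lemma y_facts (hyz : Commute y z) : F.p y * F.p y = 1 ∧ (F.p y).support.card = 8 ∧ orderOf y = 2 ∧ y ≠ z := by
  have h2 : F.p y * F.p y = 1 := by
    rw [hpy, ← map_mul, show qS * qS = 1 by decide +kernel, map_one]
  have h8 : (F.p y).support.card = 8 := by rw [hpy, support_ext8]; decide +kernel
  exact ⟨h2, h8, F.orderOf_eight hyz h2 h8, F.ne_z_eight h8⟩

include hpx in
lemma x_support : (F.p x).support.card = 6 := by rw [hpx, support_ext8]; decide +kernel

include hpx hx3 hxz in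
/-- Four elements of order three of the centraliser are conjugate to `x` there. -/
theorem conj_x [Finite G] {g : G} (hg : Commute g z) (h3 : g ^ 3 = 1) (h1 : g ≠ 1) (hF : Four g) :
    ∃ c, Commute c z ∧ c * g * c⁻¹ = x := by
  have h6 := F.four_card S.hi hg h3 h1 hF
  refine F.odd_conj hg hxz (odd_of_pow_three h3) (odd_of_pow_three hx3) ?_ (by rw [h6]; have := S.lo; omega)
  rw [cycleType_six (by rw [← F.p_pow hg, h3, F.p_one]) h6,
    cycleType_six (by rw [← F.p_pow hxz, hx3, F.p_one]) (S.x_support hpx)]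

include hpx hxz hyz hpy in
/-- The involutions of `C(x) ∩ C(z)` other than `z`. -/
theorem invol_in_cx (hx3 : x ^ 3 = 1) {w : G} (hw : Commute w z) (hwx : Commute w x) (hw2 : orderOf w = 2)
    (hne : w ≠ z) : ∃ c, Commute c z ∧ Commute c x ∧ Commute (F.p c) (ext8 S.le8 qA) ∧
      (c * w * c⁻¹ = y ∨ c * w * c⁻¹ = z * y) := by
  obtain ⟨hs, h8, hpos⟩ := F.invol_support hw hw2 hne
  set σ := F.p w with hσ
  set P : Fin 8 → Fin n := Fin.castLE S.le8 with hP
  have Pinj : Function.Injective P := Fin.castLE_injective _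
  have hinv : ∀ k, σ (σ k) = k := fun k => by rw [← Perm.mul_apply, hs, Perm.one_apply]
  have hle := (Finset.card_le_univ σ.support).trans_eq (Fintype.card_fin n)
  have hhi := S.hi
  have h8' : σ.support.card = 8 := by omega
  have hX : ∀ k, σ (ext8 S.le8 qX k) = ext8 S.le8 qX (σ k) := fun k => by
    have e := congrArg F.p hwx.eq
    rw [F.p_mul hw hxz, F.p_mul hxz hw, hpx] at e
    exact congrArg (fun r : Perm (Fin n) => r k) e
  have hXP : ∀ k, ext8 S.le8 qX (P k) = P (qX k) := fun k => ext8_apply _ _ _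
  have hXmov : ∀ k : Fin n, ext8 S.le8 qX k ≠ k → ∃ j : Fin 8, j.val < 6 ∧ k = P j := fun k hk => by
    have hk8 : k.val < 8 := by
      by_contra hc
      exact hk (ext8_apply_ge _ _ _ (by omega))
    refine ⟨⟨k.val, hk8⟩, ?_, rfl⟩
    by_contra hc
    refine hk ?_
    show ext8 S.le8 qX (P ⟨k.val, hk8⟩) = P ⟨k.val, hk8⟩
    rw [hXP, (show ∀ j : Fin 8, ¬ j.val < 6 → qX j = j by decide +kernel) ⟨k.val, hk8⟩ hc]
  -- the image of zero
  obtain ⟨m, hm6, hm⟩ := hXmov (σ (P 0)) (by
    rw [← hX, σ.injective.ne_iff, hXP]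
    exact Pinj.ne (by decide +kernel))
  have v0 : σ (P 0) = P m := hm
  have v1 : σ (P 1) = P (qX m) := by
    rw [show (1 : Fin 8) = qX 0 by decide +kernel, ← hXP, hX, v0, hXP]
  have v2 : σ (P 2) = P (qX (qX m)) := by
    rw [show (2 : Fin 8) = qX 1 by decide +kernel, ← hXP, hX, v1, hXP]
  have hm3 : 3 ≤ m.val := by
    by_contra hc
    -- three fixed points
    have hm0 : m = 0 := by
      have : m = 0 ∨ m = 1 ∨ m = 2 := by omega
      rcases this with rfl | rfl | rfl
      · rfl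
      · have := hinv (P 0)
        rw [v0, v1] at this
        exact absurd (Pinj this) (by decide +kernel)
      · have := hinv (P 0)
        rw [v0, v2] at this
        exact absurd (Pinj this) (by decide +kernel)
    subst hm0
    have hsub : σ.support ⊆ ({P 0, P 1, P 2} : Finset (Fin n))ᶜ := fun k hk => by
      rw [Perm.mem_support] at hk
      simp only [Finset.mem_compl, Finset.mem_insert, Finset.mem_singleton, not_or]
      exact ⟨fun e => hk (by rw [e, v0]), fun e => hk (by rw [e, v1]; rfl),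
        fun e => hk (by rw [e, v2]; rfl)⟩
    have hl := Finset.card_le_card hsub
    rw [Finset.card_compl, Fintype.card_fin, Finset.card_insert_of_notMem, Finset.card_insert_of_notMem,
      Finset.card_singleton] at hl
    · omega
    · simpa using Pinj.ne (show (1 : Fin 8) ≠ 2 by decide)
    · simp only [Finset.mem_insert, Finset.mem_singleton, not_or]
      exact ⟨Pinj.ne (by decide), Pinj.ne (by decide)⟩
  -- a power of (012) moves the image to three
  obtain ⟨e, he⟩ : ∃ e : Fin 3, ∀ j : Fin 8, j.val < 6 →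
      ((j = 0 → (qB ^ e.val) m = 3) ∧ (j = 0 → (qB ^ e.val) (qX m) = 4) ∧ (j = 0 → (qB ^ e.val) (qX (qX m)) = 5)) := by
    have : m = 3 ∨ m = 4 ∨ m = 5 := by omega
    rcases this with rfl | rfl | rfl
    · exact ⟨0, fun j _ => ⟨fun _ => by decide +kernel, fun _ => by decide +kernel, fun _ => by decide +kernel⟩⟩
    · exact ⟨2, fun j _ => ⟨fun _ => by decide +kernel, fun _ => by decide +kernel, fun _ => by decide +kernel⟩⟩
    · exact ⟨1, fun j _ => ⟨fun _ => by decide +kernel, fun _ => by decide +kernel, fun _ => by decide +kernel⟩⟩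
  obtain ⟨he0, he1, he2⟩ := he 0 (by decide)
  set E : Perm (Fin n) := ext8 S.le8 (qB ^ e.val) with hE
  have hEP : ∀ k, E (P k) = P ((qB ^ e.val) k) := fun k => ext8_apply _ _ _
  have hElow : ∀ k : Fin 8, k.val < 3 → E (P k) = P k := fun k hk => by
    rw [hEP, (show ∀ e : Fin 3, ∀ k : Fin 8, k.val < 3 → (qB ^ e.val) k = k by decide +kernel) e k hk]
  set ρ := E * σ * E⁻¹ with hρ
  have hρ' : ∀ k, ρ (E k) = E (σ k) := fun k => by
    show E (σ (E⁻¹ (E k))) = _
    rw [← Perm.mul_apply E⁻¹, inv_mul_cancel, Perm.one_apply]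
  have hρρ : ρ * ρ = 1 := by
    rw [hρ, show E * σ * E⁻¹ * (E * σ * E⁻¹) = E * (σ * σ) * E⁻¹ by group, hs, mul_one, mul_inv_cancel]
  have hρinv : ∀ k, ρ (ρ k) = k := fun k => by rw [← Perm.mul_apply, hρρ, Perm.one_apply]
  have r0 : ρ (P 0) = P 3 := by
    conv_lhs => rw [← hElow 0 (by decide)]
    rw [hρ', v0, hEP, he0 rfl]
  have r1 : ρ (P 1) = P 4 := by
    conv_lhs => rw [← hElow 1 (by decide)]
    rw [hρ', v1, hEP, he1 rfl]
  have r2 : ρ (P 2) = P 5 := by
    conv_lhs => rw [← hElow 2 (by decide)]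
    rw [hρ', v2, hEP, he2 rfl]
  have r3 : ρ (P 3) = P 0 := by rw [← r0, hρinv]
  have r4 : ρ (P 4) = P 1 := by rw [← r1, hρinv]
  have r5 : ρ (P 5) = P 2 := by rw [← r2, hρinv]
  have hρ8 : ρ.support.card = 8 := by rw [hρ, card_support_conj, h8']
  set low : Finset (Fin n) := (Finset.univ.filter fun j : Fin 8 => j.val < 6).image P with hlow
  have hlowc : low.card = 6 := by rw [hlow, Finset.card_image_of_injective _ Pinj]; decide +kernel
  have hlowm : ∀ k : Fin n, k ∈ low ↔ k.val < 6 := fun k => by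
    rw [hlow, Finset.mem_image]
    constructor
    · rintro ⟨j, hj, rfl⟩
      exact (Finset.mem_filter.1 hj).2
    · exact fun hk => ⟨⟨k.val, by omega⟩, Finset.mem_filter.2 ⟨Finset.mem_univ _, hk⟩, rfl⟩
  obtain ⟨u, hu, hu'⟩ : ∃ u ∈ ρ.support, u ∉ low := by
    by_contra hcon
    push Not at hcon
    have := Finset.card_le_card hcon
    omega
  rw [Perm.mem_support] at hu
  rw [hlowm] at hu'
  have hρlow : ∀ k : Fin n, k.val < 6 → (ρ k).val < 6 := by
    intro k hk
    obtain ⟨j, hj, rfl⟩ : ∃ j : Fin 8, j.val < 6 ∧ P j = k := ⟨⟨k.val, by omega⟩, hk, rfl⟩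
    have : j = 0 ∨ j = 1 ∨ j = 2 ∨ j = 3 ∨ j = 4 ∨ j = 5 := by omega
    rcases this with rfl | rfl | rfl | rfl | rfl | rfl <;>
      simp only [r0, r1, r2, r3, r4, r5] <;> exact (show ∀ j : Fin 8, j.val < 6 → (P j).val < 6 from fun _ h => h) _ (by decide)
  have hv' : ¬ (ρ u).val < 6 := fun hc => hu' (by have := hρlow _ hc; rwa [hρinv] at this)
  have hsupp : ρ.support = insert u (insert (ρ u) low) := by
    symm
    refine Finset.eq_of_subset_of_card_le (fun k hk => ?_) ?_
    · rw [Perm.mem_support]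
      simp only [Finset.mem_insert, hlowm] at hk
      rcases hk with rfl | rfl | hk
      · exact hu
      · exact fun e => hu (ρ.injective e)
      · obtain ⟨j, hj, rfl⟩ : ∃ j : Fin 8, j.val < 6 ∧ P j = k := ⟨⟨k.val, by omega⟩, hk, rfl⟩
        have : j = 0 ∨ j = 1 ∨ j = 2 ∨ j = 3 ∨ j = 4 ∨ j = 5 := by omega
        rcases this with rfl | rfl | rfl | rfl | rfl | rfl <;>
          simp only [r0, r1, r2, r3, r4, r5] <;> exact Pinj.ne (by decide)
    · rw [hρ8, Finset.card_insert_of_notMem, Finset.card_insert_of_notMem, hlowc]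
      · rw [hlowm]; exact hv'
      · simp only [Finset.mem_insert, hlowm, not_or]
        exact ⟨fun e => hu e.symm, hu'⟩
  -- move the last pair to six and seven
  obtain ⟨R, hRs, hRlow, hR6, hR7⟩ : ∃ R : Perm (Fin n), sign R = 1 ∧ (∀ k : Fin n, k.val < 6 → R k = k) ∧
      ((R u = P 6 ∧ R (ρ u) = P 7) ∨ (R u = P 7 ∧ R (ρ u) = P 6)) ∧ True := by
    set w1 := swap (P 6) u (ρ u) with hw1
    set R0 := swap (P 7) w1 * swap (P 6) u with hR0
    have hb : ∀ j : Fin 8, 6 ≤ j.val → ∀ k : Fin n, k.val < 6 → k ≠ P j := fun j hj k hk e => by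
      have : k.val = j.val := congrArg Fin.val e
      omega
    have hw16 : w1 ≠ P 6 := fun e => by
      rw [← swap_apply_right (P 6) u, hw1] at e
      exact hu ((swap (P 6) u).injective e)
    have a1 : R0 u = P 6 := by
      show swap (P 7) w1 (swap (P 6) u u) = P 6
      rw [swap_apply_right, swap_apply_of_ne_of_ne (Pinj.ne (by decide)) hw16.symm]
    have a2 : R0 (ρ u) = P 7 := by
      show swap (P 7) w1 w1 = P 7
      exact swap_apply_right _ _
    have a3 : ∀ k : Fin n, k.val < 6 → R0 k = k := fun k hk => by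
      have hku : k ≠ u := fun e => hu' (e ▸ hk)
      have hkv : k ≠ ρ u := fun e => hv' (e ▸ hk)
      have h6 := hb 6 (by decide) k hk
      have hk6 : swap (P 6) u k = k := swap_apply_of_ne_of_ne h6 hku
      show swap (P 7) w1 (swap (P 6) u k) = k
      rw [hk6, swap_apply_of_ne_of_ne (hb 7 (by decide) k hk)]
      intro e
      rw [← hk6, hw1] at e
      exact hkv ((swap (P 6) u).injective e)
    rcases Int.units_eq_one_or (sign R0) with hs0 | hs0
    · exact ⟨R0, hs0, a3, Or.inl ⟨a1, a2⟩, trivial⟩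
    · refine ⟨swap (P 6) (P 7) * R0, ?_, fun k hk => ?_, Or.inr ⟨?_, ?_⟩, trivial⟩
      · rw [map_mul, hs0, sign_swap (Pinj.ne (by decide))]; decide
      · show swap (P 6) (P 7) (R0 k) = k
        rw [a3 k hk, swap_apply_of_ne_of_ne (hb 6 (by decide) k hk) (hb 7 (by decide) k hk)]
      · show swap (P 6) (P 7) (R0 u) = _
        rw [a1, swap_apply_left]
      · show swap (P 6) (P 7) (R0 (ρ u)) = _
        rw [a2, swap_apply_right]
  have hRX : Commute R (ext8 S.le8 qX) := Equiv.ext fun k => by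
    show R (ext8 S.le8 qX k) = ext8 S.le8 qX (R k)
    by_cases hk : k.val < 6
    · obtain ⟨j, hj, rfl⟩ : ∃ j : Fin 8, j.val < 6 ∧ P j = k := ⟨⟨k.val, by omega⟩, hk, rfl⟩
      rw [hRlow _ hk, hXP, hRlow]
      exact (show ∀ j : Fin 8, j.val < 6 → (qX j).val < 6 by decide +kernel) j hj
    · have hfix : ∀ l : Fin n, ¬ l.val < 6 → ext8 S.le8 qX l = l := fun l hl => by
        by_contra hc
        obtain ⟨j, hj, rfl⟩ := hXmov l hc
        exact hl hj
      rw [hfix k hk, hfix]
      intro hc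
      exact hk (by rw [R.injective (hRlow _ hc)] at hc; exact hc)
  set τ := R * E with hτ
  have hEs : sign E = 1 := by
    rw [hE, sign_ext8, (show ∀ e : Fin 3, sign (qB ^ e.val) = 1 by decide +kernel) e]
  obtain ⟨c, hc, hpc⟩ := F.exists_lift (show sign τ = 1 by rw [hτ, map_mul, hRs, hEs, one_mul])
  have hEX : Commute E (ext8 S.le8 qX) :=
    (show Commute (qB ^ e.val) qX from Commute.pow_left (by show qB * qX = qX * qB; decide +kernel) _).map
      (ext8 S.le8)
  have hcx : Commute c x := F.commute_of_odd hxz hc (odd_of_pow_three hx3) (by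
    rw [hpc, hpx]; exact (hRX.mul_left hEX).symm)
  have hcA : Commute (F.p c) (ext8 S.le8 qA) := by
    have hEA : Commute E (ext8 S.le8 qA) :=
      (show Commute (qB ^ e.val) qA from Commute.pow_left (by show qB * qA = qA * qB; decide +kernel) _).map
        (ext8 S.le8)
    have hlow : ∀ j : Fin 8, ¬ j.val < 6 → qA j = j := by decide +kernel
    have hRA : Commute R (ext8 S.le8 qA) := Equiv.ext fun k => by
      show R (ext8 S.le8 qA k) = ext8 S.le8 qA (R k)
      by_cases hk : k.val < 6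
      · obtain ⟨j, hj, rfl⟩ : ∃ j : Fin 8, j.val < 6 ∧ P j = k := ⟨⟨k.val, by omega⟩, hk, rfl⟩
        rw [hRlow _ hk, ext8_apply, hRlow]
        exact (show ∀ j : Fin 8, j.val < 6 → (qA j).val < 6 by decide +kernel) j hj
      · have hfix : ∀ l : Fin n, ¬ l.val < 6 → ext8 S.le8 qA l = l := fun l hl => by
          by_cases h8 : l.val < 8
          · obtain ⟨j, rfl⟩ : ∃ j : Fin 8, P j = l := ⟨⟨l.val, h8⟩, rfl⟩
            rw [ext8_apply, hlow j hl]
          · exact ext8_apply_ge _ _ _ (by omega)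
        rw [hfix k hk, hfix]
        intro hc'
        exact hk (by rw [R.injective (hRlow _ hc')] at hc'; exact hc')
    rw [hpc]
    exact hRA.mul_left hEA
  refine ⟨c, hc, hcx, hcA, F.eq_or (Frame.conj_z F hc hw) hyz ?_⟩
  rw [F.p_conj hc hw, hpc, hpy, hτ]
  rw [show R * E * σ * (R * E)⁻¹ = R * ρ * R⁻¹ by rw [hρ]; group]
  refine mul_inv_eq_iff_eq_mul.2 (Equiv.ext fun k => ?_)
  show R (ρ k) = ext8 S.le8 qS (R k)
  by_cases hk : k.val < 6
  · obtain ⟨j, hj, rfl⟩ : ∃ j : Fin 8, j.val < 6 ∧ P j = k := ⟨⟨k.val, by omega⟩, hk, rfl⟩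
    rw [hRlow _ hk, hRlow _ (hρlow _ hk), ext8_apply]
    have : j = 0 ∨ j = 1 ∨ j = 2 ∨ j = 3 ∨ j = 4 ∨ j = 5 := by omega
    rcases this with rfl | rfl | rfl | rfl | rfl | rfl <;>
      simp only [r0, r1, r2, r3, r4, r5] <;> exact congrArg P (by decide +kernel)
  by_cases hku : k = u
  · subst hku
    rcases hR6 with ⟨b1, b2⟩ | ⟨b1, b2⟩ <;> rw [b1, b2, ext8_apply] <;> exact congrArg P (by decide +kernel)
  by_cases hkv : k = ρ u
  · subst hkv
    rw [hρinv]
    rcases hR6 with ⟨b1, b2⟩ | ⟨b1, b2⟩ <;> rw [b1, b2, ext8_apply] <;> exact congrArg P (by decide +kernel)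
  have hfix : ρ k = k := by
    by_contra hc
    have : k ∈ ρ.support := Perm.mem_support.2 hc
    rw [hsupp, Finset.mem_insert, Finset.mem_insert, hlowm] at this
    rcases this with e | e | e
    exacts [hku e, hkv e, hk e]
  rw [hfix, ext8_apply_ge]
  by_contra hc
  obtain ⟨j, hj⟩ : ∃ j : Fin 8, P j = R k := ⟨⟨(R k).val, by omega⟩, rfl⟩
  by_cases hj6 : j.val < 6
  · exact hk (by
      have := R.injective ((hRlow (P j) hj6).trans hj)
      rw [← this]; exact hj6)
  · have : j = 6 ∨ j = 7 := by omega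
    rcases hR6 with ⟨b1, b2⟩ | ⟨b1, b2⟩ <;> rcases this with rfl | rfl <;>
      first
        | exact hku (R.injective (hj.symm.trans b1.symm))
        | exact hkv (R.injective (hj.symm.trans b2.symm))

include hpx hx3 hxz in
/-- An element moving `z` to a given conjugate and centralising `x`. -/
theorem exists_h [Finite G] {w : G} (hw : Commute w z) (hw2 : orderOf w = 2) (hne : w ≠ z)
    (hwx : Commute w x) : ∃ h, h * z * h⁻¹ = w ∧ Commute h x := by
  obtain ⟨h0, h0e⟩ := isConj_iff.1 (S.fus w hw hw2)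
  have hg : Commute (h0⁻¹ * x * h0) z := by
    have := commute_conj hwx.symm h0⁻¹
    rwa [inv_inv, show h0⁻¹ * w * h0 = z by rw [← h0e]; group] at this
  have hgF : Four (h0⁻¹ * x * h0) := by
    have hF : Four x := ⟨z, w, F.orderOf_z, hw2, hne.symm, hw.symm, hxz.symm, hwx⟩
    have := hF.conj h0⁻¹
    rwa [inv_inv] at this
  obtain ⟨c, hc, hce⟩ := S.conj_x hxz hpx hx3 hg
    (by rw [show h0⁻¹ * x * h0 = h0⁻¹ * x * h0⁻¹⁻¹ by rw [inv_inv], conj_pow, hx3, mul_one, mul_inv_cancel])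
    (fun e => by
      have h6 := S.x_support hpx
      rw [show x = 1 by rw [show x = h0 * (h0⁻¹ * x * h0) * h0⁻¹ by group, e]; group, F.p_one, support_one] at h6
      simp at h6) hgF
  refine ⟨h0 * c⁻¹, ?_, ?_⟩
  · rw [show h0 * c⁻¹ * z * (h0 * c⁻¹)⁻¹ = h0 * (c⁻¹ * z * c) * h0⁻¹ by group,
      hc.inv_left.eq, mul_assoc z, inv_mul_cancel, mul_one, h0e]
  · refine mul_inv_eq_iff_eq_mul.1 ?_
    rw [show h0 * c⁻¹ * x * (h0 * c⁻¹)⁻¹ = h0 * (c⁻¹ * x * c) * h0⁻¹ by group,
      show c⁻¹ * x * c = h0⁻¹ * x * h0 by conv_lhs => rw [← hce]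
                                          group]
    group

include hpx hxz hyz hpy in
/-- An odd element commuting with `z`, `y` and `x` is a power of `x`. -/
theorem cent_Vx (hx3 : x ^ 3 = 1) {g : G} (hg : Commute g z) (hgy : Commute g y) (hgx : Commute g x)
    (ho : Odd (orderOf g)) : g = 1 ∨ g = x ∨ g = x * x := by
  obtain ⟨e, he⟩ := sq_root_of_odd ho
  set r := F.p (g ^ e) with hr
  have hq : F.p g = r * r := by rw [hr, ← F.p_mul (hg.pow_left e) (hg.pow_left e), he]
  set P : Fin 8 → Fin n := Fin.castLE S.le8 with hP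
  have Pinj : Function.Injective P := Fin.castLE_injective _
  have hX : Commute r (ext8 S.le8 qX) := by
    have e' := congrArg F.p (hgx.pow_left e).eq
    rw [F.p_mul (hg.pow_left e) hxz, F.p_mul hxz (hg.pow_left e), hpx] at e'
    exact e'
  have hS : Commute r (ext8 S.le8 qS) := by
    have e' := congrArg F.p (hgy.pow_left e).eq
    rw [F.p_mul (hg.pow_left e) hyz, F.p_mul hyz (hg.pow_left e), hpy] at e'
    exact e'
  have cX : ∀ k, r (ext8 S.le8 qX k) = ext8 S.le8 qX (r k) := commute_app hX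
  have cS : ∀ k, r (ext8 S.le8 qS k) = ext8 S.le8 qS (r k) := commute_app hS
  have clt : ∀ (q : Perm (Fin 8)) (k : Fin n), ext8 S.le8 q k ≠ k → k.val < 8 := fun q k hk => by
    by_contra hc
    exact hk (ext8_apply_ge _ _ _ (by omega))
  have hE : ∀ (q : Perm (Fin 8)) (k : Fin 8), ext8 S.le8 q (P k) = P (q k) := fun q k => ext8_apply _ _ _
  -- the three orbit types
  have high : ∀ k : Fin n, 8 ≤ k.val → 8 ≤ (r k).val := fun k hk => by
    by_contra hc
    obtain ⟨j, hj⟩ : ∃ j : Fin 8, P j = r k := ⟨⟨(r k).val, by omega⟩, rfl⟩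
    have := cS k
    rw [ext8_apply_ge _ _ _ hk, ← hj, hE] at this
    exact (show ∀ j : Fin 8, j ≠ qS j by decide +kernel) j (Pinj this)
  have img : ∀ j : Fin 8, ∃ l : Fin 8, r (P j) = P l ∧ (j.val < 6 ↔ l.val < 6) := by
    intro j
    have h8 : (r (P j)).val < 8 := clt qS _ (by
      rw [← cS, r.injective.ne_iff, hE]
      exact Pinj.ne ((show ∀ j : Fin 8, qS j ≠ j by decide +kernel) j))
    refine ⟨⟨_, h8⟩, rfl, ?_⟩
    have h : qX j = j ↔ qX ⟨(r (P j)).val, h8⟩ = ⟨(r (P j)).val, h8⟩ := by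
      rw [← Pinj.eq_iff, ← Pinj.eq_iff (a := qX _), ← hE, ← hE,
        show P ⟨(r (P j)).val, h8⟩ = r (P j) from rfl, ← cX, r.injective.eq_iff]
    have hd := show ∀ j : Fin 8, qX j = j ↔ ¬ j.val < 6 by decide +kernel
    rw [hd, hd] at h
    exact not_iff_not.1 h
  have s6 : ∀ j : Fin 8, ¬ j.val < 6 → r (r (P j)) = P j := by
    intro j hj
    obtain ⟨l, hl, hl6⟩ := img j
    have hl' : ¬ l.val < 6 := fun hc => hj (hl6.2 hc)
    obtain ⟨m, hm, hm6⟩ := img l
    have hm' : ¬ m.val < 6 := fun hc => hl' (hm6.2 hc)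
    rw [hl, hm]
    congr 1
    by_cases hjl : l = j
    · subst hjl; exact Pinj (hm.symm.trans hl)
    · by_contra hmj
      have : m = l := by omega
      exact hjl (Pinj (r.injective (by rw [hm, this, hl])))
  have s8 : ∀ k : Fin n, 8 ≤ k.val → r (r k) = k := by
    intro k hk
    have h1 := high k hk
    have h2 := high _ h1
    have hn := S.hi
    have hk' := k.isLt
    have h1' := (r k).isLt
    have h2' := (r (r k)).isLt
    by_cases h : r k = k
    · rw [h, h]
    · have a1 : (r k).val ≠ k.val := fun e => h (Fin.ext e)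
      have a2 : (r (r k)).val ≠ (r k).val := fun e => h (r.injective (Fin.ext e))
      exact Fin.ext (by omega)
  obtain ⟨i, hi⟩ : ∃ i : Fin 3, r (r (P 0)) = P ((qX ^ i.val) 0) := by
    obtain ⟨l, hl, hl6⟩ := img 0
    have hl' : l.val < 6 := hl6.1 (by decide)
    obtain ⟨i, hi⟩ : ∃ i : Fin 3, l = (qX ^ i.val) 0 ∨ l = qS ((qX ^ i.val) 0) :=
      (show ∀ l : Fin 8, l.val < 6 → ∃ i : Fin 3, l = (qX ^ i.val) 0 ∨ l = qS ((qX ^ i.val) 0) by decide +kernel) l hl'
    have cXi : ∀ k, r (ext8 S.le8 (qX ^ i.val) k) = ext8 S.le8 (qX ^ i.val) (r k) := by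
      rw [map_pow]; exact commute_app (hX.pow_right _)
    refine ⟨i + i, ?_⟩
    have hii := show ∀ i : Fin 3, (qX ^ (i + i).val) 0 = (qX ^ i.val) ((qX ^ i.val) 0) ∧
      qS ((qX ^ i.val) (qS ((qX ^ i.val) 0))) = (qX ^ i.val) ((qX ^ i.val) 0) by decide +kernel
    rcases hi with hi | hi
    · rw [(hii i).1, hl, hi, ← hE, cXi, hl, hE, hi]
    · rw [(hii i).1, ← (hii i).2, hl, hi, ← hE, cS, ← hE, cXi, hl, hE, hE, hi]
  have hq' : F.p g = F.p x ^ i.val := by
    rw [hq, hpx, ← map_pow]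
    refine Equiv.ext fun k => ?_
    show r (r k) = _
    by_cases hk : k.val < 8
    · obtain ⟨j, rfl⟩ : ∃ j : Fin 8, P j = k := ⟨⟨k.val, hk⟩, rfl⟩
      rw [hE]
      by_cases hj : j.val < 6
      · obtain ⟨t, ht⟩ : ∃ t : Fin 6, j = (qX ^ (t.val % 3)) (if t.val < 3 then 0 else qS 0) :=
          (show ∀ j : Fin 8, j.val < 6 → ∃ t : Fin 6, j = (qX ^ (t.val % 3)) (if t.val < 3 then 0 else qS 0) by
            decide +kernel) j hj
        have cXt : ∀ k, r (ext8 S.le8 (qX ^ (t.val % 3)) k) = ext8 S.le8 (qX ^ (t.val % 3)) (r k) := by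
          rw [map_pow]; exact commute_app (hX.pow_right _)
        rw [ht, ← hE, cXt, cXt]
        split_ifs with h
        · rw [hi, hE]
          congr 1
          exact (show ∀ (a : ℕ) (b : ℕ), (qX ^ a) ((qX ^ b) 0) = (qX ^ b) ((qX ^ a) 0) from fun a b => by
            rw [← Perm.mul_apply, ← pow_add, add_comm, pow_add, Perm.mul_apply]) _ _
        · rw [← hE qS, cS, cS, hi, hE, hE]
          congr 1
          exact (show ∀ a : Fin 3, ∀ b : Fin 3, (qX ^ a.val) (qS ((qX ^ b.val) 0)) = (qX ^ b.val) ((qX ^ a.val) (qS 0))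
            by decide +kernel) ⟨t.val % 3, Nat.mod_lt _ (by norm_num)⟩ i
      · rw [s6 j hj, (show ∀ i : Fin 3, ∀ j : Fin 8, ¬ j.val < 6 → (qX ^ i.val) j = j by decide +kernel) i j hj]
    · rw [s8 k (by omega), ext8_apply_ge _ _ _ (by omega)]
  have hxi : g = x ^ i.val := F.eq_of_odd hg (hxz.pow_left _) ho
    (Odd.of_dvd_nat (odd_of_pow_three hx3) (orderOf_pow_dvd _)) (by rw [hq', F.p_pow hxz])
  fin_cases i
  · exact Or.inl (hxi.trans (pow_zero x))
  · exact Or.inr (Or.inl (hxi.trans (pow_one x)))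
  · exact Or.inr (Or.inr (hxi.trans (pow_two x)))

end Setup

end Cfsg.Agent.AltDoubleCent
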