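import Cfsg.Agent.Lib.AltDoubleCent.Small
import Cfsg.Agent.Lib.AltDoubleCent.CoreZ
import Mathlib.GroupTheory.Sylow

/-!
# Three-subgroups when two disjoint three-cycles have a small centraliser

Main results: `Elts`, `Elts.cent_ab`, `Elts.three_in_C`.
-/

set_option autoImplicit false
set_option linter.style.haveILetI false
set_option maxHeartbeats 1000000

namespace Cfsg.Agent.AltDoubleCent

open Equiv Equiv.Perm

universe u

variable {G : Type u} [Group G] {n : ℕ} {z : G} {F : Frame G n z}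

/-- `(678)`. -/
def qC (h : 9 ≤ n) : Perm (Fin n) := swap (pt h 6) (pt h 7) * swap (pt h 7) (pt h 8)

/-- Labelled lifts. -/
structure Elts (S : Setup F) (x y a b c : G) : Prop where
  xz : Commute x z
  yz : Commute y z
  az : Commute a z
  bz : Commute b z
  cz : Commute c z
  px : F.p x = ext8 S.le8 qX
  py : F.p y = ext8 S.le8 qS
  pa : F.p a = ext8 S.le8 qA
  pb : F.p b = ext8 S.le8 qB
  pc : F.p c = qC S.lo
  x3 : x ^ 3 = 1
  a3 : a ^ 3 = 1
  b3 : b ^ 3 = 1
  c3 : c ^ 3 = 1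
  xab : x = a * b

lemma qC_facts (h : 9 ≤ n) : sign (qC h) = 1 ∧ qC h ^ 3 = 1 ∧ (qC h).support.card = 3 ∧ orderOf (qC h) = 3 := by
  have hne : ∀ i j : Fin 9, i ≠ j → pt h i ≠ pt h j := fun i j e => (Fin.castLE_injective h).ne e
  have h3 : (qC h).IsThreeCycle := by
    rw [qC, swap_comm (pt h 6) (pt h 7)]
    exact isThreeCycle_swap_mul_swap_same (hne _ _ (by decide)) (hne _ _ (by decide)) (hne _ _ (by decide))
  exact ⟨h3.sign, by rw [← h3.orderOf, pow_orderOf_eq_one], card_support_eq_three_iff.2 h3, h3.orderOf⟩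

theorem Setup.exists_elts (S : Setup F) : ∃ x y a b c : G, Elts S x y a b c := by
  obtain ⟨-, y, -, -, -, hy, hpy, -, -, -⟩ := S.exists_base
  have hl : ∀ q : Perm (Fin 8), sign q = 1 → orderOf q = 3 →
      ∃ g, Commute g z ∧ F.p g = ext8 S.le8 q ∧ g ^ 3 = 1 := fun q hs ho => by
    obtain ⟨g, hg, hp, -, hg3⟩ := F.exists_odd_lift (show sign (ext8 S.le8 q) = 1 by rw [sign_ext8, hs])
      (by rw [orderOf_injective (ext8 S.le8) (ext8_injective _), ho]; decide)
    rw [orderOf_injective (ext8 S.le8) (ext8_injective _), ho] at hg3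
    exact ⟨g, hg, hp, hg3⟩
  haveI : Fact (Nat.Prime 3) := ⟨Nat.prime_three⟩
  obtain ⟨a, ha, hpa, ha3⟩ := hl qA (by decide +kernel) (orderOf_eq_prime (by decide +kernel) (by decide +kernel))
  obtain ⟨b, hb, hpb, hb3⟩ := hl qB (by decide +kernel) (orderOf_eq_prime (by decide +kernel) (by decide +kernel))
  obtain ⟨hcs, -, -, hco⟩ := qC_facts S.lo
  obtain ⟨c, hc, hpc, -, hc3⟩ := F.exists_odd_lift hcs (by rw [hco]; decide)
  rw [hco] at hc3
  have hab : Commute b a := F.commute_of_odd ha hb (odd_of_pow_three ha3) (by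
    rw [hpa, hpb]
    exact (show Commute qA qB by show qA * qB = qB * qA; decide +kernel).map (ext8 S.le8))
  exact ⟨a * b, y, a, b, c, ha.mul_left hb, hy, ha, hb, hc,
    by rw [F.p_mul ha hb, hpa, hpb, qX_eq, map_mul], hpy, hpa, hpb, hpc,
    by rw [hab.symm.mul_pow, ha3, hb3, one_mul], ha3, hb3, hc3, rfl⟩

namespace Elts

variable {S : Setup F} {x y a b c : G} (E : Elts S x y a b c)
include E

lemma a_supp : (F.p a).support.card = 3 := by rw [E.pa, support_ext8]; decide +kernel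
lemma b_supp : (F.p b).support.card = 3 := by rw [E.pb, support_ext8]; decide +kernel
lemma c_supp : (F.p c).support.card = 3 := by rw [E.pc]; exact (qC_facts S.lo).2.2.1

lemma ab : Commute a b := (F.commute_of_odd E.az E.bz (odd_of_pow_three E.a3) (by
  rw [E.pa, E.pb]
  exact (show Commute qA qB by show qA * qB = qB * qA; decide +kernel).map (ext8 S.le8))).symm

lemma qC_comm (q : Perm (Fin 8)) (h6 : q 6 = 6) (h7 : q 7 = 7) : Commute (ext8 S.le8 q) (qC S.lo) := by
  have hfix : ∀ i : Fin 9, 6 ≤ i.val → ext8 S.le8 q (pt S.lo i) = pt S.lo i := by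
    intro i hi
    by_cases h8 : i.val < 8
    · have : i = 6 ∨ i = 7 := by omega
      rcases this with rfl | rfl
      · exact (ext8_apply S.le8 q 6).trans (congrArg (Fin.castLE S.le8) h6)
      · exact (ext8_apply S.le8 q 7).trans (congrArg (Fin.castLE S.le8) h7)
    · exact ext8_apply_ge _ _ _ (by show 8 ≤ i.val; omega)
  refine Commute.mul_right ?_ ?_ <;> refine mul_inv_eq_iff_eq_mul.1 ?_ <;>
    rw [← swap_apply_apply, hfix _ (by decide), hfix _ (by decide)]

lemma ac : Commute a c := (F.commute_of_odd E.az E.cz (odd_of_pow_three E.a3) (by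
  rw [E.pa, E.pc]; exact E.qC_comm qA (by decide +kernel) (by decide +kernel))).symm

lemma bc : Commute b c := (F.commute_of_odd E.bz E.cz (odd_of_pow_three E.b3) (by
  rw [E.pb, E.pc]; exact E.qC_comm qB (by decide +kernel) (by decide +kernel))).symm

lemma xy : Commute y x := F.commute_of_odd E.xz E.yz (odd_of_pow_three E.x3) (by
  rw [E.px, E.py]
  exact (show Commute qX qS by show qX * qS = qS * qX; decide +kernel).map (ext8 S.le8))

lemma yab : y * a * y⁻¹ = b := F.eq_of_odd (F.conj_z E.yz E.az) E.bz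
  (by rw [orderOf_conj']; exact odd_of_pow_three E.a3) (odd_of_pow_three E.b3)
  (by rw [F.p_conj E.yz E.az, E.py, E.pa, E.pb, ← map_inv, ← map_mul, ← map_mul]; congr 1; decide +kernel)

lemma yba : y * b * y⁻¹ = a := F.eq_of_odd (F.conj_z E.yz E.bz) E.az
  (by rw [orderOf_conj']; exact odd_of_pow_three E.b3) (odd_of_pow_three E.a3)
  (by rw [F.p_conj E.yz E.bz, E.py, E.pa, E.pb, ← map_inv, ← map_mul, ← map_mul]; congr 1; decide +kernel)

variable [Finite G] (hJ : ∀ w, InJ z a b w → w = 1)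
include hJ

theorem cent_ab {q : G} (hqa : Commute q a) (hqb : Commute q b) : Commute q z := by
  have h := hJ (z * q * z⁻¹ * q⁻¹) ⟨F.oddCent_zStar S.hi E.az E.a3 E.a_supp hqa,
    F.oddCent_zStar S.hi E.bz E.b3 E.b_supp hqb, by
      rw [F.z_inv, show z * (z * q * z * q⁻¹) * z = z * z * q * z * q⁻¹ * z by group, F.zz, one_mul,
        mul_inv_rev, mul_inv_rev, mul_inv_rev, inv_inv, F.z_inv]
      simp only [mul_assoc]⟩
  rw [mul_inv_eq_one] at h
  exact ((show Commute z q from mul_inv_eq_iff_eq_mul.1 h)).symm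

end Elts

lemma six_perm {u a b c : G} (h : u ∈ ({a, a⁻¹, b, b⁻¹, c, c⁻¹} : Set G)) :
    u ∈ ({b, b⁻¹, a, a⁻¹, c, c⁻¹} : Set G) ∧ u ∈ ({c, c⁻¹, a, a⁻¹, b, b⁻¹} : Set G) ∧
      u ∈ ({c, c⁻¹, b, b⁻¹, a, a⁻¹} : Set G) := by
  simp only [Set.mem_insert_iff, Set.mem_singleton_iff] at h ⊢
  rcases h with e | e | e | e | e | e <;> simp only [e, true_or, or_true, and_self]

lemma swap56 {u p q r : G} (h : u ∈ ({p, p⁻¹, q, q⁻¹, r, r⁻¹} : Set G)) :
    u ∈ ({p, p⁻¹, r, r⁻¹, q, q⁻¹} : Set G) := by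
  simp only [Set.mem_insert_iff, Set.mem_singleton_iff] at h ⊢
  rcases h with e | e | e | e | e | e <;> simp only [e, true_or, or_true]

/-- Elements of order three moving six points are conjugate to `x`. -/
theorem Setup.conj_of_six [Finite G] (S : Setup F) {x : G} (hxz : Commute x z) (hpx : F.p x = ext8 S.le8 qX)
    (hx3 : x ^ 3 = 1) {g : G} (hg : Commute g z) (h3 : g ^ 3 = 1) (h6 : (F.p g).support.card = 6) :
    ∃ c, Commute c z ∧ c * g * c⁻¹ = x := by
  refine F.odd_conj hg hxz (odd_of_pow_three h3) (odd_of_pow_three hx3) ?_ (by rw [h6]; have := S.lo; omega)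
  rw [cycleType_six (by rw [← F.p_pow hg, h3, F.p_one]) h6,
    cycleType_six (by rw [← F.p_pow hxz, hx3, F.p_one]) (S.x_support hpx)]

lemma point_of_support_six {q : Perm (Fin n)} (h9 : 9 ≤ n) (hn : n ≤ 10) (h6 : q.support.card = 6) :
    ∃ i : Fin 9, q (pt h9 i) = pt h9 i := by
  by_contra hcon
  push Not at hcon
  have hsub : (Finset.univ : Finset (Fin 9)).image (pt h9) ⊆ q.support := fun k hk => by
    obtain ⟨i, -, rfl⟩ := Finset.mem_image.1 hk
    exact Perm.mem_support.2 (hcon i)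
  have := Finset.card_le_card hsub
  rw [Finset.card_image_of_injective _ (show Function.Injective (pt (n := n) h9) from Fin.castLE_injective h9), Finset.card_univ, Fintype.card_fin, h6] at this
  omega

/-- Conjugation of order three permuting three pairs while fixing one of them fixes all. -/
lemma comm_of_six {u v w g : G} (hg : g ^ 3 = 1) (hv : v ^ 3 = 1) (hv1 : v ≠ 1) (hgu : g * u * g⁻¹ = u)
    (hv' : g * v * g⁻¹ ∈ ({u, u⁻¹, v, v⁻¹, w, w⁻¹} : Set G))
    (hw' : g * w * g⁻¹ ∈ ({u, u⁻¹, v, v⁻¹, w, w⁻¹} : Set G))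
    (h1 : v ≠ u) (h2 : v ≠ u⁻¹) (h3 : w ≠ u) (h4 : w ≠ u⁻¹) (h5 : v ≠ w) (h6 : v ≠ w⁻¹) : g * v * g⁻¹ = v := by
  let R : G → G → Prop := fun p q => p = q ∨ p = q⁻¹
  have tr : ∀ {p q r : G}, R p q → R q r → R p r := by
    rintro p q r (rfl | rfl) (rfl | rfl)
    · exact Or.inl rfl
    · exact Or.inr rfl
    · exact Or.inr rfl
    · exact Or.inl (inv_inv r)
  let k : G → G := fun p => g * p * g⁻¹
  have hk : ∀ {p q : G}, R p q → R (k p) (k q) := by
    rintro p q (rfl | rfl)
    · exact Or.inl rfl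
    · exact Or.inr (by show g * q⁻¹ * g⁻¹ = (g * q * g⁻¹)⁻¹; group)
  have k3 : ∀ p, k (k (k p)) = p := fun p => by
    show g * (g * (g * p * g⁻¹) * g⁻¹) * g⁻¹ = p
    rw [show g * (g * (g * p * g⁻¹) * g⁻¹) * g⁻¹ = (g * g * g) * p * (g * g * g)⁻¹ by group,
      show g * g * g = 1 by rw [← pow_three', hg]]
    group
  have nR : ∀ {p q : G}, R p q → p ≠ q → p ≠ q⁻¹ → False := fun h a b => h.elim a b
  have vv : v ≠ v⁻¹ := fun e => hv1 (by
    rw [pow_succ, pow_two] at hv
    rwa [show v * v = 1 by rw [mul_eq_one_iff_eq_inv]; exact e, one_mul] at hv)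
  simp only [Set.mem_insert_iff, Set.mem_singleton_iff] at hv' hw'
  have hku : ∀ {p : G}, R (k p) u → R p u := fun {p} h => by
    have := hk (hk h)
    rw [k3, show k (k u) = u by show g * (g * u * g⁻¹) * g⁻¹ = u; rw [hgu, hgu]] at this
    exact this
  rcases hv' with e | e | e | e | e | e
  · exact (nR (hku (Or.inl e)) h1 h2).elim
  · exact (nR (hku (Or.inr e)) h1 h2).elim
  · exact e
  · exfalso
    refine vv ?_
    have : k (k (k v)) = v⁻¹ := by
      show g * (g * (g * v * g⁻¹) * g⁻¹) * g⁻¹ = v⁻¹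
      rw [e, show g * v⁻¹ * g⁻¹ = (g * v * g⁻¹)⁻¹ by group, e, inv_inv, e]
    rw [k3] at this
    exact this
  all_goals
    have hvw : R (k v) w := by first | exact Or.inl e | exact Or.inr e
    exfalso
    have s2 := hk hvw
    rcases hw' with f | f | f | f | f | f
    · exact nR (hku (Or.inl f)) h3 h4
    · exact nR (hku (Or.inr f)) h3 h4
    · have hwf : R (k w) v := Or.inl f
      have s3 := hk (tr s2 hwf)
      rw [k3] at s3
      exact nR (tr s3 hvw) h5 h6
    · have hwf : R (k w) v := Or.inr f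
      have s3 := hk (tr s2 hwf)
      rw [k3] at s3
      exact nR (tr s3 hvw) h5 h6
    · have hwf : R (k w) w := Or.inl f
      have s3 := hk (tr s2 hwf)
      rw [k3] at s3
      exact nR (tr s3 hwf) h5 h6
    · have hwf : R (k w) w := Or.inr f
      have s3 := hk (tr s2 hwf)
      rw [k3] at s3
      exact nR (tr s3 hwf) h5 h6

namespace Elts

variable {S : Setup F} {x y a b c : G} (E : Elts S x y a b c)
include E

/-- The image of `a ^ i * b ^ j * c ^ k`. -/
lemma p_abc (i j k : ℕ) : F.p (a ^ i * b ^ j * c ^ k) =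
    ext8 S.le8 (qA ^ i * qB ^ j) * qC S.lo ^ k := by
  rw [F.p_mul ((E.az.pow_left i).mul_left (E.bz.pow_left j)) (E.cz.pow_left k),
    F.p_mul (E.az.pow_left i) (E.bz.pow_left j), F.p_pow E.az, F.p_pow E.bz, F.p_pow E.cz, E.pa, E.pb, E.pc,
    map_mul, map_pow, map_pow]

lemma mem_A_form {g : G} (hg : g ∈ Subgroup.closure ({a, b, c} : Set G)) :
    ∃ i j k : Fin 3, g = a ^ i.val * b ^ j.val * c ^ k.val := by
  have hmul : ∀ i j k i' j' k' : ℕ, a ^ i * b ^ j * c ^ k * (a ^ i' * b ^ j' * c ^ k') =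
      a ^ (i + i') * b ^ (j + j') * c ^ (k + k') := fun i j k i' j' k' => by
    rw [(((E.ac.symm).pow_pow k i').mul_right ((E.bc.symm).pow_pow k j')).mul_mul_mul_comm,
      (E.ab.symm.pow_pow j i').mul_mul_mul_comm, ← pow_add, ← pow_add, ← pow_add]
  have hmod : ∀ {p : G}, p ^ 3 = 1 → ∀ m, p ^ m = p ^ (m % 3) := fun hp m => by
    conv_lhs => rw [← Nat.mod_add_div m 3, pow_add, pow_mul, hp, one_pow, mul_one]
  suffices h : ∃ i j k : ℕ, g = a ^ i * b ^ j * c ^ k by
    obtain ⟨i, j, k, rfl⟩ := h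
    exact ⟨⟨i % 3, Nat.mod_lt _ (by norm_num)⟩, ⟨j % 3, Nat.mod_lt _ (by norm_num)⟩,
      ⟨k % 3, Nat.mod_lt _ (by norm_num)⟩, by rw [hmod E.a3 i, hmod E.b3 j, hmod E.c3 k]⟩
  induction hg using Subgroup.closure_induction with
  | mem w hw =>
    simp only [Set.mem_insert_iff, Set.mem_singleton_iff] at hw
    rcases hw with rfl | rfl | rfl
    · exact ⟨1, 0, 0, by simp⟩
    · exact ⟨0, 1, 0, by simp⟩
    · exact ⟨0, 0, 1, by simp⟩
  | one => exact ⟨0, 0, 0, by simp⟩
  | mul p q _ _ ihp ihq =>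
    obtain ⟨i, j, k, rfl⟩ := ihp
    obtain ⟨i', j', k', rfl⟩ := ihq
    exact ⟨_, _, _, hmul i j k i' j' k'⟩
  | inv p _ ih =>
    obtain ⟨i, j, k, rfl⟩ := ih
    refine ⟨2 * i, 2 * j, 2 * k, inv_eq_of_mul_eq_one_right ?_⟩
    rw [hmul, show i + 2 * i = 3 * i by ring, show j + 2 * j = 3 * j by ring, show k + 2 * k = 3 * k by ring,
      pow_mul, pow_mul, pow_mul, E.a3, E.b3, E.c3, one_pow, one_pow, one_pow, one_mul, one_mul]

lemma abc_eval (i j k : ℕ) :
    F.p (a ^ i * b ^ j * c ^ k) (pt S.lo 0) = pt S.lo (Fin.castLE (by norm_num) ((qA ^ i * qB ^ j) 0)) ∧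
    F.p (a ^ i * b ^ j * c ^ k) (pt S.lo 3) = pt S.lo (Fin.castLE (by norm_num) ((qA ^ i * qB ^ j) 3)) := by
  have hC : ∀ l : Fin 8, l.val < 6 → qC S.lo (Fin.castLE S.le8 l) = Fin.castLE S.le8 l := fun l hl => by
    have hne : ∀ m : Fin 9, 6 ≤ m.val → Fin.castLE S.le8 l ≠ pt S.lo m := fun m hm e => by
      have : l.val = m.val := congrArg Fin.val e
      omega
    show swap _ _ (swap _ _ _) = _
    rw [swap_apply_of_ne_of_ne (hne 7 (by decide)) (hne 8 (by decide)),
      swap_apply_of_ne_of_ne (hne 6 (by decide)) (hne 7 (by decide))]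
  have hCk : ∀ l : Fin 8, l.val < 6 → (qC S.lo ^ k) (Fin.castLE S.le8 l) = Fin.castLE S.le8 l := fun l hl =>
    Equiv.Perm.pow_apply_eq_self_of_apply_eq_self (hC l hl) k
  rw [E.p_abc]
  constructor
  · rw [Perm.mul_apply, show pt S.lo 0 = Fin.castLE S.le8 0 from rfl, hCk 0 (by decide), ext8_apply]; rfl
  · rw [Perm.mul_apply, show pt S.lo 3 = Fin.castLE S.le8 3 from rfl, hCk 3 (by decide), ext8_apply]; rfl

lemma abc_injective : Function.Injective fun p : Fin 3 × Fin 3 × Fin 3 =>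
    (⟨a ^ p.1.val * b ^ p.2.1.val * c ^ p.2.2.val,
      mul_mem (mul_mem (pow_mem (Subgroup.subset_closure (by simp)) _) (pow_mem (Subgroup.subset_closure (by simp)) _))
        (pow_mem (Subgroup.subset_closure (by simp)) _)⟩ : Subgroup.closure ({a, b, c} : Set G)) := by
  rintro ⟨i, j, k⟩ ⟨i', j', k'⟩ e
  have e' : a ^ i.val * b ^ j.val * c ^ k.val = a ^ i'.val * b ^ j'.val * c ^ k'.val := congrArg Subtype.val e
  have hd := show ∀ i j i' j' : Fin 3, (qA ^ i.val * qB ^ j.val) 0 = (qA ^ i'.val * qB ^ j'.val) 0 →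
      (qA ^ i.val * qB ^ j.val) 3 = (qA ^ i'.val * qB ^ j'.val) 3 → i = i' ∧ j = j' by decide +kernel
  have h0 := (E.abc_eval i j k).1
  have h3 := (E.abc_eval i j k).2
  rw [e', (E.abc_eval i' j' k').1] at h0
  rw [e', (E.abc_eval i' j' k').2] at h3
  obtain ⟨rfl, rfl⟩ := hd i j i' j'
    (Fin.castLE_injective _ (Fin.castLE_injective _ h0)).symm (Fin.castLE_injective _ (Fin.castLE_injective _ h3)).symm
  have ek : c ^ k.val = c ^ k'.val := mul_left_cancel e'
  haveI : Fact (Nat.Prime 3) := ⟨Nat.prime_three⟩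
  have ho : orderOf c = 3 := orderOf_eq_prime E.c3 fun e => by
    have := E.c_supp
    rw [e, F.p_one, support_one] at this
    simp at this
  have := pow_injOn_Iio_orderOf (x := c) (Set.mem_Iio.2 (by rw [ho]; exact k.isLt))
    (Set.mem_Iio.2 (by rw [ho]; exact k'.isLt)) ek
  rw [Fin.ext this]

/-- Elements of `<a, b, c>` with a three-cycle image. -/
lemma three_mem {g : G} (hg : g ∈ Subgroup.closure ({a, b, c} : Set G)) (h3 : (F.p g).support.card = 3) :
    g ∈ ({a, a⁻¹, b, b⁻¹, c, c⁻¹} : Set G) := by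
  obtain ⟨i, j, k, rfl⟩ := E.mem_A_form hg
  rw [E.p_abc] at h3
  have hdisj : Disjoint (ext8 S.le8 (qA ^ i.val * qB ^ j.val)) (qC S.lo ^ k.val) := by
    intro l
    by_cases hl : l.val < 6
    · right
      refine Equiv.Perm.pow_apply_eq_self_of_apply_eq_self ?_ _
      have hne : ∀ m : Fin 9, 6 ≤ m.val → l ≠ pt S.lo m := fun m hm e => by
        have : l.val = m.val := congrArg Fin.val e
        omega
      show swap _ _ (swap _ _ _) = _
      rw [swap_apply_of_ne_of_ne (hne 7 (by decide)) (hne 8 (by decide)),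
        swap_apply_of_ne_of_ne (hne 6 (by decide)) (hne 7 (by decide))]
    · left
      by_cases h8 : l.val < 8
      · obtain ⟨m, rfl⟩ : ∃ m : Fin 8, Fin.castLE S.le8 m = l := ⟨⟨l.val, h8⟩, rfl⟩
        rw [ext8_apply]
        congr 1
        exact (show ∀ i j : Fin 3, ∀ m : Fin 8, ¬ m.val < 6 → (qA ^ i.val * qB ^ j.val) m = m by decide +kernel) i j m hl
      · exact ext8_apply_ge _ _ _ (by omega)
  rw [hdisj.card_support_mul, support_ext8] at h3
  obtain ⟨-, hC3, hCs, -⟩ := qC_facts S.lo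
  have hk : k = 0 ∨ (qC S.lo ^ k.val).support.card = 3 := by
    fin_cases k
    · exact Or.inl rfl
    · exact Or.inr (by simpa using hCs)
    · refine Or.inr ?_
      show (qC S.lo ^ 2).support.card = 3
      rw [show qC S.lo ^ 2 = (qC S.lo)⁻¹ from eq_inv_of_mul_eq_one_left (by rw [← pow_succ, hC3]), support_inv, hCs]
  have hij := show ∀ i j : Fin 3, ((qA ^ i.val * qB ^ j.val).support.card = 0 → i = 0 ∧ j = 0) ∧
      ((qA ^ i.val * qB ^ j.val).support.card = 3 → (i = 0 ∧ j ≠ 0) ∨ (j = 0 ∧ i ≠ 0)) ∧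
      (qA ^ i.val * qB ^ j.val).support.card ∈ [0, 3, 6] by decide +kernel
  obtain ⟨h0, h3', hm⟩ := hij i j
  have two : ∀ {p : G}, p ^ 3 = 1 → p ^ 2 = p⁻¹ := fun hp =>
    eq_inv_of_mul_eq_one_left (by rw [← pow_succ, hp])
  simp only [List.mem_cons, List.not_mem_nil, or_false] at hm
  rcases hk with rfl | hk
  · rw [show ((0 : Fin 3) : ℕ) = 0 from rfl, pow_zero, support_one, Finset.card_empty, add_zero] at h3
    rcases h3' h3 with ⟨rfl, hj⟩ | ⟨rfl, hi⟩
    · fin_cases j <;> simp_all [two E.b3]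
    · fin_cases i <;> simp_all [two E.a3]
  · obtain ⟨rfl, rfl⟩ := h0 (by omega)
    fin_cases k <;> simp_all [two E.c3]

/-- An element of order three centralising `a`, `b`, `c` lies in `<a, b, c>`. -/
lemma mem_A {v : G} (hvz : Commute v z) (hv3 : v ^ 3 = 1) (hva : Commute v a) (hvb : Commute v b) (hvc : Commute v c) :
    v ∈ Subgroup.closure ({a, b, c} : Set G) := by
  set P : Fin 9 → Fin n := pt S.lo with hP
  have hcm : ∀ {u : G}, Commute u z → Commute v u → ∀ k, F.p v (F.p u k) = F.p u (F.p v k) := fun hu h k => by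
    have e := congrArg F.p h.eq
    rw [F.p_mul hvz hu, F.p_mul hu hvz] at e
    exact congrArg (fun r : Perm (Fin n) => r k) e
  have hA8 : ∀ (q : Perm (Fin 8)) (l : Fin 8), ext8 S.le8 q (P (l.castLE (by norm_num))) = P ((q l).castLE (by norm_num)) :=
    fun q l => ext8_apply S.le8 q l
  have sa : ∀ k, F.p a k ≠ k → k = P 0 ∨ k = P 1 ∨ k = P 2 := fun k hk => by
    rw [E.pa] at hk
    have h8 : k.val < 8 := by
      by_contra hc; exact hk (ext8_apply_ge _ _ _ (by omega))
    obtain ⟨l, rfl⟩ : ∃ l : Fin 8, P (l.castLE (by norm_num)) = k := ⟨⟨k.val, h8⟩, rfl⟩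
    rw [hA8] at hk
    have hd := show ∀ l : Fin 8, qA l ≠ l → l = 0 ∨ l = 1 ∨ l = 2 by decide +kernel
    rcases hd l (fun e => hk (by rw [e])) with rfl | rfl | rfl
    exacts [Or.inl rfl, Or.inr (Or.inl rfl), Or.inr (Or.inr rfl)]
  have sb : ∀ k, F.p b k ≠ k → k = P 3 ∨ k = P 4 ∨ k = P 5 := fun k hk => by
    rw [E.pb] at hk
    have h8 : k.val < 8 := by
      by_contra hc; exact hk (ext8_apply_ge _ _ _ (by omega))
    obtain ⟨l, rfl⟩ : ∃ l : Fin 8, P (l.castLE (by norm_num)) = k := ⟨⟨k.val, h8⟩, rfl⟩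
    rw [hA8] at hk
    have hd := show ∀ l : Fin 8, qB l ≠ l → l = 3 ∨ l = 4 ∨ l = 5 by decide +kernel
    rcases hd l (fun e => hk (by rw [e])) with rfl | rfl | rfl
    exacts [Or.inl rfl, Or.inr (Or.inl rfl), Or.inr (Or.inr rfl)]
  have hi := Fin.castLE_injective (n := n) S.lo
  have cP : ∀ l : Fin 9, F.p c (P l) = P ((swap 6 7 * swap 7 8 : Perm (Fin 9)) l) := fun l => by
    rw [E.pc]
    show swap _ _ (swap _ _ (P l)) = _
    rw [hP]
    unfold pt
    rw [hi.swap_apply, hi.swap_apply]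
    rfl
  have sc : ∀ k, F.p c k ≠ k → k = P 6 ∨ k = P 7 ∨ k = P 8 := fun k hk => by
    rw [E.pc] at hk
    by_contra hc
    simp only [not_or, hP] at hc
    refine hk ?_
    show swap _ _ (swap _ _ k) = k
    rw [swap_apply_of_ne_of_ne hc.2.1 hc.2.2, swap_apply_of_ne_of_ne hc.1 hc.2.1]
  have a0 : F.p a (P 0) = P 1 ∧ F.p a (P 1) = P 2 ∧ F.p a (P 2) = P 0 := by
    rw [E.pa]
    exact ⟨(ext8_apply S.le8 qA 0).trans (congrArg (Fin.castLE S.le8) (by decide +kernel : qA 0 = 1)),
      (ext8_apply S.le8 qA 1).trans (congrArg (Fin.castLE S.le8) (by decide +kernel : qA 1 = 2)),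
      (ext8_apply S.le8 qA 2).trans (congrArg (Fin.castLE S.le8) (by decide +kernel : qA 2 = 0))⟩
  have b0 : F.p b (P 3) = P 4 ∧ F.p b (P 4) = P 5 ∧ F.p b (P 5) = P 3 := by
    rw [E.pb]
    exact ⟨(ext8_apply S.le8 qB 3).trans (congrArg (Fin.castLE S.le8) (by decide +kernel : qB 3 = 4)),
      (ext8_apply S.le8 qB 4).trans (congrArg (Fin.castLE S.le8) (by decide +kernel : qB 4 = 5)),
      (ext8_apply S.le8 qB 5).trans (congrArg (Fin.castLE S.le8) (by decide +kernel : qB 5 = 3))⟩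
  have c0 : F.p c (P 6) = P 7 ∧ F.p c (P 7) = P 8 ∧ F.p c (P 8) = P 6 :=
    ⟨(cP 6).trans (congrArg P (by decide +kernel)), (cP 7).trans (congrArg P (by decide +kernel)),
      (cP 8).trans (congrArg P (by decide +kernel))⟩
  have pick : ∀ {u : G} {p0 p1 p2 : Fin n}, Commute u z → Commute v u →
      F.p u p0 = p1 ∧ F.p u p1 = p2 ∧ F.p u p2 = p0 → p1 ≠ p0 → (∀ k, F.p u k ≠ k → k = p0 ∨ k = p1 ∨ k = p2) →
      ∃ i : ℕ, F.p v p0 = (F.p u ^ i) p0 ∧ F.p v p1 = (F.p u ^ i) p1 ∧ F.p v p2 = (F.p u ^ i) p2 := by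
    intro u p0 p1 p2 hu hvu h hne hsupp
    obtain ⟨i, hi⟩ : ∃ i : ℕ, F.p v p0 = (F.p u ^ i) p0 := by
      rcases hsupp (F.p v p0) (by rw [← hcm hu hvu, (F.p v).injective.ne_iff, h.1]; exact hne) with e | e | e
      · exact ⟨0, e⟩
      · exact ⟨1, by rw [e, pow_one, h.1]⟩
      · exact ⟨2, by rw [e, pow_two, Perm.mul_apply, h.1, h.2.1]⟩
    have e1 : F.p v p1 = (F.p u ^ i) p1 := by
      rw [← h.1, hcm hu hvu, hi, ← Perm.mul_apply, ← pow_succ', pow_succ, Perm.mul_apply]
    refine ⟨i, hi, e1, ?_⟩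
    rw [← h.2.1, hcm hu hvu, e1, ← Perm.mul_apply, ← pow_succ', pow_succ, Perm.mul_apply]
  have hP' : Function.Injective P := hi
  obtain ⟨i, i0, i1, i2⟩ := pick E.az hva a0 (hP'.ne (by decide)) sa
  obtain ⟨j, j0, j1, j2⟩ := pick E.bz hvb b0 (hP'.ne (by decide)) sb
  obtain ⟨k, k0, k1, k2⟩ := pick E.cz hvc c0 (hP'.ne (by decide)) sc
  have hw : a ^ i * b ^ j * c ^ k ∈ Subgroup.closure ({a, b, c} : Set G) :=
    mul_mem (mul_mem (pow_mem (Subgroup.subset_closure (by simp)) _) (pow_mem (Subgroup.subset_closure (by simp)) _))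
      (pow_mem (Subgroup.subset_closure (by simp)) _)
  have hwz : Commute (a ^ i * b ^ j * c ^ k) z :=
    ((E.az.pow_left _).mul_left (E.bz.pow_left _)).mul_left (E.cz.pow_left _)
  have hw3 : (a ^ i * b ^ j * c ^ k) ^ 3 = 1 := by
    rw [(((E.ac).pow_pow i k).mul_left ((E.bc).pow_pow j k)).mul_pow, (E.ab.pow_pow _ _).mul_pow,
      ← pow_mul, ← pow_mul, ← pow_mul, mul_comm i, mul_comm j, mul_comm k, pow_mul, pow_mul, pow_mul,
      E.a3, E.b3, E.c3, one_pow, one_pow, one_pow, one_mul, one_mul]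
  have hfx : ∀ {u : G} {l : Fin n} (m : ℕ), F.p u l = l → (F.p u ^ m) l = l := fun m h =>
    Equiv.Perm.pow_apply_eq_self_of_apply_eq_self h m
  have fa : ∀ l : Fin 9, 3 ≤ l.val → F.p a (P l) = P l := fun l hl => by
    by_contra h
    rcases sa _ h with e | e | e <;> have := hP' e <;> subst this <;> simp at hl
  have fb : ∀ l : Fin 9, l.val < 3 ∨ 6 ≤ l.val → F.p b (P l) = P l := fun l hl => by
    by_contra h
    rcases sb _ h with e | e | e <;> have := hP' e <;> subst this <;> simp at hl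
  have fc : ∀ l : Fin 9, l.val < 6 → F.p c (P l) = P l := fun l hl => by
    by_contra h
    rcases sc _ h with e | e | e <;> have := hP' e <;> subst this <;> simp at hl
  have hpw : F.p (a ^ i * b ^ j * c ^ k) = F.p a ^ i * F.p b ^ j * F.p c ^ k := by
    rw [F.p_mul ((E.az.pow_left i).mul_left (E.bz.pow_left j)) (E.cz.pow_left k),
      F.p_mul (E.az.pow_left i) (E.bz.pow_left j), F.p_pow E.az, F.p_pow E.bz, F.p_pow E.cz]
  have h9 : ∀ l : Fin 9, F.p v (P l) = F.p (a ^ i * b ^ j * c ^ k) (P l) := by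
    intro l
    rw [hpw, Perm.mul_apply, Perm.mul_apply]
    have mA : ∀ m : Fin 9, 6 ≤ m.val → (F.p c ^ k) (P l) = P m → (F.p a ^ i) ((F.p b ^ j) ((F.p c ^ k) (P l))) = P m :=
      fun m hm e => by rw [e, hfx j (fb m (Or.inr hm)), hfx i (fa m (by omega))]
    have hl := l.isLt
    rcases (show l.val < 3 ∨ (3 ≤ l.val ∧ l.val < 6) ∨ 6 ≤ l.val by omega) with h | h | h
    · rw [hfx k (fc l (by omega)), hfx j (fb l (Or.inl h))]
      have : l = 0 ∨ l = 1 ∨ l = 2 := by omega
      rcases this with rfl | rfl | rfl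
      exacts [i0, i1, i2]
    · rw [hfx k (fc l h.2)]
      have hb' : ∀ m : ℕ, ∃ l' : Fin 9, 3 ≤ l'.val ∧ (F.p b ^ m) (P l) = P l' := fun m => by
        induction m with
        | zero => exact ⟨l, h.1, rfl⟩
        | succ m ih =>
          obtain ⟨l', hl', e⟩ := ih
          rw [pow_succ', Perm.mul_apply, e]
          by_cases hne : F.p b (P l') = P l'
          · exact ⟨l', hl', hne⟩
          · rcases sb _ (fun e' => hne ((F.p b).injective e')) with e' | e' | e' <;>
              exact ⟨_, by decide, e'⟩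
      obtain ⟨l', hl', e⟩ := hb' j
      rw [e, hfx i (fa l' hl'), ← e]
      have : l = 3 ∨ l = 4 ∨ l = 5 := by omega
      rcases this with rfl | rfl | rfl
      exacts [j0, j1, j2]
    · have hc' : ∀ m : ℕ, ∃ l' : Fin 9, 6 ≤ l'.val ∧ (F.p c ^ m) (P l) = P l' := fun m => by
        induction m with
        | zero => exact ⟨l, h, rfl⟩
        | succ m ih =>
          obtain ⟨l', hl', e⟩ := ih
          rw [pow_succ', Perm.mul_apply, e]
          by_cases hne : F.p c (P l') = P l'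
          · exact ⟨l', hl', hne⟩
          · rcases sc _ (fun e' => hne ((F.p c).injective e')) with e' | e' | e' <;>
              exact ⟨_, by decide, e'⟩
      obtain ⟨l', hl', e⟩ := hc' k
      rw [mA l' hl' e, ← e]
      have : l = 6 ∨ l = 7 ∨ l = 8 := by omega
      rcases this with rfl | rfl | rfl
      exacts [k0, k1, k2]
  have hp : F.p v = F.p (a ^ i * b ^ j * c ^ k) := by
    refine Equiv.ext fun l => ?_
    by_cases hl : l.val < 9
    · exact h9 ⟨l.val, hl⟩
    · -- the remaining point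
      set w := F.p (a ^ i * b ^ j * c ^ k)
      by_contra hne
      obtain ⟨l', hl'⟩ := w.surjective (F.p v l)
      by_cases h' : l'.val < 9
      · exact hne (((F.p v).injective ((h9 ⟨l'.val, h'⟩).trans hl')) ▸ hl'.symm)
      · have := S.hi
        exact hne (by rw [← hl', show l' = l from Fin.ext (by omega)])
  exact (F.eq_of_odd hvz hwz (odd_of_pow_three hv3) (odd_of_pow_three hw3) hp) ▸ hw

variable [Finite G] (hJ : ∀ w, InJ z a b w → w = 1)
include hJ

/-- Every three-subgroup has a conjugate in the centraliser of `z`. -/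
theorem three_in_C (Q : Subgroup G) (hQ : IsPGroup 3 Q) : ∃ g : G, ∀ v ∈ Q, Commute (g * v * g⁻¹) z := by
  haveI : Fact (Nat.Prime 3) := ⟨Nat.prime_three⟩
  set A := Subgroup.closure ({a, b, c} : Set G) with hA
  have mA : a ∈ A ∧ b ∈ A ∧ c ∈ A := ⟨Subgroup.subset_closure (by simp), Subgroup.subset_closure (by simp),
    Subgroup.subset_closure (by simp)⟩
  have hA3 : ∀ v ∈ A, v ^ 3 = 1 := by
    intro v hv
    obtain ⟨i, j, k, rfl⟩ := E.mem_A_form hv
    rw [(((E.ac).pow_pow i.val k.val).mul_left ((E.bc).pow_pow j.val k.val)).mul_pow, (E.ab.pow_pow _ _).mul_pow,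
      ← pow_mul, ← pow_mul, ← pow_mul, mul_comm i.val, mul_comm j.val, mul_comm k.val, pow_mul, pow_mul, pow_mul,
      E.a3, E.b3, E.c3, one_pow, one_pow, one_pow, one_mul, one_mul]
  have hAz : ∀ v ∈ A, Commute v z ∧ Commute v a ∧ Commute v b := by
    intro v hv
    obtain ⟨i, j, k, rfl⟩ := E.mem_A_form hv
    exact ⟨((E.az.pow_left _).mul_left (E.bz.pow_left _)).mul_left (E.cz.pow_left _),
      (((Commute.refl a).pow_left _).mul_left (E.ab.symm.pow_left _)).mul_left (E.ac.symm.pow_left _),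
      ((E.ab.pow_left _).mul_left ((Commute.refl b).pow_left _)).mul_left (E.bc.symm.pow_left _)⟩
  have hAp : IsPGroup 3 A := fun v => ⟨1, Subtype.ext (by simpa using hA3 v v.2)⟩
  obtain ⟨T, hT⟩ := hAp.exists_le_sylow
  suffices hTC : (T : Subgroup G) ≤ Subgroup.centralizer ({z} : Set G) by
    obtain ⟨Q', hQ'⟩ := hQ.exists_le_sylow
    obtain ⟨g, hg⟩ := MulAction.exists_smul_eq G Q' T
    refine ⟨g, fun v hv => Subgroup.mem_centralizer_singleton_iff.1 (hTC ?_)⟩
    rw [← hg, Sylow.coe_subgroup_smul]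
    exact ⟨v, hQ' hv, by simp [MulAut.conj_apply]⟩
  set C := Subgroup.centralizer ({z} : Set G) with hC
  set T0 := (T : Subgroup G) ⊓ C with hT0
  have hAC : A ≤ C := fun v hv => Subgroup.mem_centralizer_singleton_iff.2 (hAz v hv).1.eq
  have hAT0 : A ≤ T0 := le_inf hT hAC
  -- order of a three-subgroup of the centraliser
  have hCcard : Nat.card C = n.factorial := by
    have h := Subgroup.card_eq_card_quotient_mul_card_subgroup F.π.ker
    rw [Nat.card_congr (QuotientGroup.quotientKerEquivRange F.π).toEquiv] at h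
    have hr : F.π.range = alternatingGroup (Fin n) := by
      ext σ
      rw [MonoidHom.mem_range, mem_alternatingGroup]
      exact ⟨fun ⟨g, hg⟩ => hg ▸ F.dc.even g, fun hs => F.dc.surj σ hs⟩
    have hk : Nat.card F.π.ker = 2 := by
      have : F.π.ker = Subgroup.zpowers (⟨z, Subgroup.mem_centralizer_singleton_iff.2 rfl⟩ : C) := by
        ext g
        rw [MonoidHom.mem_ker, F.dc.ker]
        constructor
        · rintro (rfl | rfl)
          · exact one_mem _
          · exact Subgroup.mem_zpowers _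
        · intro hg
          obtain ⟨i, rfl⟩ := Subgroup.mem_zpowers_iff.1 hg
          rcases Int.even_or_odd i with ⟨r, rfl⟩ | ⟨r, rfl⟩
          · left
            rw [← two_mul, zpow_mul, zpow_two, F.dc.zz, one_zpow]
          · right
            rw [zpow_add_one, zpow_mul, zpow_two, F.dc.zz, one_zpow, one_mul]
      rw [this, Nat.card_zpowers, F.dc.ord]
    rw [hr, hk] at h
    haveI : Nontrivial (Fin n) := Fin.nontrivial_iff_two_le.2 (by have := S.lo; omega)
    rw [h, nat_card_alternatingGroup, Nat.card_fin, Nat.div_mul_cancel (Nat.dvd_factorial (by norm_num) (by have := S.lo; omega))]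
  obtain ⟨m, hm⟩ := (IsPGroup.iff_card).1 (T.isPGroup'.to_le (inf_le_left : T0 ≤ (T : Subgroup G)))
  have hm4 : m ≤ 4 := by
    have hd := hCcard ▸ Subgroup.card_dvd_of_le (inf_le_right : T0 ≤ C)
    rw [hm] at hd
    by_contra hc
    have h5 := (Nat.pow_dvd_pow 3 (show 5 ≤ m by omega)).trans hd
    have : n = 9 ∨ n = 10 := by have := S.lo; have := S.hi; omega
    rcases this with rfl | rfl <;> norm_num [Nat.factorial] at h5
  have h27 : 27 ≤ Nat.card A := by
    have := Nat.card_le_card_of_injective _ E.abc_injective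
    simpa using this
  have hnorm : ∀ t ∈ T0, ∀ v ∈ A, t * v * t⁻¹ ∈ A := by
    have hdvd := Subgroup.card_dvd_of_le hAT0
    rw [hm] at hdvd
    obtain ⟨j, hj, hA'⟩ := (Nat.dvd_prime_pow Nat.prime_three).1 hdvd
    have hj3 : 3 ≤ j := by
      by_contra hc
      have := Nat.pow_le_pow_right (show 0 < 3 by norm_num) (show j ≤ 2 by omega)
      omega
    by_cases hjm : j = m
    · intro t ht v hv
      have : A = T0 := Subgroup.eq_of_le_of_card_ge hAT0 (by rw [hm, hA', hjm])
      rw [this] at hv ⊢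
      exact mul_mem (mul_mem ht hv) (inv_mem ht)
    · have hidx : (A.subgroupOf T0).index = 3 := by
        have h1 := (A.subgroupOf T0).card_mul_index
        rw [Nat.card_congr (Subgroup.subgroupOfEquivOfLe hAT0).toEquiv, hm, hA', show m = j + 1 by omega, pow_succ] at h1
        exact Nat.eq_of_mul_eq_mul_left (by positivity) h1
      have : (A.subgroupOf T0).Normal := Subgroup.normal_of_index_eq_minFac_card (by
        rw [hidx, hm, Nat.Prime.pow_minFac Nat.prime_three (by omega)])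
      intro t ht v hv
      have := this.conj_mem ⟨v, hAT0 hv⟩ (Subgroup.mem_subgroupOf.2 hv) ⟨t, ht⟩
      exact Subgroup.mem_subgroupOf.1 this
  -- Four elements of order three lie in `A`
  have key : ∀ v ∈ T0, v ^ 3 = 1 → v ≠ 1 → Four v → v ∈ A := by
    intro v hv hv3 hv1 hvF
    have hvz : Commute v z := Subgroup.mem_centralizer_singleton_iff.1 hv.2
    have h6 := F.four_card S.hi hvz hv3 hv1 hvF
    obtain ⟨l, hl⟩ := point_of_support_six S.lo S.hi h6
    have himg : ∀ u ∈ A, (F.p u).support.card = 3 → v * u * v⁻¹ ∈ ({a, a⁻¹, b, b⁻¹, c, c⁻¹} : Set G) :=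
      fun u hu hu3 => E.three_mem (hnorm v hv u hu) (by rw [F.p_conj hvz (hAz u hu).1, card_support_conj, hu3])
    have fixp : ∀ u ∈ A, (F.p u).support.card = 3 → F.p u (pt S.lo l) ≠ pt S.lo l → v * u * v⁻¹ ∈ ({u, u⁻¹} : Set G) → v * u * v⁻¹ = u := by
      intro u hu hu3 _ he
      simp only [Set.mem_insert_iff, Set.mem_singleton_iff] at he
      rcases he with e | e
      · exact e
      · exfalso
        have h3 : v * (v * (v * u * v⁻¹) * v⁻¹) * v⁻¹ = u := by
          rw [show v * (v * (v * u * v⁻¹) * v⁻¹) * v⁻¹ = (v * v * v) * u * (v * v * v)⁻¹ by group, ← pow_three' v, hv3]; group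
        have cinv : v * u⁻¹ * v⁻¹ = (v * u * v⁻¹)⁻¹ := by group
        rw [e, cinv, e, inv_inv, e] at h3
        have hu1 : u = 1 := by
          have := hA3 u hu
          rw [pow_succ, pow_two, show u * u = 1 by rw [mul_eq_one_iff_eq_inv]; exact h3.symm, one_mul] at this
          exact this
        rw [hu1, F.p_one, support_one] at hu3
        simp at hu3
    have hfx : ∀ u ∈ A, F.p (v * u * v⁻¹) (pt S.lo l) = F.p v (F.p u (pt S.lo l)) := fun u hu => by
      rw [F.p_conj hvz (hAz u hu).1, Perm.mul_apply, Perm.mul_apply]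
      congr 2
      rw [Perm.inv_eq_iff_eq, hl]
    -- the triple of the fixed point
    have hs : ∀ u ∈ ({a, b, c} : Set G), (F.p u).support.card = 3 := by
      rintro u (rfl | rfl | rfl)
      exacts [E.a_supp, E.b_supp, E.c_supp]
    have hev : ∀ l : Fin 8, (qA l ≠ l ↔ l.val < 3) ∧ (qB l ≠ l ↔ 3 ≤ l.val ∧ l.val < 6) := by decide +kernel
    have ma : F.p a (pt S.lo l) ≠ pt S.lo l ↔ l.val < 3 := by
      by_cases h8 : l.val < 8
      · rw [E.pa, show pt S.lo l = Fin.castLE S.le8 ⟨l.val, h8⟩ from rfl, ext8_apply, (Fin.castLE_injective _).ne_iff]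
        exact (hev ⟨l.val, h8⟩).1
      · rw [E.pa, ext8_apply_ge _ _ _ (by show 8 ≤ l.val; omega)]
        simp; omega
    have mb : F.p b (pt S.lo l) ≠ pt S.lo l ↔ 3 ≤ l.val ∧ l.val < 6 := by
      by_cases h8 : l.val < 8
      · rw [E.pb, show pt S.lo l = Fin.castLE S.le8 ⟨l.val, h8⟩ from rfl, ext8_apply, (Fin.castLE_injective _).ne_iff]
        exact (hev ⟨l.val, h8⟩).2
      · rw [E.pb, ext8_apply_ge _ _ _ (by show 8 ≤ l.val; omega)]
        simp; omega
    have mc : F.p c (pt S.lo l) ≠ pt S.lo l ↔ 6 ≤ l.val := by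
      rw [E.pc]
      have hd := show ∀ l : Fin 9, ((swap 6 7 * swap 7 8 : Perm (Fin 9)) l ≠ l ↔ 6 ≤ l.val) by decide +kernel
      have hi := Fin.castLE_injective (n := n) S.lo
      show swap _ _ (swap _ _ (pt S.lo l)) ≠ _ ↔ _
      unfold pt
      rw [hi.swap_apply, hi.swap_apply, hi.ne_iff]
      exact hd l
    -- the conjugate of the moving cycle moves the fixed point
    have hmove : ∀ u ∈ A, F.p u (pt S.lo l) ≠ pt S.lo l → F.p (v * u * v⁻¹) (pt S.lo l) ≠ pt S.lo l := fun u hu hne e => by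
      rw [hfx u hu] at e
      exact hne ((F.p v).injective (e.trans hl.symm))
    have hfinv : ∀ u : G, Commute u z → F.p u (pt S.lo l) = pt S.lo l → F.p u⁻¹ (pt S.lo l) = pt S.lo l :=
      fun u hu e => by rw [F.p_inv hu, Perm.inv_eq_iff_eq, e]
    have hcomm : v * a * v⁻¹ = a ∧ v * b * v⁻¹ = b ∧ v * c * v⁻¹ = c := by
      have ha' := himg a mA.1 E.a_supp
      have hb' := himg b mA.2.1 E.b_supp
      have hc' := himg c mA.2.2 E.c_supp
      have dist : ∀ {u w : G}, F.p u (pt S.lo 0) ≠ F.p w (pt S.lo 0) ∨ F.p u (pt S.lo 3) ≠ F.p w (pt S.lo 3) → u ≠ w :=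
        fun h e => by subst e; simp at h
      have ea := E.abc_eval 1 0 0
      have ea2 := E.abc_eval 2 0 0
      have eb := E.abc_eval 0 1 0
      have eb2 := E.abc_eval 0 2 0
      have ec := E.abc_eval 0 0 1
      have ec2 := E.abc_eval 0 0 2
      simp only [pow_zero, mul_one, one_mul, pow_one] at ea ea2 eb eb2 ec ec2
      rw [show a ^ 2 = a⁻¹ from eq_inv_of_mul_eq_one_left (by rw [← pow_succ, E.a3])] at ea2
      rw [show b ^ 2 = b⁻¹ from eq_inv_of_mul_eq_one_left (by rw [← pow_succ, E.b3])] at eb2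
      rw [show c ^ 2 = c⁻¹ from eq_inv_of_mul_eq_one_left (by rw [← pow_succ, E.c3])] at ec2
      have P := (Fin.castLE_injective (n := n) S.lo).comp (Fin.castLE_injective (n := 9) (show 8 ≤ 9 by norm_num))
      have nba : b ≠ a := dist (Or.inl (by rw [ea.1, eb.1]; exact P.ne (by decide +kernel)))
      have nba' : b ≠ a⁻¹ := dist (Or.inl (by rw [ea2.1, eb.1]; exact P.ne (by decide +kernel)))
      have nca : c ≠ a := dist (Or.inl (by rw [ea.1, ec.1]; exact P.ne (by decide +kernel)))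
      have nca' : c ≠ a⁻¹ := dist (Or.inl (by rw [ea2.1, ec.1]; exact P.ne (by decide +kernel)))
      have ncb : c ≠ b := dist (Or.inr (by rw [eb.2, ec.2]; exact P.ne (by decide +kernel)))
      have ncb' : c ≠ b⁻¹ := dist (Or.inr (by rw [eb2.2, ec.2]; exact P.ne (by decide +kernel)))
      have one : ∀ u : G, (F.p u).support.card = 3 → u ≠ 1 := fun u h e => by
        rw [e, F.p_one, support_one] at h; simp at h
      have six : ∀ {u : G}, u ∈ ({a, a⁻¹, b, b⁻¹, c, c⁻¹} : Set G) →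
          (u ∈ ({b, b⁻¹, a, a⁻¹, c, c⁻¹} : Set G) ∧ u ∈ ({c, c⁻¹, a, a⁻¹, b, b⁻¹} : Set G) ∧
            u ∈ ({c, c⁻¹, b, b⁻¹, a, a⁻¹} : Set G)) := fun h => six_perm h
      rcases (show l.val < 3 ∨ (3 ≤ l.val ∧ l.val < 6) ∨ 6 ≤ l.val by omega) with hla | hlb | hlc
      · have fb : F.p b (pt S.lo l) = pt S.lo l := by by_contra h; have := mb.1 h; omega
        have fc : F.p c (pt S.lo l) = pt S.lo l := by by_contra h; have := mc.1 h; omega
        have hv_a : v * a * v⁻¹ = a := fixp a mA.1 E.a_supp (ma.2 hla) (by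
          have hmv := hmove a mA.1 (ma.2 hla)
          simp only [Set.mem_insert_iff, Set.mem_singleton_iff] at ha' ⊢
          rcases ha' with e | e | e | e | e | e
          · exact Or.inl e
          · exact Or.inr e
          all_goals
            exfalso
            rw [e] at hmv
          exacts [hmv fb, hmv (hfinv b E.bz fb), hmv fc, hmv (hfinv c E.cz fc)])
        exact ⟨hv_a, comm_of_six hv3 E.b3 (one b E.b_supp) hv_a hb' hc' nba nba' nca nca' ncb.symm
          (fun e => ncb' (by rw [e, inv_inv])),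
          comm_of_six hv3 E.c3 (one c E.c_supp) hv_a (swap56 hc') (swap56 hb') nca nca' nba nba' ncb ncb'⟩
      · have fa : F.p a (pt S.lo l) = pt S.lo l := by by_contra h; have := ma.1 h; omega
        have fc : F.p c (pt S.lo l) = pt S.lo l := by by_contra h; have := mc.1 h; omega
        have hv_b : v * b * v⁻¹ = b := fixp b mA.2.1 E.b_supp (mb.2 hlb) (by
          have hmv := hmove b mA.2.1 (mb.2 hlb)
          simp only [Set.mem_insert_iff, Set.mem_singleton_iff] at hb' ⊢
          rcases hb' with e | e | e | e | e | e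
          · exact absurd fa (by rw [e] at hmv; exact hmv)
          · exact absurd (hfinv a E.az fa) (by rw [e] at hmv; exact hmv)
          · exact Or.inl e
          · exact Or.inr e
          all_goals
            exfalso
            rw [e] at hmv
          exacts [hmv fc, hmv (hfinv c E.cz fc)])
        exact ⟨comm_of_six hv3 E.a3 (one a E.a_supp) hv_b (six ha').1 (six hc').1 nba.symm
          (fun e => nba' (by rw [e, inv_inv])) ncb ncb' nca.symm (fun e => nca' (by rw [e, inv_inv])), hv_b,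
          comm_of_six hv3 E.c3 (one c E.c_supp) hv_b (swap56 (six hc').1) (swap56 (six ha').1) ncb ncb' nba.symm
          (fun e => nba' (by rw [e, inv_inv])) nca nca'⟩
      · have fa : F.p a (pt S.lo l) = pt S.lo l := by by_contra h; have := ma.1 h; omega
        have fb : F.p b (pt S.lo l) = pt S.lo l := by by_contra h; have := mb.1 h; omega
        have hv_c : v * c * v⁻¹ = c := fixp c mA.2.2 E.c_supp (mc.2 hlc) (by
          have hmv := hmove c mA.2.2 (mc.2 hlc)
          simp only [Set.mem_insert_iff, Set.mem_singleton_iff] at hc' ⊢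
          rcases hc' with e | e | e | e | e | e
          · exact absurd fa (by rw [e] at hmv; exact hmv)
          · exact absurd (hfinv a E.az fa) (by rw [e] at hmv; exact hmv)
          · exact absurd fb (by rw [e] at hmv; exact hmv)
          · exact absurd (hfinv b E.bz fb) (by rw [e] at hmv; exact hmv)
          · exact Or.inl e
          · exact Or.inr e)
        exact ⟨comm_of_six hv3 E.a3 (one a E.a_supp) hv_c (six ha').2.1 (six hb').2.1 nca.symm
          (fun e => nca' (by rw [e, inv_inv])) ncb.symm (fun e => ncb' (by rw [e, inv_inv])) nba.symm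
          (fun e => nba' (by rw [e, inv_inv])),
          comm_of_six hv3 E.b3 (one b E.b_supp) hv_c (six hb').2.2 (six ha').2.2 ncb.symm
          (fun e => ncb' (by rw [e, inv_inv])) nca.symm (fun e => nca' (by rw [e, inv_inv])) nba nba', hv_c⟩
    exact E.mem_A hvz hv3 (mul_inv_eq_iff_eq_mul.1 hcomm.1) (mul_inv_eq_iff_eq_mul.1 hcomm.2.1)
      (mul_inv_eq_iff_eq_mul.1 hcomm.2.2)
  -- growth of the normaliser
  intro t ht
  by_contra hcon
  have hlt : T0.subgroupOf (T : Subgroup G) < ⊤ := lt_top_iff_ne_top.2 fun e => hcon (by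
    have hm' : (⟨t, ht⟩ : (T : Subgroup G)) ∈ T0.subgroupOf (T : Subgroup G) := e ▸ Subgroup.mem_top _
    exact (Subgroup.mem_subgroupOf.1 hm').2)
  have : Group.IsNilpotent (T : Subgroup G) := T.isPGroup'.isNilpotent
  obtain ⟨g, hgN, hgn⟩ := SetLike.exists_of_lt (normalizerCondition_of_isNilpotent _ hlt)
  have hgconj : ∀ v ∈ A, ((g : G) * v * (g : G)⁻¹) ∈ T0 := fun v hv => by
    have := (Subgroup.mem_normalizer_iff.1 hgN ⟨v, hT hv⟩).1 (Subgroup.mem_subgroupOf.2 (hAT0 hv))
    exact Subgroup.mem_subgroupOf.1 this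
  have hy := S.y_facts E.py E.yz
  have hx1 : ∀ v : G, (F.p v).support.card = 6 → v ≠ 1 := fun v h e => by
    rw [e, F.p_one, support_one] at h; simp at h
  have h6A : ∀ v ∈ A, (F.p v).support.card = 6 → (g : G) * v * (g : G)⁻¹ ∈ A := by
    intro v hv h6
    have hvz := (hAz v hv).1
    have hvF : Four v := by
      obtain ⟨k, hk, hke⟩ := S.conj_of_six E.xz E.px E.x3 hvz (hA3 v hv) h6
      exact Four.of_conj (k := k) (hke ▸ ⟨z, y, F.orderOf_z, hy.2.2.1, hy.2.2.2.symm, E.yz.symm, E.xz.symm, E.xy⟩)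
    exact key _ (hgconj v hv) (by rw [conj_pow, hA3 v hv, mul_one, mul_inv_cancel])
      (by simpa [conj_eq_one_iff] using hx1 v h6) (hvF.conj _)
  have s1 : (F.p (a * b)).support.card = 6 := by
    have := E.p_abc 1 1 0
    simp only [pow_one, pow_zero, mul_one] at this
    rw [this, support_ext8]; decide +kernel
  have s2 : (F.p (a * b⁻¹)).support.card = 6 := by
    rw [show b⁻¹ = b ^ 2 from inv_eq_of_mul_eq_one_right (by rw [← pow_succ', E.b3])]
    have := E.p_abc 1 2 0
    simp only [pow_one, pow_zero, mul_one] at this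
    rw [this, support_ext8]; decide +kernel
  have k1 := h6A _ (mul_mem mA.1 mA.2.1) s1
  have k2 := h6A _ (mul_mem mA.1 (inv_mem mA.2.1)) s2
  have ka : (g : G) * a * (g : G)⁻¹ ∈ A := by
    have e : a = (a * b * (a * b⁻¹)) * (a * b * (a * b⁻¹)) := by
      rw [show a * b * (a * b⁻¹) = a * (b * a * b⁻¹) by group, E.ab.symm.eq, mul_inv_cancel_right,
        show a * a * (a * a) = a ^ 3 * a by simp only [pow_succ, pow_zero, one_mul, mul_assoc], E.a3, one_mul]
    rw [e, show (g : G) * ((a * b * (a * b⁻¹)) * (a * b * (a * b⁻¹))) * (g : G)⁻¹ =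
      ((g : G) * (a * b) * (g : G)⁻¹) * ((g : G) * (a * b⁻¹) * (g : G)⁻¹) *
      (((g : G) * (a * b) * (g : G)⁻¹) * ((g : G) * (a * b⁻¹) * (g : G)⁻¹)) by group]
    exact mul_mem (mul_mem k1 k2) (mul_mem k1 k2)
  have kb : (g : G) * b * (g : G)⁻¹ ∈ A := by
    rw [show (g : G) * b * (g : G)⁻¹ = ((g : G) * a * (g : G)⁻¹)⁻¹ * ((g : G) * (a * b) * (g : G)⁻¹) by group]
    exact mul_mem (inv_mem ka) k1
  refine hgn (Subgroup.mem_subgroupOf.2 ⟨g.2, Subgroup.mem_centralizer_singleton_iff.2 ?_⟩)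
  -- `g⁻¹ z g` centralises `a` and `b`, hence equals `z`
  have hwa : Commute ((g : G)⁻¹ * z * g) a := by
    have := commute_conj (hAz _ ka).1.symm (g : G)⁻¹
    rw [inv_inv, show (g : G)⁻¹ * ((g : G) * a * (g : G)⁻¹) * g = a by group] at this
    exact this
  have hwb : Commute ((g : G)⁻¹ * z * g) b := by
    have := commute_conj (hAz _ kb).1.symm (g : G)⁻¹
    rw [inv_inv, show (g : G)⁻¹ * ((g : G) * b * (g : G)⁻¹) * g = b by group] at this
    exact this
  have := F.three_unique S.hi E.az E.a3 E.a_supp ((g : G)⁻¹ * z * g)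
    (by have := orderOf_conj' (g : G)⁻¹ z; rw [inv_inv] at this; rw [this, F.orderOf_z]) hwa (E.cent_ab hJ hwa hwb)
  rw [mul_assoc, inv_mul_eq_iff_eq_mul] at this
  exact this.symm

end Elts

end Cfsg.Agent.AltDoubleCent
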