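import Cfsg.Agent.Lib.AltDoubleCent.Bound

/-!
# Nine elements inverted by the central involution

Main results: `exists_fixed_step`, `Elts.J_gen`, `Elts.c_J`, `Elts.ten_false`, `Elts.exists_swap_bc`,
`Elts.exists_rot9`, `Elts.three_group`.
-/

set_option autoImplicit false
set_option linter.style.haveILetI false
set_option linter.unusedSectionVars false
set_option maxHeartbeats 1000000

namespace Cfsg.Agent.AltDoubleCent

open Equiv Equiv.Perm

universe u

variable {G : Type u} [Group G] {n : ℕ} {z : G} {F : Frame G n z}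

lemma mem_of_pow_three_pow {H : Subgroup G} {w : G} : ∀ (m : ℕ), w ∉ H → w ^ 3 ^ m ∈ H →
    ∃ j : ℕ, w ^ 3 ^ j ∉ H ∧ (w ^ 3 ^ j) ^ 3 ∈ H := by
  intro m
  induction m with
  | zero => intro h1 h2; simp at h2; exact absurd h2 h1
  | succ m ih =>
    intro h1 h2
    by_cases h : w ^ 3 ^ m ∈ H
    · exact ih h1 h
    · exact ⟨m, h, by rwa [← pow_mul, ← pow_succ]⟩

/-- An element of order three acting on a commutative three-group fixes something. -/
lemma exists_fixed_three {Q : Type*} [Group Q] (hc : ∀ p q : Q, Commute p q) (β : Q →* Q)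
    (hβ : ∀ q, β (β (β q)) = q) {q : Q} (h3 : q ^ 3 = 1) (h1 : q ≠ 1) : ∃ r : Q, r ≠ 1 ∧ β r = r := by
  by_cases hd : β q * q⁻¹ = 1
  · exact ⟨q, h1, mul_inv_eq_one.1 hd⟩
  set N := q * β q * β (β q) with hN
  by_cases hn : N = 1
  · refine ⟨_, hd, ?_⟩
    have e : β (β q) = (β q)⁻¹ * q⁻¹ := by
      rw [← mul_inv_rev, eq_inv_iff_mul_eq_one, (hc _ _).eq, ← hN, hn]
    have hq : q⁻¹ * q⁻¹ = q := by
      rw [← mul_inv_rev, inv_eq_iff_mul_eq_one, ← pow_three', h3]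
    have hp : (β q)⁻¹ * (β q)⁻¹ = β q := by
      rw [← map_inv, ← map_mul, hq]
    rw [map_mul, map_inv, e]
    calc (β q)⁻¹ * q⁻¹ * (β q)⁻¹ = (β q)⁻¹ * (β q)⁻¹ * q⁻¹ := by
          rw [mul_assoc, (hc q⁻¹ _).eq, mul_assoc]
      _ = β q * q⁻¹ := by rw [hp]
  · refine ⟨N, hn, ?_⟩
    rw [hN, map_mul, map_mul, hβ, (hc _ q).eq, mul_assoc]

/-- Elementwise form: something outside `N` is fixed modulo `N`. -/
lemma exists_fixed_step {O N : Subgroup G} {v : G} {M : ℕ} (hNO : N ≤ O) (hv : ∀ w ∈ O, v * w * v⁻¹ ∈ O)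
    (hvN : ∀ w ∈ N, v * w * v⁻¹ ∈ N) (hcom : ∀ u ∈ O, ∀ w ∈ O, u * w * u⁻¹ * w⁻¹ ∈ N) (hv3 : v ^ 3 = 1)
    (hpow : ∀ w ∈ O, w ^ 3 ^ M = 1) {w : G} (hwO : w ∈ O) (hwN : w ∉ N) :
    ∃ r ∈ O, r ∉ N ∧ v * r * v⁻¹ * r⁻¹ ∈ N := by
  set N' : Subgroup O := N.subgroupOf O with hN'
  haveI : N'.Normal := ⟨fun u hu g => by
    rw [hN', Subgroup.mem_subgroupOf] at hu ⊢
    rw [show ((g * u * g⁻¹ : O) : G) = (g : G) * u * (g : G)⁻¹ * (u : G)⁻¹ * u by
      rw [Subgroup.coe_mul, Subgroup.coe_mul, Subgroup.coe_inv, inv_mul_cancel_right]]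
    exact mul_mem (hcom _ g.2 _ u.2) hu⟩
  let f : O →* O :=
    { toFun := fun u => ⟨v * u * v⁻¹, hv _ u.2⟩
      map_one' := Subtype.ext (by simp)
      map_mul' := fun p q => Subtype.ext (by simp [mul_assoc]) }
  let φ : O ⧸ N' →* O ⧸ N' := QuotientGroup.map N' N' f (fun u hu => by
    rw [hN', Subgroup.mem_comap, Subgroup.mem_subgroupOf] at *
    exact hvN _ hu)
  have hc : ∀ p q : O ⧸ N', Commute p q := fun p q => by
    induction p using QuotientGroup.induction_on with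
    | _ p =>
      induction q using QuotientGroup.induction_on with
      | _ q =>
        refine mul_inv_eq_iff_eq_mul.1 (mul_inv_eq_one.1 ?_)
        rw [← QuotientGroup.mk_inv, ← QuotientGroup.mk_inv, ← QuotientGroup.mk_mul, ← QuotientGroup.mk_mul,
          ← QuotientGroup.mk_mul, QuotientGroup.eq_one_iff, hN', Subgroup.mem_subgroupOf]
        exact hcom _ p.2 _ q.2
  have hφ : ∀ q, φ (φ (φ q)) = q := fun q => by
    induction q using QuotientGroup.induction_on with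
    | _ u =>
      refine congrArg (QuotientGroup.mk : O → O ⧸ N') (Subtype.ext ?_)
      show v * (v * (v * (u : G) * v⁻¹) * v⁻¹) * v⁻¹ = u
      rw [show v * (v * (v * (u : G) * v⁻¹) * v⁻¹) * v⁻¹ = (v * v * v) * u * (v * v * v)⁻¹ by group,
        ← pow_three', hv3, one_mul, inv_one, mul_one]
  obtain ⟨j, hj, hj3⟩ := mem_of_pow_three_pow M hwN (by rw [hpow w hwO]; exact one_mem _)
  have hjO : w ^ 3 ^ j ∈ O := pow_mem hwO _
  obtain ⟨r, hr1, hr⟩ := exists_fixed_three hc φ hφ (q := (⟨_, hjO⟩ : O)) (by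
      rw [← QuotientGroup.mk_pow, QuotientGroup.eq_one_iff, hN', Subgroup.mem_subgroupOf]
      exact hj3)
    (fun e => hj (by rwa [QuotientGroup.eq_one_iff, hN', Subgroup.mem_subgroupOf] at e))
  induction r using QuotientGroup.induction_on with
  | _ u =>
    refine ⟨u, u.2, fun h => hr1 ((QuotientGroup.eq_one_iff u).2 (Subgroup.mem_subgroupOf.2 h)), ?_⟩
    have h' : ((f u * u⁻¹ : O) : O ⧸ N') = 1 := by
      rw [QuotientGroup.mk_mul, QuotientGroup.mk_inv]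
      exact mul_inv_eq_one.2 hr
    rw [QuotientGroup.eq_one_iff, hN', Subgroup.mem_subgroupOf] at h'
    exact h'

/-- A noncyclic pair of order three acting with bounded fixed parts. -/
lemma pair_exponent {Z : Type*} [CommGroup Z] (β γ : Z →* Z) (hβ : ∀ q, β (β (β q)) = q)
    (hγ : ∀ q, γ (γ (γ q)) = q) (hβγ : ∀ q, β (γ q) = γ (β q)) {M : ℕ}
    (f1 : ∀ q, β q = q → q ^ M = 1) (f2 : ∀ q, γ q = q → q ^ M = 1)
    (f3 : ∀ q, β (γ q) = q → q ^ M = 1) (f4 : ∀ q, β (γ (γ q)) = q → q ^ M = 1) (u : Z) :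
    u ^ (3 * M) = 1 := by
  have rot : ∀ p q r : Z, q * r * p = p * q * r := fun p q r => by rw [mul_comm (q * r), mul_assoc]
  have n1 := f1 (u * β u * β (β u)) (by rw [map_mul, map_mul, hβ, rot])
  have n2 := f2 (u * γ u * γ (γ u)) (by rw [map_mul, map_mul, hγ, rot])
  have n3 := f3 (u * β (γ u) * β (β (γ (γ u)))) (by
    simp only [map_mul, ← hβγ, hβ, hγ, rot])
  have n4 := f4 (u * β (γ (γ u)) * β (β (γ u))) (by
    simp only [map_mul, ← hβγ, hβ, hγ, rot])
  have n0 := f1 ((u * γ u * γ (γ u)) * β (u * γ u * γ (γ u)) * β (β (u * γ u * γ (γ u))))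
    (by rw [map_mul, map_mul, hβ, rot])
  have e : (u * β u * β (β u)) * (u * γ u * γ (γ u)) * (u * β (γ u) * β (β (γ (γ u)))) *
      (u * β (γ (γ u)) * β (β (γ u))) =
      u ^ 3 * ((u * γ u * γ (γ u)) * β (u * γ u * γ (γ u)) * β (β (u * γ u * γ (γ u)))) := by
    simp only [map_mul, pow_succ, pow_zero, one_mul]
    ac_rfl
  rw [pow_mul]
  calc (u ^ 3) ^ M = (u ^ 3) ^ M * _ ^ M := by rw [n0, mul_one]
    _ = _ := by rw [← mul_pow]
    _ = _ := by rw [← e]
    _ = 1 := by rw [mul_pow, mul_pow, mul_pow, n1, n2, n3, n4, one_mul, one_mul, one_mul]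

namespace Elts

variable {S : Setup F} {x y a b c : G} (E : Elts S x y a b c)
include E
variable [Finite G]

lemma mem_oddCent {v w : G} (hvz : Commute v z) (hv3 : v ^ 3 = 1) (hvs : (F.p v).support.card = 3)
    (ho : Odd (orderOf w)) (hwv : Commute w v) (hz : z * w * z⁻¹ = w⁻¹) : w ∈ oddCent v := by
  have h1 := F.oddCent_zStar S.hi hvz hv3 hvs hwv
  rw [hz, ← mul_inv_rev] at h1
  exact mem_of_sq_mem ho (inv_mem_iff.1 h1)

lemma card_J_nine (hk : Nat.card (E.Jfix y) = 3) : Nat.card E.J = 9 := by rw [E.card_J, hk]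

/-- An element with square `z` acts irreducibly. -/
theorem J_gen (hk : Nat.card (E.Jfix y) = 3) {k l : G} (hk2 : k * k = z) {H : Subgroup G} (hl : l ∈ E.J)
    (hl1 : l ≠ 1) (hlH : l ∈ H) (hkJ : k * l * k⁻¹ ∈ E.J) (hkH : k * l * k⁻¹ ∈ H) : E.J ≤ H := by
  haveI : Fact (Nat.Prime 3) := ⟨Nat.prime_three⟩
  set K := E.J ⊓ H with hK
  have hlK : l ∈ K := ⟨hl, hlH⟩
  have hkK : k * l * k⁻¹ ∈ K := ⟨hkJ, hkH⟩
  have hnot : k * l * k⁻¹ ∉ Subgroup.zpowers l := by
    intro hc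
    obtain ⟨i, hi⟩ := pick3 (E.J_cube hl) hc
    have h2 : z * l * z⁻¹ = (l ^ i.val) ^ i.val := by
      rw [← hk2, show k * k * l * (k * k)⁻¹ = k * (k * l * k⁻¹) * k⁻¹ by group, hi, ← conj_pow, hi]
    rw [hl.2.2, ← pow_mul] at h2
    have hd : orderOf l ∣ i.val * i.val + 1 := orderOf_dvd_of_pow_eq_one (by rw [pow_succ, ← h2, inv_mul_cancel])
    rw [orderOf_eq_prime (E.J_cube hl) hl1] at hd
    exact (show ∀ m : Fin 3, ¬ 3 ∣ m.val * m.val + 1 by decide) i hd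
  have hlt : Nat.card (Subgroup.zpowers l) < Nat.card K := by
    refine lt_of_le_of_ne (Subgroup.card_le_of_le (Subgroup.zpowers_le.2 hlK)) fun e => hnot ?_
    rw [Subgroup.eq_of_le_of_card_ge (Subgroup.zpowers_le.2 hlK) e.ge]
    exact hkK
  rw [Nat.card_zpowers, orderOf_eq_prime (E.J_cube hl) hl1] at hlt
  have hdvd : Nat.card K ∣ 9 := E.card_J_nine hk ▸ Subgroup.card_dvd_of_le (inf_le_left : K ≤ E.J)
  have h9 : Nat.card K = 9 := by
    have := Nat.le_of_dvd (by norm_num) hdvd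
    generalize Nat.card K = m at hlt hdvd this ⊢
    interval_cases m <;> first | rfl | omega | (norm_num at hdvd)
  have e : K = E.J := Subgroup.eq_of_le_of_card_ge inf_le_left (by rw [h9, E.card_J_nine hk])
  exact e ▸ inf_le_right

/-- `c` centralises `J`. -/
theorem c_J (hk : Nat.card (E.Jfix y) = 3) : ∀ w ∈ E.J, Commute c w := by
  have hcJ : ∀ w ∈ E.J, c * w * c⁻¹ ∈ E.J := fun w hw =>
    E.J_inverts E.cz (Or.inl (mul_inv_eq_iff_eq_mul.2 E.ac.symm.eq))
      (Or.inl (mul_inv_eq_iff_eq_mul.2 E.bc.symm.eq)) hw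
  have hne : E.J ≠ ⊥ := fun e => by
    have := E.card_J_nine hk
    rw [e, Subgroup.card_bot] at this
    omega
  obtain ⟨⟨q, hq⟩, hq1⟩ : ∃ q : E.J, q ≠ 1 := by
    by_contra hcon
    push Not at hcon
    exact hne ((Subgroup.eq_bot_iff_forall _).2 fun w hw => congrArg Subtype.val (hcon ⟨w, hw⟩))
  obtain ⟨r, hr1, hr⟩ := exists_fixed_three (Q := E.J) (fun p q => Subtype.ext (E.J_comm p.2 q.2))
    { toFun := fun w => ⟨c * w * c⁻¹, hcJ _ w.2⟩
      map_one' := Subtype.ext (by simp)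
      map_mul' := fun p q => Subtype.ext (by simp [mul_assoc]) }
    (fun w => Subtype.ext (by
      show c * (c * (c * (w : G) * c⁻¹) * c⁻¹) * c⁻¹ = w
      rw [show c * (c * (c * (w : G) * c⁻¹) * c⁻¹) * c⁻¹ = (c * c * c) * w * (c * c * c)⁻¹ by group,
        ← pow_three', E.c3, one_mul, inv_one, mul_one]))
    (q := ⟨q, hq⟩) (Subtype.ext (E.J_cube hq)) hq1
  have hrc : Commute c (r : G) := mul_inv_eq_iff_eq_mul.1 (congrArg Subtype.val hr)
  obtain ⟨i, hi, hi2, hia, hib, hic, -⟩ := E.exists_iota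
  have hmem : i * (r : G) * i⁻¹ ∈ Subgroup.centralizer ({c} : Set G) := by
    refine Subgroup.mem_centralizer_singleton_iff.2 ?_
    have := commute_conj hrc i
    rw [mul_inv_eq_iff_eq_mul.2 hic.eq] at this
    exact this.symm.eq
  intro w hw
  exact (Subgroup.mem_centralizer_singleton_iff.1 (E.J_gen hk hi2 r.2 (fun e => hr1 (Subtype.ext e))
    (Subgroup.mem_centralizer_singleton_iff.2 hrc.symm.eq) (E.J_inverts hi (Or.inr hia) (Or.inr hib) r.2) hmem hw)).symm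

/-- In degree ten there is a tenth point. -/
theorem ten_false (hk : Nat.card (E.Jfix y) = 3) (h10 : n = 10) : False := by
  subst h10
  obtain ⟨v, hv, hpv⟩ := F.exists_lift (σ := swap (6 : Fin 10) 7 * swap 8 9) (by decide +kernel)
  have hva : Commute v a := F.commute_of_odd E.az hv (odd_of_pow_three E.a3) (by
    rw [E.pa, hpv]
    exact (show ext8 (show 8 ≤ 10 by norm_num) qA * (swap 6 7 * swap 8 9) =
      (swap 6 7 * swap 8 9) * ext8 (show 8 ≤ 10 by norm_num) qA by decide +kernel))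
  have hvb : Commute v b := F.commute_of_odd E.bz hv (odd_of_pow_three E.b3) (by
    rw [E.pb, hpv]
    exact (show ext8 (show 8 ≤ 10 by norm_num) qB * (swap 6 7 * swap 8 9) =
      (swap 6 7 * swap 8 9) * ext8 (show 8 ≤ 10 by norm_num) qB by decide +kernel))
  set g := v * c * v⁻¹ * c⁻¹ with hg
  have hgz : Commute g z := (F.conj_z hv E.cz).mul_left E.cz.inv_left
  have hd : Dbl (F.p g) := by
    refine ⟨6, 8, 7, 9, by decide, by decide, by decide, by decide, by decide, by decide, ?_⟩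
    rw [hg, F.p_mul (F.conj_z hv E.cz) E.cz.inv_left, F.p_inv E.cz, F.p_conj hv E.cz, hpv, E.pc]
    exact (show (swap (6 : Fin 10) 7 * swap 8 9) * qC (show 9 ≤ 10 by norm_num) * (swap 6 7 * swap 8 9)⁻¹ *
      (qC (show 9 ≤ 10 by norm_num))⁻¹ = swap 6 8 * swap 7 9 by decide +kernel)
  have hne : E.J ≠ ⊥ := fun e => by
    have := E.card_J_nine hk
    rw [e, Subgroup.card_bot] at this
    omega
  refine hne ((Subgroup.eq_bot_iff_forall _).2 fun w hw => ?_)
  have hvw : v⁻¹ * w * v⁻¹⁻¹ ∈ E.J := E.J_inverts hv.inv_left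
    (Or.inl (mul_inv_eq_iff_eq_mul.2 hva.inv_left.eq)) (Or.inl (mul_inv_eq_iff_eq_mul.2 hvb.inv_left.eq)) hw
  have h1 : Commute (v * c * v⁻¹) w := by
    have := commute_conj (E.c_J hk _ hvw) v
    rwa [show v * (v⁻¹ * w * v⁻¹⁻¹) * v⁻¹ = w by group] at this
  have hgw : Commute g w := h1.mul_left (E.c_J hk w hw).inv_left
  have hzw : Commute z w := by
    have := hgw.mul_left hgw
    rwa [F.sq_double hgz hd] at this
  have h1 := hw.2.2
  rw [hzw.eq, mul_inv_cancel_right] at h1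
  have h3 := E.J_cube hw
  rwa [pow_succ, pow_two, mul_eq_one_iff_eq_inv.2 h1, one_mul] at h3

/-- An element fixing `a`, sending `c` to `b` and `b` to the inverse of `c`. -/
theorem exists_swap_bc (h9 : n = 9) : ∃ k, Commute k z ∧ Commute k a ∧ k * b * k⁻¹ = c⁻¹ ∧ k * c * k⁻¹ = b := by
  subst h9
  obtain ⟨k, hk, hpk⟩ := F.exists_lift (σ := swap (3 : Fin 9) 6 * (swap 7 4 * (swap 4 8 * swap 8 5)))
    (by decide +kernel)
  refine ⟨k, hk, F.commute_of_odd E.az hk (odd_of_pow_three E.a3) ?_, ?_, ?_⟩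
  · rw [E.pa, hpk]
    exact (show ext8 (show 8 ≤ 9 by norm_num) qA * (swap (3 : Fin 9) 6 * (swap 7 4 * (swap 4 8 * swap 8 5))) =
      (swap (3 : Fin 9) 6 * (swap 7 4 * (swap 4 8 * swap 8 5))) * ext8 (show 8 ≤ 9 by norm_num) qA by decide +kernel)
  · refine E.conj_odd hk E.bz E.cz.inv_left E.b3 (by rw [inv_pow, E.c3, inv_one]) ?_
    rw [hpk, E.pb, F.p_inv E.cz, E.pc]
    exact (show (swap (3 : Fin 9) 6 * (swap 7 4 * (swap 4 8 * swap 8 5))) * ext8 (show 8 ≤ 9 by norm_num) qB *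
      (swap (3 : Fin 9) 6 * (swap 7 4 * (swap 4 8 * swap 8 5)))⁻¹ = (qC (le_refl 9))⁻¹ by decide +kernel)
  · refine E.conj_odd hk E.cz E.bz E.c3 E.b3 ?_
    rw [hpk, E.pb, E.pc]
    exact (show (swap (3 : Fin 9) 6 * (swap 7 4 * (swap 4 8 * swap 8 5))) * qC (le_refl 9) *
      (swap (3 : Fin 9) 6 * (swap 7 4 * (swap 4 8 * swap 8 5)))⁻¹ = ext8 (show 8 ≤ 9 by norm_num) qB by decide +kernel)

/-- A rotation of the three cycles. -/
theorem exists_rot9 (h9 : n = 9) :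
    ∃ k, Commute k z ∧ k * a * k⁻¹ = b ∧ k * b * k⁻¹ = c ∧ k * c * k⁻¹ = a := by
  subst h9
  obtain ⟨k, hk, hpk⟩ := F.exists_lift (σ := swap (0 : Fin 9) 3 * swap 3 6 * (swap 1 4 * swap 4 7) *
    (swap 2 5 * swap 5 8)) (by decide +kernel)
  refine ⟨k, hk, ?_, ?_, ?_⟩
  · refine E.conj_odd hk E.az E.bz E.a3 E.b3 ?_
    rw [hpk, E.pa, E.pb]
    exact (show (swap (0 : Fin 9) 3 * swap 3 6 * (swap 1 4 * swap 4 7) * (swap 2 5 * swap 5 8)) *
      ext8 (show 8 ≤ 9 by norm_num) qA * (swap (0 : Fin 9) 3 * swap 3 6 * (swap 1 4 * swap 4 7) *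
        (swap 2 5 * swap 5 8))⁻¹ = ext8 (show 8 ≤ 9 by norm_num) qB by decide +kernel)
  · refine E.conj_odd hk E.bz E.cz E.b3 E.c3 ?_
    rw [hpk, E.pb, E.pc]
    exact (show (swap (0 : Fin 9) 3 * swap 3 6 * (swap 1 4 * swap 4 7) * (swap 2 5 * swap 5 8)) *
      ext8 (show 8 ≤ 9 by norm_num) qB * (swap (0 : Fin 9) 3 * swap 3 6 * (swap 1 4 * swap 4 7) *
        (swap 2 5 * swap 5 8))⁻¹ = qC (le_refl 9) by decide +kernel)
  · refine E.conj_odd hk E.cz E.az E.c3 E.a3 ?_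
    rw [hpk, E.pa, E.pc]
    exact (show (swap (0 : Fin 9) 3 * swap 3 6 * (swap 1 4 * swap 4 7) * (swap 2 5 * swap 5 8)) *
      qC (le_refl 9) * (swap (0 : Fin 9) 3 * swap 3 6 * (swap 1 4 * swap 4 7) *
        (swap 2 5 * swap 5 8))⁻¹ = ext8 (show 8 ≤ 9 by norm_num) qA by decide +kernel)

lemma pow_a_cube {v w : G} (hwa : Commute w a) (h : v * w * v⁻¹ * w⁻¹ ∈ Subgroup.zpowers a) :
    Commute v (w ^ 3) := by
  obtain ⟨i, hi⟩ := pick3 E.a3 h
  rw [mul_inv_eq_iff_eq_mul] at hi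
  have h3 := congrArg (fun g => g ^ 3) hi
  beta_reduce at h3
  rw [conj_pow, (hwa.symm.pow_left i.val).mul_pow, ← pow_mul, mul_comm i.val, pow_mul, E.a3, one_pow,
    one_mul] at h3
  exact mul_inv_eq_iff_eq_mul.1 h3

lemma cube_inverted {w : G} (hw : w ∈ oddCent a) : z * w ^ 3 * z⁻¹ = (w ^ 3)⁻¹ := by
  obtain ⟨i, hi⟩ := pick3 E.a3 (F.oddCent_comm S.le8 E.az E.a3 E.a_supp hw hw).2
  rw [← eq_mul_inv_iff_mul_eq] at hi
  rw [← conj_pow, hi, ((oddCent_le hw).inv_left.symm.pow_left i.val).mul_pow, ← pow_mul, mul_comm i.val, pow_mul,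
    E.a3, one_pow, one_mul, inv_pow]

/-- Inverted elements centralising `a` and one of the elements of `<b, c>`. -/
theorem fixed_part (h9 : n = 9) {v : G} (hv : v = b ∨ v = c ∨ v = b * c ∨ v = b * c⁻¹) {u : G}
    (ho : Odd (orderOf u)) (hua : Commute u a) (huv : Commute u v) (hz : z * u * z⁻¹ = u⁻¹) : u ^ 9 = 1 := by
  obtain ⟨k, hk, hka, hkb, hkc⟩ := E.exists_swap_bc h9
  have hkz : ∀ {w : G}, z * w * z⁻¹ = w⁻¹ → z * (k * w * k⁻¹) * z⁻¹ = (k * w * k⁻¹)⁻¹ := fun {w} hw => by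
    rw [show z * (k * w * k⁻¹) * z⁻¹ = z * k * w * (z * k)⁻¹ by group, hk.symm.eq,
      show k * z * w * (k * z)⁻¹ = k * (z * w * z⁻¹) * k⁻¹ by group, hw]
    group
  have three : ∀ {w : G}, Odd (orderOf w) → Commute w a → Commute w b → z * w * z⁻¹ = w⁻¹ → w ^ 9 = 1 :=
    fun ho ha hb hz => by
      rw [show 9 = 3 * 3 by norm_num, pow_mul, E.J_cube (E.mem_J ho ha hb hz), one_pow]
  have key : ∀ {w : G}, Odd (orderOf w) → Commute w a → Commute w (b * c) → z * w * z⁻¹ = w⁻¹ → w ^ 9 = 1 := by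
    intro w ho ha hbc hz
    obtain ⟨π, hπ, hπa, hπb, hπc⟩ := E.exists_rot9 h9
    -- move to the frame where the product is `x`
    set ρ := π⁻¹ with hρ
    have ra : ρ * a * ρ⁻¹ = c := by rw [← hπc]; simp [hρ, mul_assoc]
    have rb : ρ * b * ρ⁻¹ = a := by rw [← hπa]; simp [hρ, mul_assoc]
    have rc : ρ * c * ρ⁻¹ = b := by rw [← hπb]; simp [hρ, mul_assoc]
    set u := ρ * w * ρ⁻¹ with hu
    have huo : Odd (orderOf u) := by rw [hu, orderOf_conj']; exact ho
    have huc : Commute u c := by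
      have := commute_conj ha ρ
      rwa [ra] at this
    have hux : Commute u x := by
      have := commute_conj hbc ρ
      rw [show ρ * (b * c) * ρ⁻¹ = ρ * b * ρ⁻¹ * (ρ * c * ρ⁻¹) by group, rb, rc] at this
      rwa [E.xab]
    have huz : z * u * z⁻¹ = u⁻¹ := by
      have hρz : Commute z ρ := hπ.symm.inv_right
      rw [hu, show z * (ρ * w * ρ⁻¹) * z⁻¹ = z * ρ * w * (z * ρ)⁻¹ by group, hρz.eq,
        show ρ * z * w * (ρ * z)⁻¹ = ρ * (z * w * z⁻¹) * ρ⁻¹ by group, hz]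
      group
    have huC : u ∈ oddCent c := E.mem_oddCent E.cz E.c3 E.c_supp huo huc huz
    have hvC : y * u * y⁻¹ ∈ oddCent c := by
      have := oddCent_conj y huC
      rwa [E.yc, oddCent_inv_eq] at this
    obtain ⟨i, hi⟩ := pick3 E.c3 (F.oddCent_comm S.le8 E.cz E.c3 E.c_supp hvC huC).1
    rw [mul_inv_eq_iff_eq_mul] at hi
    have h3 := congrArg (fun g => g ^ 3) hi
    beta_reduce at h3
    rw [conj_pow, ((oddCent_le huC).symm.pow_left i.val).mul_pow, ← pow_mul, mul_comm i.val, pow_mul, E.c3,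
      one_pow, one_mul] at h3
    have hcc : Commute (u ^ 3) (y * u ^ 3 * y⁻¹) := by
      rw [← conj_pow]
      exact ((show Commute (y * u * y⁻¹) (u ^ 3) from mul_inv_eq_iff_eq_mul.1 h3).pow_left 3).symm
    have h9' := E.inverted_cube (Odd.of_dvd_nat huo (orderOf_pow_dvd 3))
      (by rw [← conj_pow, huz, inv_pow]) (hux.pow_left 3) hcc
    rw [← pow_mul, hu, conj_pow, conj_eq_one_iff] at h9'
    exact h9'
  have back : ∀ {w : G}, (k * w * k⁻¹) ^ 9 = 1 → w ^ 9 = 1 := fun h => by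
    rwa [conj_pow, conj_eq_one_iff] at h
  have hk' : ∀ {w : G}, Commute w a → Commute (k * w * k⁻¹) a := fun h => by
    have := commute_conj h k
    rwa [mul_inv_eq_iff_eq_mul.2 hka.eq] at this
  rcases hv with rfl | rfl | rfl | rfl
  · exact three ho hua huv hz
  · refine back (three (by rwa [orderOf_conj']) (hk' hua) ?_ (hkz hz))
    have := commute_conj huv k
    rwa [hkc] at this
  · exact key ho hua huv hz
  · refine back (key (by rwa [orderOf_conj']) (hk' hua) ?_ (hkz hz))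
    have := commute_conj huv k
    rw [show k * (b * c⁻¹) * k⁻¹ = k * b * k⁻¹ * (k * c * k⁻¹)⁻¹ by group, hkb, hkc, ← mul_inv_rev] at this
    exact Commute.inv_right_iff.1 this

/-- The odd core of `C(a)` is a three-group. -/
theorem three_group (h9 : n = 9) : ∀ w ∈ oddCent a, w ^ 3 ^ 5 = 1 := by
  intro w hw
  let Z : Subgroup G := oddCent a ⊓ Subgroup.centralizer (oddCent a : Set G)
  letI : CommGroup Z :=
    { (inferInstance : Group Z) with
      mul_comm := fun p q => Subtype.ext (Subgroup.mem_centralizer_iff.1 p.2.2 (q : G) q.2.1).symm }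
  have hnorm : ∀ {v : G}, Commute v a → ∀ u : Z, v * (u : G) * v⁻¹ ∈ Z := fun {v} hv u => by
    refine ⟨oddCent_norm hv u.2.1, Subgroup.mem_centralizer_iff.2 fun q hq => ?_⟩
    have h2 := Subgroup.mem_centralizer_iff.1 u.2.2 (v⁻¹ * q * v⁻¹⁻¹) (oddCent_norm hv.inv_left hq)
    have := commute_conj (show Commute (v⁻¹ * q * v⁻¹⁻¹) (u : G) from h2) v
    rwa [show v * (v⁻¹ * q * v⁻¹⁻¹) * v⁻¹ = q by group] at this
  let cj : (v : G) → Commute v a → (Z →* Z) := fun v hv =>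
    { toFun := fun u => ⟨v * u * v⁻¹, hnorm hv u⟩
      map_one' := Subtype.ext (by simp)
      map_mul' := fun p q => Subtype.ext (by simp [mul_assoc]) }
  have hfix : ∀ {v : G}, v = b ∨ v = c ∨ v = b * c ∨ v = b * c⁻¹ → ∀ u : Z, v * (u : G) * v⁻¹ = u → u ^ 27 = 1 := by
    intro v hv u hu
    refine Subtype.ext ?_
    show (u : G) ^ 27 = 1
    have h := E.fixed_part h9 hv (u := (u : G) ^ 3) (oddCent_odd (pow_mem u.2.1 3)) ((oddCent_le u.2.1).pow_left 3)
      ((show Commute (u : G) v from (mul_inv_eq_iff_eq_mul.1 hu).symm).pow_left 3) (E.cube_inverted u.2.1)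
    rwa [← pow_mul] at h
  have hw3 : w ^ 3 ∈ Z := ⟨pow_mem hw 3, Subgroup.mem_centralizer_iff.2 fun q hq =>
    (E.pow_a_cube (oddCent_le hw) (F.oddCent_comm S.le8 E.az E.a3 E.a_supp hq hw).1).eq⟩
  have hord : ∀ {v : G} (hv : Commute v a), v ^ 3 = 1 → ∀ u, cj v hv (cj v hv (cj v hv u)) = u := by
    intro v hv hv3 u
    refine Subtype.ext ?_
    show v * (v * (v * (u : G) * v⁻¹) * v⁻¹) * v⁻¹ = u
    rw [show v * (v * (v * (u : G) * v⁻¹) * v⁻¹) * v⁻¹ = (v * v * v) * u * (v * v * v)⁻¹ by group,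
      ← pow_three', hv3, one_mul, inv_one, mul_one]
  have h := pair_exponent (Z := Z) (cj b E.ab.symm) (cj c E.ac.symm) (hord E.ab.symm E.b3) (hord E.ac.symm E.c3)
    (fun u => Subtype.ext (by
      show b * (c * (u : G) * c⁻¹) * b⁻¹ = c * (b * (u : G) * b⁻¹) * c⁻¹
      rw [show b * (c * (u : G) * c⁻¹) * b⁻¹ = b * c * u * (b * c)⁻¹ by group, E.bc.eq]; group))
    (M := 27)
    (fun u hu => hfix (Or.inl rfl) u (congrArg Subtype.val hu))
    (fun u hu => hfix (Or.inr (Or.inl rfl)) u (congrArg Subtype.val hu))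
    (fun u hu => hfix (Or.inr (Or.inr (Or.inl rfl))) u (by
      have := congrArg Subtype.val hu
      conv_rhs => rw [← this]
      show b * c * (u : G) * (b * c)⁻¹ = b * (c * (u : G) * c⁻¹) * b⁻¹
      group))
    (fun u hu => hfix (Or.inr (Or.inr (Or.inr rfl))) u (by
      have := congrArg Subtype.val hu
      conv_rhs => rw [← this]
      show b * c⁻¹ * (u : G) * (b * c⁻¹)⁻¹ = b * (c * (c * (u : G) * c⁻¹) * c⁻¹) * b⁻¹
      rw [show b * (c * (c * (u : G) * c⁻¹) * c⁻¹) * b⁻¹ = b * (c * c) * u * (b * (c * c))⁻¹ by group,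
        show c * c = c⁻¹ from (inv_eq_of_mul_eq_one_right (by rw [← mul_assoc, ← pow_three', E.c3])).symm]))
    ⟨w ^ 3, hw3⟩
  have h' := congrArg Subtype.val h
  rw [Subgroup.coe_pow, OneMemClass.coe_one, ← pow_mul] at h'
  norm_num at h' ⊢
  exact h'

end Elts

end Cfsg.Agent.AltDoubleCent
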