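import Cfsg.Agent.Lib.AltDoubleCent.Three

/-!
# Translations of a three-cycle by the odd core

Main results: `Tr`, `Elts.tr_exists`, `Elts.tr_beta`, `Elts.tr_symm`, `Elts.tr_cycle`, `Elts.no_fixed`,
`Elts.tr_zero`.
-/

set_option autoImplicit false
set_option linter.style.haveILetI false
set_option linter.unusedSectionVars false
set_option maxHeartbeats 1000000

namespace Cfsg.Agent.AltDoubleCent

open Equiv Equiv.Perm

universe u

variable {G : Type u} [Group G] {n : ℕ} {z : G} {F : Frame G n z}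

namespace Elts

variable {S : Setup F} {x y a b c : G} (E : Elts S x y a b c)
include E
variable [Finite G]

/-- `w` moves `b` to `a ^ i * (b * l)`. -/
def Tr (E : Elts S x y a b c) (w : G) (i : ℕ) (l : G) : Prop :=
  w ∈ oddCent a ∧ l ∈ E.J ∧ w * b * w⁻¹ = a ^ i * (b * l)

lemma J_ab {l : G} (hl : l ∈ E.J) : Commute l a ∧ Commute l b := ⟨oddCent_le hl.1, oddCent_le hl.2.1⟩

lemma tr_of_fix {r : G} (hr : r ∈ oddCent a) (h : b * r * b⁻¹ * r⁻¹ ∈ E.AJ) : ∃ i l, E.Tr r i l := by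
  have h' : r * b * r⁻¹ * b⁻¹ ∈ E.AJ := by
    have := inv_mem h
    rwa [mul_inv_rev, mul_inv_rev, mul_inv_rev, inv_inv, inv_inv, ← mul_assoc, ← mul_assoc] at this
  obtain ⟨u, hu, j, hj, e⟩ := E.AJ_split h'
  obtain ⟨i, rfl⟩ := pick3 E.a3 hu
  refine ⟨i.val, j, hr, hj, ?_⟩
  rw [← (E.J_ab hj).2.eq, ← mul_assoc, ← e, inv_mul_cancel_right]

lemma tr_one {w : G} {i : ℕ} (h : E.Tr w i 1) : w ∈ E.AJ := by
  refine E.mem_AJ.2 ⟨h.1, E.conj_b_eq ?_⟩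
  rw [h.2.2, mul_one, mul_inv_cancel_right]
  exact pow_mem (Subgroup.mem_zpowers a) i

lemma tr_same {w w' l : G} {i i' : ℕ} (h : E.Tr w i l) (h' : E.Tr w' i' l) : w'⁻¹ * w ∈ E.AJ := by
  refine E.mem_AJ.2 ⟨mul_mem (inv_mem h'.1) h.1, E.conj_b_eq ?_⟩
  have hc : Commute (a ^ i * (a ^ i')⁻¹) w' :=
    (((oddCent_le h'.1).pow_right i).mul_right ((oddCent_le h'.1).pow_right i').inv_right).symm
  have e : w'⁻¹ * w * b * (w'⁻¹ * w)⁻¹ * b⁻¹ = a ^ i * (a ^ i')⁻¹ := by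
    rw [show w'⁻¹ * w * b * (w'⁻¹ * w)⁻¹ = w'⁻¹ * (w * b * w⁻¹) * w' by group, h.2.2,
      show a ^ i * (b * l) = a ^ i * (a ^ i')⁻¹ * (w' * b * w'⁻¹) by rw [h'.2.2]; group,
      show w'⁻¹ * (a ^ i * (a ^ i')⁻¹ * (w' * b * w'⁻¹)) * w' =
        w'⁻¹ * (a ^ i * (a ^ i')⁻¹) * w' * b by group, ← hc.inv_right.eq, inv_mul_cancel_right,
      mul_inv_cancel_right]
  rw [e]
  exact mul_mem (pow_mem (Subgroup.mem_zpowers a) i) (inv_mem (pow_mem (Subgroup.mem_zpowers a) i'))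

lemma tr_q {w l : G} (hw : w ∈ oddCent a) (hl : l ∈ E.J) : ∃ q : Fin 3, w * l * w⁻¹ = a ^ q.val * l := by
  obtain ⟨q, hq⟩ := pick3 E.a3 (F.oddCent_comm S.le8 E.az E.a3 E.a_supp hw hl.1).1
  exact ⟨q, mul_inv_eq_iff_eq_mul.1 hq⟩

lemma tr_mul {w w' l l' : G} {i i' q : ℕ} (h : E.Tr w i l) (h' : E.Tr w' i' l')
    (hq : w' * l * w'⁻¹ = a ^ q * l) : E.Tr (w' * w) (i + i' + q) (l' * l) := by
  refine ⟨mul_mem h'.1 h.1, mul_mem h'.2.1 h.2.1, ?_⟩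
  rw [show w' * w * b * (w' * w)⁻¹ = w' * (w * b * w⁻¹) * w'⁻¹ by group, h.2.2,
    show w' * (a ^ i * (b * l)) * w'⁻¹ = w' * a ^ i * w'⁻¹ * ((w' * b * w'⁻¹) * (w' * l * w'⁻¹)) by group,
    h'.2.2, hq, ((oddCent_le h'.1).pow_right i).eq, mul_inv_cancel_right,
    show a ^ i' * (b * l') * (a ^ q * l) = a ^ i' * (b * l' * a ^ q) * l by group,
    ((E.ab.symm.mul_left (E.J_ab h'.2.1).1).pow_right q).eq, pow_add, pow_add]
  simp only [mul_assoc]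

/-- `z` forces the translation to move the translating element. -/
theorem tr_beta {w l : G} {i : ℕ} (h : E.Tr w i l) : w * l * w⁻¹ = a ^ (2 * i) * l := by
  obtain ⟨j, hj⟩ := pick3 E.a3 (F.oddCent_comm S.le8 E.az E.a3 E.a_supp h.1 h.1).2
  rw [← eq_mul_inv_iff_mul_eq] at hj
  have e := congrArg (fun g => z * g * z⁻¹) h.2.2
  beta_reduce at e
  rw [show z * (w * b * w⁻¹) * z⁻¹ = z * w * z⁻¹ * (z * b * z⁻¹) * (z * w * z⁻¹)⁻¹ by group,
    show z * (a ^ i * (b * l)) * z⁻¹ = z * a ^ i * z⁻¹ * (z * b * z⁻¹ * (z * l * z⁻¹)) by group, hj,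
    mul_inv_eq_iff_eq_mul.2 E.bz.symm.eq, mul_inv_eq_iff_eq_mul.2 (E.az.pow_left i).symm.eq, h.2.1.2.2] at e
  have hjb : Commute (a ^ j.val) (w⁻¹ * b * w) :=
    ((((oddCent_le h.1).inv_left.pow_right j.val).symm).mul_right (E.ab.pow_left _)).mul_right
      ((oddCent_le h.1).pow_right j.val).symm
  rw [show a ^ j.val * w⁻¹ * b * (a ^ j.val * w⁻¹)⁻¹ = a ^ j.val * (w⁻¹ * b * w) * (a ^ j.val)⁻¹ by group,
    hjb.eq, mul_inv_cancel_right] at e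
  -- now `w⁻¹ b w` is known
  have e2 : b = w * (a ^ i * (b * l⁻¹)) * w⁻¹ := by rw [← e]; group
  rw [show w * (a ^ i * (b * l⁻¹)) * w⁻¹ = w * a ^ i * w⁻¹ * ((w * b * w⁻¹) * (w * l * w⁻¹)⁻¹) by group,
    ((oddCent_le h.1).pow_right i).eq, mul_inv_cancel_right, h.2.2, ← mul_assoc, eq_mul_inv_iff_mul_eq] at e2
  refine mul_left_cancel (a := b) (e2.trans ?_)
  rw [← mul_assoc (a ^ i), ← pow_add, ← mul_assoc b, (E.ab.symm.pow_right _).eq, two_mul, mul_assoc]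

/-- The commutator pairing is symmetric. -/
theorem tr_symm {w w' l l' : G} {i i' p q : ℕ} (h : E.Tr w i l) (h' : E.Tr w' i' l')
    (hp : w * l' * w⁻¹ = a ^ p * l') (hq : w' * l * w'⁻¹ = a ^ q * l) : a ^ p = a ^ q := by
  have h1 := (E.tr_mul h' h hp).2.2
  have h2 := (E.tr_mul h h' hq).2.2
  obtain ⟨m, hm⟩ := pick3 E.a3 (F.oddCent_comm S.le8 E.az E.a3 E.a_supp h.1 h'.1).1
  have e : w * w' = a ^ m.val * (w' * w) := by rw [← hm]; group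
  rw [e, show a ^ m.val * (w' * w) * b * (a ^ m.val * (w' * w))⁻¹ =
    a ^ m.val * (w' * w * b * (w' * w)⁻¹) * (a ^ m.val)⁻¹ by group, h2,
    (((Commute.refl a).pow_right _).mul_right (E.ab.mul_right ((E.J_ab h'.2.1).1.mul_left (E.J_ab h.2.1).1).symm)
      |>.pow_left m.val).eq, mul_inv_cancel_right, E.J_comm h'.2.1 h.2.1 |>.eq, add_comm i' i] at h1
  have h3 := mul_right_cancel h1
  rw [pow_add, pow_add (a := a) (m := i + i') (n := p)] at h3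
  exact (mul_left_cancel h3).symm

lemma tr_iota {i0 : G} (hi : Commute i0 z) (hia : i0 * a * i0⁻¹ = a⁻¹) (hib : i0 * b * i0⁻¹ = b⁻¹) {w l : G}
    {i : ℕ} (h : E.Tr w i l) : E.Tr (i0 * w * i0⁻¹) i (i0 * l * i0⁻¹)⁻¹ := by
  have hl := E.J_inverts hi (Or.inr hia) (Or.inr hib) h.2.1
  have hw : i0 * w * i0⁻¹ ∈ oddCent a := by
    have := oddCent_conj i0 h.1
    rwa [hia, oddCent_inv_eq] at this
  refine ⟨hw, inv_mem hl, ?_⟩
  have e := congrArg (fun g => (i0 * g * i0⁻¹)⁻¹) h.2.2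
  beta_reduce at e
  rw [show (i0 * (w * b * w⁻¹) * i0⁻¹)⁻¹ = i0 * w * i0⁻¹ * (i0 * b * i0⁻¹)⁻¹ * (i0 * w * i0⁻¹)⁻¹ by group, hib,
    inv_inv, show (i0 * (a ^ i * (b * l)) * i0⁻¹)⁻¹ =
      (i0 * l * i0⁻¹)⁻¹ * (i0 * b * i0⁻¹)⁻¹ * ((i0 * a * i0⁻¹) ^ i)⁻¹ by rw [conj_pow]; group, hib, hia,
    inv_inv, inv_pow, inv_inv] at e
  rw [e, (((E.J_ab hl).1.inv_left.mul_left E.ab.symm).pow_right i).eq, (E.J_ab hl).2.inv_left.eq]

lemma tr_kappa {k : G} (hk : Commute k z) (hka : Commute k a) (hkb : k * b * k⁻¹ = b⁻¹) {w l : G}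
    {i : ℕ} (h : E.Tr w i l) : E.Tr (k * w * k⁻¹) (2 * i) (k * l * k⁻¹)⁻¹ := by
  have hl := E.J_inverts hk (Or.inl (mul_inv_eq_iff_eq_mul.2 hka.eq)) (Or.inr hkb) h.2.1
  refine ⟨oddCent_norm hka h.1, inv_mem hl, ?_⟩
  have e := congrArg (fun g => (k * g * k⁻¹)⁻¹) h.2.2
  beta_reduce at e
  rw [show (k * (w * b * w⁻¹) * k⁻¹)⁻¹ = k * w * k⁻¹ * (k * b * k⁻¹)⁻¹ * (k * w * k⁻¹)⁻¹ by group, hkb,
    inv_inv, show (k * (a ^ i * (b * l)) * k⁻¹)⁻¹ =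
      (k * l * k⁻¹)⁻¹ * (k * b * k⁻¹)⁻¹ * ((k * a * k⁻¹) ^ i)⁻¹ by rw [conj_pow]; group, hkb,
    mul_inv_eq_iff_eq_mul.2 hka.eq, inv_inv] at e
  rw [e, (((E.J_ab hl).1.inv_left.mul_left E.ab.symm).pow_right i).inv_right.eq, (E.J_ab hl).2.inv_left.eq,
    show (a ^ i)⁻¹ = a ^ (2 * i) from inv_eq_of_mul_eq_one_left (by
      rw [← pow_add, show 2 * i + i = 3 * i by ring, pow_mul, E.a3, one_pow])]

variable (hk : Nat.card (E.Jfix y) = 3) (h9 : n = 9)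
include hk h9

lemma not_all_b : ¬ oddCent a ≤ E.AJ := fun h => by
  have h1 := E.card_J_nine hk
  rw [(Subgroup.eq_bot_iff_forall _).2 (E.b_nontrivial h), Subgroup.card_bot] at h1
  omega

lemma exists_w1 : ∃ r i l, E.Tr r i l ∧ l ≠ 1 := by
  obtain ⟨w, hw, hwN⟩ := SetLike.not_le_iff_exists.1 (E.not_all_b hk h9)
  obtain ⟨r, hr, hrN, hrv⟩ := exists_fixed_step (O := oddCent a) (N := E.AJ) (v := b) (M := 5) inf_le_left
    (fun w hw => oddCent_norm E.ab.symm hw)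
    (fun w hw => by
      rw [(E.mem_AJ.1 hw).2.symm.eq, mul_inv_cancel_right]; exact hw)
    (fun u hu w hw => Subgroup.zpowers_le.2 E.a_mem (F.oddCent_comm S.le8 E.az E.a3 E.a_supp hu hw).1)
    E.b3 (E.three_group h9) hw hwN
  obtain ⟨i, l, h⟩ := E.tr_of_fix hr hrv
  exact ⟨r, i, l, h, fun e => hrN (E.tr_one (e ▸ h))⟩

/-- Every inverted element is a translation. -/
theorem tr_exists {l : G} (hl : l ∈ E.J) : ∃ w i, E.Tr w i l := by
  let L : Subgroup G :=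
    { carrier := {l | ∃ w i, E.Tr w i l}
      one_mem' := ⟨1, 0, one_mem _, one_mem _, by simp⟩
      mul_mem' := by
        rintro p q ⟨w', i', h'⟩ ⟨w, i, h⟩
        obtain ⟨e, he⟩ := E.tr_q h'.1 h.2.1
        exact ⟨_, _, E.tr_mul h h' he⟩
      inv_mem' := by
        rintro p ⟨w, i, h⟩
        obtain ⟨e, he⟩ := E.tr_q h.1 h.2.1
        have hp : p⁻¹ = p * p := inv_eq_of_mul_eq_one_right (by rw [← mul_assoc, ← pow_three', E.J_cube h.2.1])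
        exact ⟨_, _, hp ▸ E.tr_mul h h he⟩ }
  obtain ⟨i0, hi, hi2, hia, hib, -, -⟩ := E.exists_iota
  obtain ⟨r, i, l0, h, h1⟩ := E.exists_w1 hk h9
  refine (E.J_gen hk hi2 h.2.1 h1 (H := L) ⟨r, i, h⟩ (E.J_inverts hi (Or.inr hia) (Or.inr hib) h.2.1) ?_) hl
  have := L.inv_mem ⟨_, _, E.tr_iota hi hia hib h⟩
  rwa [inv_inv] at this

/-- Translations move the third cycle by inverted elements too. -/
theorem tr_cycle {c' : G} (hc : c' = c ∨ c' = c⁻¹) {w l : G} {i : ℕ} (h : E.Tr w i l) :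
    ∃ (s : ℕ) (M : G), M ∈ E.J ∧ w * c' * w⁻¹ = a ^ s * (c' * M) := by
  have hca : Commute c' a := by rcases hc with rfl | rfl; exacts [E.ac.symm, E.ac.symm.inv_left]
  have hcb : Commute c' b := by rcases hc with rfl | rfl; exacts [E.bc.symm, E.bc.symm.inv_left]
  have hcJ : ∀ j ∈ E.J, Commute c' j := fun j hj => by
    rcases hc with rfl | rfl; exacts [E.c_J hk j hj, (E.c_J hk j hj).inv_left]
  have h' : E.Tr (c' * w * c'⁻¹) i l := ⟨oddCent_norm hca h.1, h.2.1, by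
    rw [show c' * w * c'⁻¹ * b * (c' * w * c'⁻¹)⁻¹ = c' * (w * (c'⁻¹ * b * c') * w⁻¹) * c'⁻¹ by group,
      hcb.inv_left.eq, inv_mul_cancel_right, h.2.2,
      ((hca.pow_right i).mul_right (hcb.mul_right (hcJ l h.2.1))).eq, mul_inv_cancel_right]⟩
  have hm := E.tr_same h h'
  have hm2 : w * c' * w⁻¹ * c'⁻¹ ∈ E.AJ := by
    have h2 := oddCent_norm (k := c') hca (g := a) h.1
    have hmem : (c' * w * c'⁻¹) * ((c' * w * c'⁻¹)⁻¹ * w) * (c' * w * c'⁻¹)⁻¹ ∈ E.AJ := by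
      have := mul_mem (Subgroup.zpowers_le.2 E.a_mem
        (F.oddCent_comm S.le8 E.az E.a3 E.a_supp h2 (E.mem_AJ.1 hm).1).1) hm
      rwa [inv_mul_cancel_right] at this
    rwa [show c' * w * c'⁻¹ * ((c' * w * c'⁻¹)⁻¹ * w) * (c' * w * c'⁻¹)⁻¹ = w * c' * w⁻¹ * c'⁻¹ by group] at hmem
  obtain ⟨u, hu, M, hM, e⟩ := E.AJ_split hm2
  obtain ⟨s, rfl⟩ := pick3 E.a3 hu
  exact ⟨s.val, M, hM, by rw [(hcJ M hM).eq, ← mul_assoc, ← e, inv_mul_cancel_right]⟩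

/-- No element outside `AJ` commutes with `b * c'` modulo `a`. -/
theorem no_fixed {c' : G} (hc : c' = c ∨ c' = c⁻¹) {w : G} (hw : w ∈ oddCent a)
    (hfix : b * c' * w * (b * c')⁻¹ * w⁻¹ ∈ Subgroup.zpowers a) : w ∈ E.AJ := by
  have hca : Commute c' a := by rcases hc with rfl | rfl; exacts [E.ac.symm, E.ac.symm.inv_left]
  have hcb : Commute c' b := by rcases hc with rfl | rfl; exacts [E.bc.symm, E.bc.symm.inv_left]
  have hcJ : ∀ j ∈ E.J, Commute c' j := fun j hj => by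
    rcases hc with rfl | rfl; exacts [E.c_J hk j hj, (E.c_J hk j hj).inv_left]
  by_contra hwN
  -- fixed elements of `O` modulo `a`
  have hfixed : ∀ (v : G), Commute v a → ∃ Q : Subgroup G, ∀ g, g ∈ Q ↔
      g ∈ oddCent a ∧ v * g * v⁻¹ * g⁻¹ ∈ Subgroup.zpowers a := fun v hv =>
    ⟨{ carrier := {g | g ∈ oddCent a ∧ v * g * v⁻¹ * g⁻¹ ∈ Subgroup.zpowers a}
       one_mem' := ⟨one_mem _, by simp⟩
       mul_mem' := by
        rintro p q ⟨hp, hp'⟩ ⟨hq, hq'⟩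
        obtain ⟨i, hi⟩ := pick3 E.a3 hq'
        obtain ⟨j, hj⟩ := pick3 E.a3 hp'
        rw [mul_inv_eq_iff_eq_mul] at hi hj
        refine ⟨mul_mem hp hq, ?_⟩
        rw [show v * (p * q) * v⁻¹ * (p * q)⁻¹ = v * p * v⁻¹ * (v * q * v⁻¹) * q⁻¹ * p⁻¹ by group, hi, hj,
          show a ^ j.val * p * (a ^ i.val * q) * q⁻¹ * p⁻¹ = a ^ j.val * (p * a ^ i.val * p⁻¹) by group,
          ((oddCent_le hp).pow_right _).eq, mul_inv_cancel_right]
        exact mul_mem (pow_mem (Subgroup.mem_zpowers a) _) (pow_mem (Subgroup.mem_zpowers a) _)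
       inv_mem' := by
        rintro p ⟨hp, hp'⟩
        obtain ⟨j, hj⟩ := pick3 E.a3 hp'
        rw [mul_inv_eq_iff_eq_mul] at hj
        refine ⟨inv_mem hp, ?_⟩
        rw [show v * p⁻¹ * v⁻¹ * p⁻¹⁻¹ = (v * p * v⁻¹)⁻¹ * p by group, hj,
          show (a ^ j.val * p)⁻¹ * p = p⁻¹ * (a ^ j.val)⁻¹ * p by group,
          ((oddCent_le hp).inv_left.pow_right _).inv_right.eq, inv_mul_cancel_right]
        exact inv_mem (pow_mem (Subgroup.mem_zpowers a) _) }, fun g => Iff.rfl⟩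
  have hva : Commute (b * c') a := E.ab.symm.mul_left hca
  obtain ⟨Q, hQ⟩ := hfixed (b * c') hva
  have hAQ : E.AJ ≤ Q := fun g hg => by
    refine (hQ g).2 ⟨(E.mem_AJ.1 hg).1, ?_⟩
    obtain ⟨u, hu, j, hj, rfl⟩ := E.AJ_split hg
    obtain ⟨i, rfl⟩ := pick3 E.a3 hu
    rw [((hva.pow_right i.val).mul_right ((E.J_ab hj).2.symm.mul_left (hcJ j hj))).eq, mul_inv_cancel_right,
      mul_inv_cancel]
    exact one_mem _
  obtain ⟨r, hrQ, hrN, hrv⟩ := exists_fixed_step (O := Q) (N := E.AJ) (v := b) (M := 5) hAQ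
    (fun g hg => by
      obtain ⟨hg1, hg2⟩ := (hQ g).1 hg
      refine (hQ _).2 ⟨oddCent_norm E.ab.symm hg1, ?_⟩
      obtain ⟨i, hi⟩ := pick3 E.a3 hg2
      rw [show b * c' * (b * g * b⁻¹) * (b * c')⁻¹ * (b * g * b⁻¹)⁻¹ =
        b * ((c' * b) * g * (c' * b)⁻¹ * g⁻¹) * b⁻¹ by group, hcb.eq, hi, (E.ab.symm.pow_right _).eq,
        mul_inv_cancel_right]
      exact pow_mem (Subgroup.mem_zpowers a) _)
    (fun g hg => by rw [(E.mem_AJ.1 hg).2.symm.eq, mul_inv_cancel_right]; exact hg)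
    (fun u hu g hg => Subgroup.zpowers_le.2 E.a_mem
      (F.oddCent_comm S.le8 E.az E.a3 E.a_supp ((hQ u).1 hu).1 ((hQ g).1 hg).1).1)
    E.b3 (fun g hg => E.three_group h9 g ((hQ g).1 hg).1) ((hQ w).2 ⟨hw, hfix⟩) hwN
  obtain ⟨hr, hr'⟩ := (hQ r).1 hrQ
  obtain ⟨i, l, htr⟩ := E.tr_of_fix hr hrv
  have hl1 : l ≠ 1 := fun e => hrN (E.tr_one (e ▸ htr))
  let L : Subgroup G :=
    { carrier := {l | ∃ g i, g ∈ Q ∧ E.Tr g i l}
      one_mem' := ⟨1, 0, one_mem _, one_mem _, one_mem _, by simp⟩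
      mul_mem' := by
        rintro p q ⟨w', i', hw', h'⟩ ⟨w, i, hw, h⟩
        obtain ⟨e, he⟩ := E.tr_q h'.1 h.2.1
        exact ⟨_, _, mul_mem hw' hw, E.tr_mul h h' he⟩
      inv_mem' := by
        rintro p ⟨w, i, hw, h⟩
        obtain ⟨e, he⟩ := E.tr_q h.1 h.2.1
        have hp : p⁻¹ = p * p := inv_eq_of_mul_eq_one_right (by rw [← mul_assoc, ← pow_three', E.J_cube h.2.1])
        exact ⟨_, _, mul_mem hw hw, hp ▸ E.tr_mul h h he⟩ }
  obtain ⟨k, hkz, hk2, hka, hkb, hkc⟩ := E.exists_kappa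
  have hkc' : k * c' * k⁻¹ = c'⁻¹ := by
    rcases hc with rfl | rfl
    · exact hkc
    · rw [show k * c⁻¹ * k⁻¹ = (k * c * k⁻¹)⁻¹ by group, hkc]
  have hkQ : k * r * k⁻¹ ∈ Q := by
    refine (hQ _).2 ⟨oddCent_norm hka hr, ?_⟩
    obtain ⟨j, hj⟩ := pick3 E.a3 hr'
    rw [mul_inv_eq_iff_eq_mul] at hj
    -- the inverse of `b * c'` also fixes `r`
    have e2 : (b * c')⁻¹ * r * (b * c') = (a ^ j.val)⁻¹ * r := by
      have := congrArg (fun g => (b * c')⁻¹ * g * (b * c')) hj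
      beta_reduce at this
      rw [show (b * c')⁻¹ * (b * c' * r * (b * c')⁻¹) * (b * c') = r by group,
        show (b * c')⁻¹ * (a ^ j.val * r) * (b * c') = (b * c')⁻¹ * a ^ j.val * (b * c') *
          ((b * c')⁻¹ * r * (b * c')) by group, (hva.inv_left.pow_right j.val).eq, inv_mul_cancel_right] at this
      rw [eq_inv_mul_iff_mul_eq, ← this]
    have hkbc : k * (b * c') * k⁻¹ = (b * c')⁻¹ := by
      rw [show k * (b * c') * k⁻¹ = k * b * k⁻¹ * (k * c' * k⁻¹) by group, hkb, hkc', mul_inv_rev,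
        hcb.inv_inv.eq]
    rw [show b * c' * (k * r * k⁻¹) * (b * c')⁻¹ * (k * r * k⁻¹)⁻¹ =
      k * ((k⁻¹ * (b * c') * k) * r * (k⁻¹ * (b * c') * k)⁻¹ * r⁻¹) * k⁻¹ by group,
      show k⁻¹ * (b * c') * k = (b * c')⁻¹ by
        rw [← inv_inj, inv_inv, show (k⁻¹ * (b * c') * k)⁻¹ = k⁻¹ * (b * c')⁻¹ * k by group, ← hkbc]; group,
      inv_inv, e2, mul_inv_cancel_right, (hka.pow_right _).inv_right.eq, mul_inv_cancel_right]
    exact inv_mem (pow_mem (Subgroup.mem_zpowers a) _)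
  have hLJ : E.J ≤ L := E.J_gen hk hk2 htr.2.1 hl1 ⟨r, i, hrQ, htr⟩
    (E.J_inverts hkz (Or.inl (mul_inv_eq_iff_eq_mul.2 hka.eq)) (Or.inr hkb) htr.2.1) (by
      have := L.inv_mem ⟨_, _, hkQ, E.tr_kappa hkz hka hkb htr⟩
      rwa [inv_inv] at this)
  obtain ⟨i0, hi, hi2, hia, hib, hic, -⟩ := E.exists_iota
  obtain ⟨g, i', hg, hgtr⟩ := hLJ (E.tr_iota hi hia hib htr).2.1
  have hboth : i0 * r * i0⁻¹ ∈ Q := by
    have := mul_mem hg (hAQ (E.tr_same (E.tr_iota hi hia hib htr) hgtr))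
    rwa [mul_inv_cancel_left] at this
  obtain ⟨-, h1⟩ := (hQ _).1 hboth
  -- transport back: `r` is also fixed by `b⁻¹ * c'`
  have hic' : Commute i0 c' := by rcases hc with rfl | rfl; exacts [hic, hic.inv_right]
  have h2 : (b⁻¹ * c') * r * (b⁻¹ * c')⁻¹ * r⁻¹ ∈ Subgroup.zpowers a := by
    obtain ⟨j, hj⟩ := pick3 E.a3 h1
    have := congrArg (fun g => i0⁻¹ * g * i0) hj
    beta_reduce at this
    rw [show i0⁻¹ * (b * c' * (i0 * r * i0⁻¹) * (b * c')⁻¹ * (i0 * r * i0⁻¹)⁻¹) * i0 =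
      (i0⁻¹ * b * i0 * (i0⁻¹ * c' * i0)) * r * (i0⁻¹ * b * i0 * (i0⁻¹ * c' * i0))⁻¹ * r⁻¹ by group,
      show i0⁻¹ * b * i0 = b⁻¹ by
        rw [show i0⁻¹ * b * i0 = (i0⁻¹ * (i0 * b * i0⁻¹) * i0)⁻¹ by rw [hib]; group]; group,
      hic'.inv_left.eq, inv_mul_cancel_right,
      show i0⁻¹ * a ^ j.val * i0 = (i0⁻¹ * a * i0) ^ j.val by
        rw [show i0⁻¹ * a * i0 = i0⁻¹ * a * i0⁻¹⁻¹ by rw [inv_inv], conj_pow, inv_inv],
      show i0⁻¹ * a * i0 = a⁻¹ by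
        rw [show i0⁻¹ * a * i0 = (i0⁻¹ * (i0 * a * i0⁻¹) * i0)⁻¹ by rw [hia]; group]; group] at this
    rw [this]
    exact pow_mem (inv_mem (Subgroup.mem_zpowers a)) _
  -- so the square of `b` fixes `r` modulo `a`
  obtain ⟨j, hj⟩ := pick3 E.a3 hr'
  obtain ⟨m, hm⟩ := pick3 E.a3 h2
  rw [mul_inv_eq_iff_eq_mul] at hj hm
  have hbm : b⁻¹ * r * b * r⁻¹ ∈ Subgroup.zpowers a := by
    -- `b⁻¹ * c'` is `b * c'` times `b`, as `b ^ 3 = 1`
    have e : b⁻¹ * c' = b * (b * c') := by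
      rw [← mul_assoc, show b * b = b⁻¹ from (inv_eq_of_mul_eq_one_right (by rw [← mul_assoc, ← pow_three', E.b3])).symm]
    rw [e, show b * (b * c') * r * (b * (b * c'))⁻¹ = b * (b * c' * r * (b * c')⁻¹) * b⁻¹ by group, hj,
      show b * (a ^ j.val * r) * b⁻¹ = b * a ^ j.val * b⁻¹ * (b * r * b⁻¹) by group,
      (E.ab.symm.pow_right _).eq, mul_inv_cancel_right] at hm
    have e1 : b * r * b⁻¹ = (a ^ j.val)⁻¹ * (a ^ m.val * r) := by rw [← hm, inv_mul_cancel_left]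
    have e2 : b * r * b⁻¹ * r⁻¹ ∈ Subgroup.zpowers a := by
      rw [e1, ← mul_assoc, mul_inv_cancel_right]
      exact mul_mem (inv_mem (pow_mem (Subgroup.mem_zpowers a) _)) (pow_mem (Subgroup.mem_zpowers a) _)
    obtain ⟨p, hp⟩ := pick3 E.a3 e2
    rw [mul_inv_eq_iff_eq_mul] at hp
    have e3 : b⁻¹ * r * b = (a ^ p.val)⁻¹ * r := by
      rw [eq_inv_mul_iff_mul_eq]
      have := congrArg (fun g => b⁻¹ * g * b) hp
      beta_reduce at this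
      rw [show b⁻¹ * (b * r * b⁻¹) * b = r by group,
        show b⁻¹ * (a ^ p.val * r) * b = b⁻¹ * a ^ p.val * b * (b⁻¹ * r * b) by group,
        (E.ab.symm.inv_left.pow_right _).eq, inv_mul_cancel_right] at this
      exact this.symm
    rw [e3, mul_inv_cancel_right]
    exact inv_mem (pow_mem (Subgroup.mem_zpowers a) _)
  refine hrN (E.mem_AJ.2 ⟨hr, E.conj_b_eq ?_⟩)
  obtain ⟨p, hp⟩ := pick3 E.a3 hbm
  rw [mul_inv_eq_iff_eq_mul] at hp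
  have hp' : r = a ^ p.val * (b * r * b⁻¹) := by
    have := congrArg (fun g => b * g * b⁻¹) hp
    beta_reduce at this
    rwa [show b * (b⁻¹ * r * b) * b⁻¹ = r by group,
      show b * (a ^ p.val * r) * b⁻¹ = b * a ^ p.val * b⁻¹ * (b * r * b⁻¹) by group,
      (E.ab.symm.pow_right _).eq, mul_inv_cancel_right] at this
  have : r * b * r⁻¹ * b⁻¹ = a ^ p.val := by
    conv_lhs => arg 1; arg 1; arg 1; rw [hp']
    group
  rw [this]
  exact pow_mem (Subgroup.mem_zpowers a) _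

/-- When the generators fixed by `y` translate without `a`, the odd core centralises `J`. -/
theorem tr_zero {d0 : G} (hd0 : d0 ∈ E.Jfix y) (hd1 : d0 ≠ 1) {w0 : G} (h0 : E.Tr w0 0 d0) :
    ∀ l ∈ E.J, ∃ w, E.Tr w 0 l ∧ ∀ j ∈ E.J, Commute w j := by
  obtain ⟨i0, hi, hi2, hia, hib, -, -⟩ := E.exists_iota
  have h1 := E.tr_iota hi hia hib h0
  set d1 := (i0 * d0 * i0⁻¹)⁻¹ with hd1'
  set w1 := i0 * w0 * i0⁻¹ with hw1
  have b0 : w0 * d0 * w0⁻¹ = d0 := by rw [E.tr_beta h0, mul_zero, pow_zero, one_mul]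
  have b1 : w1 * d1 * w1⁻¹ = d1 := by rw [E.tr_beta h1, mul_zero, pow_zero, one_mul]
  obtain ⟨p, hp⟩ := E.tr_q h0.1 h1.2.1
  obtain ⟨q, hq⟩ := E.tr_q h1.1 h0.2.1
  have hpq := E.tr_symm h0 h1 hp hq
  have hq1 : a ^ q.val = 1 := by
    -- transporting by `i0` changes the sign
    have e := congrArg (fun g => i0 * g * i0⁻¹) hp
    beta_reduce at e
    have hd : i0 * d1 * i0⁻¹ = d0 := by
      rw [hd1', show i0 * (i0 * d0 * i0⁻¹)⁻¹ * i0⁻¹ = (i0 * i0 * d0 * (i0 * i0)⁻¹)⁻¹ by simp [mul_assoc], hi2,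
        h0.2.1.2.2, inv_inv]
    rw [show i0 * (w0 * d1 * w0⁻¹) * i0⁻¹ = w1 * (i0 * d1 * i0⁻¹) * w1⁻¹ by rw [hw1]; group,
      show i0 * (a ^ p.val * d1) * i0⁻¹ = (i0 * a * i0⁻¹) ^ p.val * (i0 * d1 * i0⁻¹) by rw [conj_pow]; group,
      hd, hia, hq, inv_pow, hpq] at e
    have h2 : a ^ q.val * a ^ q.val = 1 := mul_eq_one_iff_eq_inv.2 (mul_right_cancel e)
    have h3 : (a ^ q.val) ^ 3 = 1 := by rw [← pow_mul, mul_comm, pow_mul, E.a3, one_pow]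
    rwa [pow_succ, pow_two, h2, one_mul] at h3
  rw [hq1, one_mul] at hq
  rw [hpq, hq1, one_mul] at hp
  -- the translations centralising `J`
  let L : Subgroup G :=
    { carrier := {l | ∃ w, E.Tr w 0 l ∧ ∀ j ∈ E.J, Commute w j}
      one_mem' := ⟨1, ⟨one_mem _, one_mem _, by simp⟩, fun j _ => Commute.one_left j⟩
      mul_mem' := by
        rintro p' q' ⟨w', h', hJ'⟩ ⟨w, h, hJ⟩
        refine ⟨w' * w, ?_, fun j hj => (hJ' j hj).mul_left (hJ j hj)⟩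
        exact E.tr_mul (q := 0) h h' (by rw [pow_zero, one_mul, (hJ' q' h.2.1).eq, mul_inv_cancel_right])
      inv_mem' := by
        rintro p' ⟨w, h, hJ⟩
        have hp : p'⁻¹ = p' * p' := inv_eq_of_mul_eq_one_right (by rw [← mul_assoc, ← pow_three', E.J_cube h.2.1])
        exact ⟨w * w, hp ▸ E.tr_mul (q := 0) h h (by rw [pow_zero, one_mul, (hJ p' h.2.1).eq, mul_inv_cancel_right]),
          fun j hj => (hJ j hj).mul_left (hJ j hj)⟩ }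
  have hdJ := ((E.mem_Jfix).1 hd0).1
  have hwJ : ∀ w, w * d0 * w⁻¹ = d0 → w * d1 * w⁻¹ = d1 → ∀ j ∈ E.J, Commute w j := by
    intro w e0 e1 j hj
    refine (Subgroup.mem_centralizer_singleton_iff.1 ((E.J_gen hk hi2 hdJ hd1
      (H := Subgroup.centralizer ({w} : Set G))
      (Subgroup.mem_centralizer_singleton_iff.2 (mul_inv_eq_iff_eq_mul.1 e0).symm)
      (E.J_inverts hi (Or.inr hia) (Or.inr hib) hdJ) ?_) hj)).symm
    have := Subgroup.inv_mem _ (Subgroup.mem_centralizer_singleton_iff.2 (mul_inv_eq_iff_eq_mul.1 e1).symm :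
      d1 ∈ Subgroup.centralizer ({w} : Set G))
    rwa [hd1', inv_inv] at this
  intro l hl
  exact (E.J_gen hk hi2 hdJ hd1 (H := L) ⟨w0, h0, hwJ w0 b0 hp⟩ (E.J_inverts hi (Or.inr hia) (Or.inr hib) hdJ)
    (by have := L.inv_mem ⟨w1, h1, hwJ w1 hq b1⟩; rwa [hd1', inv_inv] at this)) hl

end Elts

end Cfsg.Agent.AltDoubleCent
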